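import Mathlib
import Cfsg.Agent.H17.KnDef2
import Cfsg.Agent.H89.Sy

/-!
# No element acts on `E` as a nontrivial element of the group of transvections `ch l`
-/

set_option autoImplicit false
set_option maxRecDepth 100000

namespace Cfsg.Agent.H71.KnPb1

open Equiv Subgroup Cfsg.Agent.H63 Cfsg.Agent.H8.GD Cfsg.Agent.H17.Kn
open Cfsg.Agent.H11.A16 hiding z2
open Cfsg.Agent.H89.Rec (Syl)

universe u

theorem zp_zero : zp 0 = 1 := rfl
theorem zp_mul (a b : ZMod 2) : zp a * zp b = zp (a + b) := by revert a b; decide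
theorem zp_sq (a : ZMod 2) : zp a * zp a = 1 := by revert a; decide
theorem zp_EE (a : ZMod 2) : zp a ∈ EE := by revert a; decide +kernel
theorem zp_AP (a : ZMod 2) : zp a ∈ AP := by revert a; decide +kernel
theorem zp_AA (a : ZMod 2) : zp a ∈ AA := by revert a; decide +kernel
theorem zp_eq_one (a : ZMod 2) : zp a = 1 → a = 0 := by revert a; decide
theorem zp_comm (m : N2) (a : ZMod 2) : m * zp a = zp a * m :=
  N2.ext (by simp [zp]) (funext fun p => by simp [zp, add_comm])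
theorem zp_cj (m : N2) (a : ZMod 2) : m * zp a * m⁻¹ = zp a := by
  rw [zp_comm, mul_inv_cancel_right]
theorem xe_AA (i : Fin 5) : xe i 4 ∈ AA := by revert i; decide +kernel
theorem xe_sq (i : Fin 5) : xe i 4 * xe i 4 = 1 := by revert i; decide +kernel
theorem xe_comm (i j : Fin 5) : xe i 4 * xe j 4 = xe j 4 * xe i 4 := by revert i j; decide +kernel
theorem xe_ne (i : Fin 5) : i ≠ 0 → i ≠ 4 → xe i 4 ≠ 1 ∧ xe i 4 ≠ z2 := by
  revert i; decide +kernel
theorem dl_PP (p : P) : dl p ∈ PP := rfl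
theorem xe04 : xe 0 4 = z2 := rfl
theorem xe44 : xe 4 4 = 1 := rfl

theorem par_inv (a : N2) : par a⁻¹ = par a := Equiv.sum_comp a.σ⁻¹ a.f

theorem PP_AE {e u : N2} (he : e ∈ PP) (hu : u ∈ AE) : e * u * e⁻¹ ∈ AE := by
  have h1 : e.σ = 1 := he
  refine ⟨?_, ?_⟩
  · change (e * u * e⁻¹).σ ∈ TR
    have : (e * u * e⁻¹).σ = u.σ := by simp [h1]
    rw [this]; exact hu.1
  · change par (e * u * e⁻¹) = 0
    rw [par_mul, par_mul, par_inv, show par u = 0 from hu.2, add_zero]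
    generalize par e = c; revert c; decide

theorem comm_EE {e : N2} (he : e ∈ PP) (u : N2) : u⁻¹ * (e * u * e⁻¹) ∈ EE := by
  have h1 : e.σ = 1 := he
  refine ⟨?_, ?_⟩
  · change (u⁻¹ * (e * u * e⁻¹)).σ = 1
    simp [h1]
  · change par (u⁻¹ * (e * u * e⁻¹)) = 0
    rw [par_mul, par_mul, par_mul, par_inv, par_inv]
    generalize par e = c; generalize par u = d; revert c d; decide

theorem fin_l (l : Fin 3 → ZMod 2)
    (h : ∀ k ∈ [xe 1 2, xe 2 3, xe 2 1, xe 3 2], ∀ e ∈ [dl 3 * dl 7, dl 5 * dl 7, dl 6 * dl 7],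
      ch l e + ch l (k * e * k⁻¹) = 0) : l 0 = 0 ∧ l 1 = 0 ∧ l 2 = 0 := by
  revert l; decide +kernel

theorem fin_k : ∀ k ∈ [xe 1 2, xe 2 3, xe 2 1, xe 3 2], k ∈ QK := by decide +kernel
theorem fin_e : ∀ e ∈ [dl 3 * dl 7, dl 5 * dl 7, dl 6 * dl 7], e ∈ EE := by decide +kernel

variable {G : Type u} [Group G] {J : N2 → G} {φ : G → Perm Ω}

/-- `g` acts on `E` as a transvection. -/
def Act (J : N2 → G) (g : G) (χ : N2 → ZMod 2) : Prop := ∀ e ∈ EE, R J g e (e * zp (χ e))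

theorem R_mul {X : Subgroup N2} (h : Em J X) {g : G} {u v u' v' : N2} (hu : u ∈ X) (hv : v ∈ X)
    (hu' : u' ∈ X) (hv' : v' ∈ X) (a : R J g u u') (b : R J g v v') : R J g (u * v) (u' * v') := by
  unfold R at *
  rw [h.mul _ hu _ hv, h.mul _ hu' _ hv', ← a, ← b]; group

theorem R_inv {X : Subgroup N2} (h : Em J X) {g : G} {u u' : N2} (hu : u ∈ X)
    (hu' : u' ∈ X) (a : R J g u u') : R J g u⁻¹ u'⁻¹ := by
  unfold R at *
  rw [h.inv hu, h.inv hu', ← a]; group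

theorem R_one {X : Subgroup N2} (h : Em J X) (g : G) : R J g 1 1 := by
  unfold R; rw [h.one]; group

theorem R_uniq {X : Subgroup N2} (h : Em J X) {g : G} {u v w : N2} (hv : v ∈ X) (hw : w ∈ X)
    (a : R J g u v) (b : R J g u w) : v = w := h.inj _ hv _ hw (Eq.trans (Eq.symm a) b)

theorem R_zp (h : Em J AE) {g : G} (a : R J g z2 z2) (c : ZMod 2) : R J g (zp c) (zp c) := by
  have : c = 0 ∨ c = 1 := by revert c; decide
  rcases this with rfl | rfl
  · exact R_one h g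
  · exact a

variable [Finite G]

section

variable (hB : Base.{u}) (h : E0 J φ)
include hB h

theorem eAE : EE ≤ AE := hB.m2.le.2.2.2.2.2.1
theorem aAE : AA ≤ AE := hB.m2.le.2.2.2.1.trans hB.m2.le.2.2.1
theorem pT0 : AP ≤ T0 := hB.m2.le.2.2.2.2.1.trans hB.m2.le.2.1

theorem R_EE {e u : N2} (he : e ∈ EE) (hu : u ∈ EE) : R J (J e) u u := by
  have := h.emE.self (eAE hB h he) (eAE hB h hu)
  rwa [(hB.m2.ab.1 e he.1 u hu.1).eq, mul_inv_cancel_right] at this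

theorem Act.shift {x : G} {χ : N2 → ZMod 2} (hx : Act J x χ) {e : N2} (he : e ∈ EE) :
    Act J (J e * x) χ := fun u hu =>
  (hx u hu).trans (R_EE hB h he (mul_mem hu (zp_EE _)))

/-- An element of the normaliser of `A` does not act as a transvection. -/
theorem lz {x : G} {χ : N2 → ZMod 2} (hN : x ∈ NA J) (hx : Act J x χ) (h0 : ∀ b ∈ AP, χ b = 0) :
    ∀ e ∈ EE, χ e = 0 := by
  have K := hB.kit J φ h.toKi
  have hc : ∀ b ∈ AP, R J x b b := fun b hb => by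
    have := hx b (hB.m2.le.1 hb)
    rwa [h0 b hb, zp_zero, mul_one] at this
  obtain ⟨k, hk, ek⟩ := K.nz x hN (by
    have := hc z2 (zp_AP 1)
    unfold R at this
    exact mul_inv_eq_iff_eq_mul.1 this)
  have kc : ∀ b ∈ AP, Commute k b := fun b hb => by
    have := K.down x hN b (pT0 hB h hb) b (pT0 hB h hb) (hc b hb)
    rw [ek, ← map_inv, ← map_mul, ← map_mul] at this
    exact mul_inv_eq_iff_eq_mul.1 (pm2_inj this)
  have kE : k ∈ EE := hB.m3.cAP k (hB.m2.le.2.2.2.2.2.2.2.2.2.1 hk) kc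
  have kT : k⁻¹ ∈ T0 := inv_mem (pT0 hB h (hB.m3.qk k hk kE.1))
  have oN : J k⁻¹ * x ∈ NA J := mul_mem (K.le _ kT) hN
  have o1 : φ (J k⁻¹ * x) = 1 := by
    rw [h.mul _ (K.le _ kT) _ hN, h.res _ kT, ek, ← map_mul, inv_mul_cancel, map_one]
  intro e he
  have a := Act.shift hB h hx (inv_mem kE) e he
  unfold R at a
  rw [h.emE.mul _ (eAE hB h he) _ (eAE hB h (zp_EE _))] at a
  have := hB.gen.odd1 _ _ _ 1 (h.ker _ oN o1)
    (show Commute (J k⁻¹ * x) (J (zp (χ e))) from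
      ((mem_centralizer_iff.1 (K.kerC _ oN o1)) _ (mem_im (zp_AA _))).symm) a (by
      rw [pow_one, pow_two, ← h.emE.mul _ (eAE hB h (zp_EE _)) _ (eAE hB h (zp_EE _)), zp_sq,
        h.emE.one])
  exact zp_eq_one _ (h.emE.inj _ (eAE hB h (zp_EE _)) _ (one_mem _) (this.trans h.emE.one.symm))

/-- An element that centralises `A` modulo `E` acts on `A` as a sign change. -/
theorem cplx {x : G} (hz : R J x z2 z2)
    (hx : ∀ i : Fin 5, i ≠ 0 → i ≠ 4 → ∃ c ∈ EE, R J x (xe i 4) (xe i 4 * c)) :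
    ∃ e ∈ PP, Ex J x e AA := by
  obtain ⟨a, ha, ra⟩ := hx 1 (by decide) (by decide)
  obtain ⟨b, hb, rb⟩ := hx 2 (by decide) (by decide)
  obtain ⟨c, hc, rc⟩ := hx 3 (by decide) (by decide)
  have m : ∀ i : Fin 5, xe i 4 ∈ AE := fun i => aAE hB h (xe_AA i)
  have m' : ∀ (i : Fin 5) {a : N2}, a ∈ EE → xe i 4 * a ∈ AE := fun i _ ha =>
    mul_mem (m i) (eAE hB h ha)
  have sq : ∀ (i : Fin 5) {a : N2}, a ∈ EE → R J x (xe i 4) (xe i 4 * a) →
      (xe i 4 * a) ^ 2 = 1 := fun i a ha ra => by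
    have := R_mul h.emE (m i) (m i) (m' i ha) (m' i ha) ra ra
    rw [xe_sq] at this
    rw [pow_two]
    exact R_uniq h.emE (mul_mem (m' i ha) (m' i ha)) (one_mem _) this (R_one h.emE x)
  have cm : ∀ (i j : Fin 5) {a b : N2}, a ∈ EE → b ∈ EE → R J x (xe i 4) (xe i 4 * a) →
      R J x (xe j 4) (xe j 4 * b) → Commute (xe i 4 * a) (xe j 4 * b) :=
    fun i j a b ha hb ra rb => by
    have h1 := R_mul h.emE (m i) (m j) (m' i ha) (m' j hb) ra rb
    have h2 := R_mul h.emE (m j) (m i) (m' j hb) (m' i ha) rb ra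
    rw [xe_comm] at h1
    exact R_uniq h.emE (mul_mem (m' i ha) (m' j hb)) (mul_mem (m' j hb) (m' i ha)) h1 h2
  obtain ⟨e, he, e1, e2, e3⟩ := hB.m3.cpl a ha.1 b hb.1 c hc.1 (sq 1 ha ra) (sq 2 hb rb)
    (sq 3 hc rc) (cm 1 2 ha hb ra rb) (cm 1 3 ha hc ra rc) (cm 2 3 hb hc rb rc)
  let K : Subgroup N2 :=
    { carrier := {u | u ∈ AE ∧ R J x u (e * u * e⁻¹)}
      one_mem' := ⟨one_mem _, by rw [mul_one, mul_inv_cancel]; exact R_one h.emE x⟩
      mul_mem' := fun {u v} hu hv => ⟨mul_mem hu.1 hv.1, by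
        have := R_mul h.emE hu.1 hv.1 (PP_AE he hu.1) (PP_AE he hv.1) hu.2 hv.2
        rwa [conj_mul] at this⟩
      inv_mem' := fun {u} hu => ⟨inv_mem hu.1, by
        have := R_inv h.emE hu.1 (PP_AE he hu.1) hu.2
        rwa [conj_inv] at this⟩ }
  have hK : AA ≤ K := hB.m2.gAA K fun i => ⟨m i, by
    have hi : i = 0 ∨ i = 1 ∨ i = 2 ∨ i = 3 ∨ i = 4 := by revert i; decide
    rcases hi with rfl | rfl | rfl | rfl | rfl
    · rw [xe04, z2, zp_cj]; exact hz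
    · rw [e1]; exact ra
    · rw [e2]; exact rb
    · rw [e3]; exact rc
    · rw [xe44, mul_one, mul_inv_cancel]; exact R_one h.emE x⟩
  exact ⟨e, he, fun u hu => (hK hu).2⟩

theorem two {x : G} {χ : N2 → ZMod 2} (ha : Act J x χ) (h0 : ∀ b ∈ AP, χ b = 0)
    (hx : ∀ i : Fin 5, i ≠ 0 → i ≠ 4 → ∃ c ∈ EE, R J x (xe i 4) (xe i 4 * c)) :
    (∀ e ∈ EE, χ e = 0) ∨ ∃ y, Ex J y (dl 0) AA ∧ Act J y χ := by
  have hz : R J x z2 z2 := by
    have := ha z2 (zp_EE 1)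
    rwa [h0 z2 (zp_AP 1), zp_zero, mul_one] at this
  obtain ⟨e, he, ex⟩ := cplx hB h hz hx
  have k : ∀ e' ∈ EE, Ex J (J e' * x) (e' * e) AA := fun e' he' u hu => by
    have := (ex u hu).trans (h.emE.self (eAE hB h he') (PP_AE he (aAE hB h hu)))
    convert this using 1; group
  rcases hB.m2.iPP e he with h1 | h1
  · left
    refine lz hB h ((hB.kit J φ h.toKi).mna _ fun a ha => ⟨a, ha, ?_⟩)
      (Act.shift hB h ha (inv_mem h1)) h0
    have := k _ (inv_mem h1) a ha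
    simpa using this
  · right
    refine ⟨_, ?_, Act.shift hB h ha (inv_mem h1)⟩
    have := k _ (inv_mem h1)
    have t : ((dl 0)⁻¹ * e)⁻¹ * e = dl 0 := by
      rw [mul_inv_rev, inv_inv, mul_assoc, (hB.m2.ab.1 _ (dl_PP 0) e he).eq, inv_mul_cancel_left]
    rwa [t] at this

/-- The action of a realiser on `E`. -/
theorem real {k : N2} (hk : k ∈ QK) : ∃ y, (∀ a ∈ AA, R J y a (k * a * k⁻¹)) ∧
    ∀ e ∈ EE, ∃ c, R J y e (k * e * k⁻¹ * zp c) := by
  have K := hB.kit J φ h.toKi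
  obtain ⟨y, yN, ey, yE⟩ := h.rk k hk
  have emE := h.emE.mono (eAE hB h)
  have kA := ((hB.m2.nrm k).2.2.2.1 hk).1
  have kA' := ((hB.m2.nrm k⁻¹).2.2.2.1 (inv_mem hk)).1
  have kP := ((hB.m2.nrm k).2.2.2.1 hk).2
  have kE := (hB.m2.nrm k).2.1
  have kQ := ((hB.m2.nrm k).2.2.2.2.1 (hB.m2.le.2.2.2.2.2.2.2.2.2.1 hk))
  have hA : ∀ a ∈ AA, R J y a (k * a * k⁻¹) := fun a ha =>
    K.onA y yN a ha _ (kA a ha) (by rw [ey, map_mul, map_mul, map_inv])
  have hE : ∀ e ∈ EE, ∃ e' ∈ EE, R J y e e' := fun e he => by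
    obtain ⟨e', he', r⟩ := emE.mem.1 ((mem_normalizer_iff.1 yE _).1 (mem_im he))
    exact ⟨e', he', r.symm⟩
  have hP : ∀ b ∈ AP, R J y b (k * b * k⁻¹) := fun b hb => by
    obtain ⟨e', he', r⟩ := hE b (hB.m2.le.1 hb)
    have n : J e' ∈ NA J := by
      rw [← r]
      exact mul_mem (mul_mem yN (K.le _ (pT0 hB h hb))) (inv_mem yN)
    have p : e' ∈ AP := hB.m3.nPA e' he'.1 fun a ha => by
      have h1 := (mem_normalizer_iff.1 n _).1 (mem_im ha)
      rw [h.emE.self (eAE hB h he') (aAE hB h ha)] at h1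
      exact (h.emE.mem_iff (aAE hB h) (PP_AE he'.1 (aAE hB h ha))).1 h1
    have := K.down y yN b (pT0 hB h hb) e' (pT0 hB h p) r
    rw [ey, ← map_inv, ← map_mul, ← map_mul] at this
    rw [pm2_inj this]; exact r
  have hQ : ∀ q ∈ QQ, R J y q (k * q * k⁻¹) := fun q hq => by
    obtain ⟨a, ha, b, hb, rfl⟩ := hB.m2.pQQ q hq
    have := R_mul h.emE (aAE hB h ha) (eAE hB h (hB.m2.le.1 hb)) (aAE hB h (kA a ha))
      (eAE hB h (hB.m2.le.1 (kP b hb))) (hA a ha) (hP b hb)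
    rwa [conj_mul] at this
  refine ⟨y, hA, fun e he => ?_⟩
  obtain ⟨e', he', r⟩ := hE e he
  have eQ : e ∈ QE := by
    refine ⟨?_, he.2⟩
    change e.σ ∈ AG
    rw [show e.σ = 1 from he.1]; exact one_mem _
  have key : ∀ a ∈ AA, Commute ((k * e * k⁻¹)⁻¹ * e') a := fun a ha => by
    have a1 := kA' a ha
    have q1 := ((hB.m2.nrm e).2.2.2.2.1 eQ).1 _ (hB.m2.le.2.2.2.1 a1)
    have r1 := hQ _ q1
    have r0 := hA _ a1
    have r2 := R_mul h.emE (mul_mem (eAE hB h he) (aAE hB h a1)) (inv_mem (eAE hB h he))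
      (mul_mem (eAE hB h he') (aAE hB h (kA _ a1))) (inv_mem (eAE hB h he'))
      (R_mul h.emE (eAE hB h he) (aAE hB h a1) (eAE hB h he') (aAE hB h (kA _ a1)) r r0)
      (R_inv h.emE (eAE hB h he) (eAE hB h he') r)
    have := R_uniq h.emE (hB.m2.le.2.2.1 (kQ.1 _ q1))
      (mul_mem (mul_mem (eAE hB h he') (aAE hB h (kA _ a1))) (inv_mem (eAE hB h he'))) r1 r2
    have t : e' * a * e'⁻¹ = (k * e * k⁻¹) * a * (k * e * k⁻¹)⁻¹ := by
      have u1 : k * (k⁻¹ * a * k⁻¹⁻¹) * k⁻¹ = a := by group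
      rw [u1] at this
      rw [← this]; group
    change _ * _ = _ * _
    calc (k * e * k⁻¹)⁻¹ * e' * a = (k * e * k⁻¹)⁻¹ * (e' * a * e'⁻¹) * e' := by group
      _ = _ := by rw [t]; group
  rcases hB.m3.cPA _ (mul_mem (inv_mem (kE e he).1) he'.1) key with h1 | h1
  · exact ⟨0, by rw [zp_zero, mul_one, inv_mul_eq_one.1 h1]; exact r⟩
  · exact ⟨1, by rw [show zp 1 = z2 from rfl, ← h1, mul_inv_cancel_left]; exact r⟩

theorem memC {x : G} : x ∈ C[im J EE] ↔ ∀ e ∈ EE, R J x e e := by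
  have emE := h.emE.mono (eAE hB h)
  rw [mem_centralizer_iff]
  refine ⟨fun a e he => ?_, fun a y hy => ?_⟩
  · unfold R
    rw [← a _ (mem_im he), mul_inv_cancel_right]
  · obtain ⟨e, he, rfl⟩ := emE.mem.1 hy
    exact (mul_inv_eq_iff_eq_mul.1 (a e he)).symm

theorem Act.inv {g : G} {l : Fin 3 → ZMod 2} (hg : Act J g (ch l)) : Act J g⁻¹ (ch l) :=
  fun e he => by
  have chm := hB.m3.chm l
  have := hg _ (mul_mem he (zp_EE (ch l e)))
  rw [chm.1 _ he _ (zp_EE _), chm.2 _ (zp_AP _), add_zero, mul_assoc, zp_sq, mul_one] at this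
  exact this.symm

theorem Act.div {x y : G} {l : Fin 3 → ZMod 2} (hx : Act J x (ch l)) (hy : Act J y (ch l)) :
    x * y⁻¹ ∈ C[im J EE] := (memC hB h).2 fun e he => by
  have := (Act.inv hB h hy e he).trans (Act.inv hB h hx e he).symm
  rwa [inv_inv] at this

theorem Act.nrm {g : G} {l : Fin 3 → ZMod 2} (hg : Act J g (ch l)) : g ∈ N[im J EE] := by
  have emE := h.emE.mono (eAE hB h)
  have k : ∀ g, Act J g (ch l) → ∀ y ∈ im J EE, g * y * g⁻¹ ∈ im J EE := fun g hg y hy => by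
    obtain ⟨e, he, rfl⟩ := emE.mem.1 hy
    rw [hg e he]; exact mem_im (mul_mem he (zp_EE _))
  refine mem_normalizer_iff.2 fun y => ⟨k g hg y, fun a => ?_⟩
  have := k _ (Act.inv hB h hg) _ a
  simpa [mul_assoc] using this

theorem Act.mulC {g c d : G} {χ : N2 → ZMod 2} (hg : Act J g χ) (hc : c ∈ C[im J EE])
    (hd : d ∈ C[im J EE]) : Act J (c * (g * d)) χ := fun e he =>
  (((memC hB h).1 hd e he).trans (hg e he)).trans ((memC hB h).1 hc _ (mul_mem he (zp_EE _)))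

theorem ch_cj (l : Fin 3 → ZMod 2) {u e : N2} (hu : u ∈ AE) (he : e ∈ EE) :
    ch l (u * e * u⁻¹) = ch l e := by
  have chm := hB.m3.chm l
  obtain ⟨a, ha, e', he', rfl⟩ := hB.m2.pAE u hu
  have eQ : e ∈ QE := by
    refine ⟨?_, he.2⟩
    change e.σ ∈ AG
    rw [show e.σ = 1 from he.1]; exact one_mem _
  have q1 := ((hB.m2.nrm e).2.2.2.2.1 eQ).1 _ (hB.m2.le.2.2.2.1 (inv_mem ha))
  have q2 := mul_mem (hB.m2.le.2.2.2.1 ha) q1
  have p : a * (e * a⁻¹ * e⁻¹) ∈ PP := by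
    have := mul_mem ((hB.m2.nrm a).1 e he.1) (inv_mem he.1)
    convert this using 1; group
  have ap := hB.m3.qk _ (hB.m2.le.2.1 q2).1 p
  have t : a * e' * e * (a * e')⁻¹ = a * (e * a⁻¹ * e⁻¹) * e := by
    rw [mul_assoc a e' e, (hB.m2.ab.1 _ he'.1 _ he.1).eq]; group
  rw [t, chm.1 _ (hB.m2.le.1 ap) _ he, chm.2 _ ap, zero_add]

theorem Act.cj {g : G} {l : Fin 3 → ZMod 2} (hg : Act J g (ch l)) {u : N2} (hu : u ∈ AE) :
    Act J ((J u)⁻¹ * (g * J u)) (ch l) := fun e he => by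
  have m := (hB.m2.nrm u).2.1 e he
  have r1 := hg _ m
  rw [ch_cj hB h l hu he] at r1
  have r2 := h.emE.self hu (eAE hB h (mul_mem he (zp_EE (ch l e))))
  rw [← conj_mul, zp_cj] at r2
  exact ((h.emE.self hu (eAE hB h he)).trans r1).trans r2.symm

/-- Passage to a 2-group. -/
theorem syl {g : G} {l : Fin 3 → ZMod 2} (hg : Act J g (ch l)) : ∃ S : Subgroup G,
    IsPGroup 2 S ∧ im J AE ≤ S ∧ S ≤ N[im J EE] ∧ ∃ x ∈ S, Act J x (ch l) ∧
      ∀ a ∈ AA, (J a)⁻¹ * (x * J a * x⁻¹) ∈ C[im J EE] := by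
  have emE := h.emE.mono (eAE hB h)
  have nC : ∀ m ∈ N[im J EE], ∀ c ∈ C[im J EE], m * c * m⁻¹ ∈ C[im J EE] := fun m hm c hc => by
    rw [mem_centralizer_iff] at hc ⊢
    intro y hy
    have := hc _ ((mem_normalizer_iff.1 (inv_mem hm) y).1 hy)
    calc y * (m * c * m⁻¹) = m * (m⁻¹ * y * m⁻¹⁻¹ * c) * m⁻¹ := by group
      _ = _ := by rw [this]; group
  let M : Subgroup G :=
    { carrier := {m | m ∈ N[im J EE] ∧ m * g * m⁻¹ * g⁻¹ ∈ C[im J EE]}
      one_mem' := ⟨one_mem _, by simp⟩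
      mul_mem' := fun {a b} ha hb => ⟨mul_mem ha.1 hb.1, by
        have := mul_mem (nC a ha.1 _ hb.2) ha.2
        convert this using 1; group⟩
      inv_mem' := fun {a} ha => ⟨inv_mem ha.1, by
        have := nC _ (inv_mem ha.1) _ (inv_mem ha.2)
        convert this using 1; group⟩ }
  have hM : im J AE ≤ M := im_le fun u hu => ⟨by
    refine mem_normalizer_iff.2 fun y => ⟨fun hy => ?_, fun hy => ?_⟩
    · obtain ⟨e, he, rfl⟩ := emE.mem.1 hy
      rw [h.emE.self hu (eAE hB h he)]; exact mem_im ((hB.m2.nrm u).2.1 e he)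
    · obtain ⟨e, he, r⟩ := emE.mem.1 hy
      have := h.emE.self (inv_mem hu) (eAE hB h he)
      unfold R at this
      rw [r, h.emE.inv hu] at this
      have t : y = J (u⁻¹ * e * u⁻¹⁻¹) := by rw [← this]; group
      rw [t]; exact mem_im ((hB.m2.nrm u⁻¹).2.1 e he), by
    have := Act.div hB h (Act.cj hB h hg (inv_mem hu)) hg
    rw [h.emE.inv hu] at this
    convert this using 1; group⟩
  have gM : g ∈ M := ⟨Act.nrm hB h hg, by simp⟩
  have two : IsPGroup 2 (im J AE) := h.emE.two (hB.m1.two.to_le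
    (hB.m2.le.2.2.2.2.2.2.1.trans (hB.m2.le.2.2.2.2.2.2.2.2.1.trans inf_le_left)))
  obtain ⟨S, S2, hS, SM, hsyl, -⟩ := hB.gen.ovs M (im J AE) two (hM.trans le_normalizer)
  rw [sup_eq_left.2 hM] at SM hsyl
  obtain ⟨i, j, n, e1, e2, e3⟩ := Cfsg.Agent.H89.Rec.exists_parts g
  have gg : g * g ∈ C[im J EE] := by
    have := Act.div hB h hg (Act.inv hB h hg)
    rwa [inv_inv] at this
  have gj : g ^ j ∈ C[im J EE] := Cfsg.Agent.H89.Rec.mem_of_odd_of_pow e3 (n := 1) (by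
    rw [pow_one, ← pow_mul, mul_comm j 2, pow_mul, pow_two]; exact pow_mem gg j)
  obtain ⟨m, hm, xS⟩ := hsyl.exists_conj (pow_mem gM i) e2
  have ax : Act J (m * g ^ i * m⁻¹) (ch l) := by
    have := Act.mulC hB h hg hm.2 (nC m hm.1 _ (inv_mem gj))
    have t : g ^ i = g * (g ^ j)⁻¹ := eq_mul_inv_of_mul_eq e1.symm
    rw [t]
    generalize g ^ j = d at this ⊢
    convert this using 1
    group
  refine ⟨S, S2, hS, fun s hs => (SM hs).1, _, xS, ax, fun a ha => ?_⟩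
  have := Act.div hB h (Act.cj hB h ax (aAE hB h ha)) ax
  convert this using 1; group

end

theorem pb1 (hB : Base.{u}) (h2 : Pb2Stmt.{u}) : Pb1Stmt.{u} := by
  intro G _ _ J φ h g l hg
  have chm := hB.m3.chm l
  obtain ⟨S, S2, hS, SN, x, xS, hx, xc⟩ := syl hB h hg
  have emE := h.emE.mono (eAE hB h)
  have h1 : ∀ i : Fin 5, i ≠ 0 → i ≠ 4 → ∃ c ∈ EE, R J x (xe i 4) (xe i 4 * c) := fun i i0 i4 => by
    have aS : J (xe i 4) ∈ S := hS (mem_im (aAE hB h (xe_AA i)))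
    have cS : (J (xe i 4))⁻¹ * (x * J (xe i 4) * x⁻¹) ∈ S :=
      mul_mem (inv_mem aS) (mul_mem (mul_mem xS aS) (inv_mem xS))
    have cE : (J (xe i 4))⁻¹ * (x * J (xe i 4) * x⁻¹) ∈ im J EE := by
      rcases h2 J φ h S S2 hS SN with p | ⟨p, p1⟩
      · exact p _ cS (xc _ (xe_AA i))
      · refine p1.ninv _ (xe_AA i) (xe_ne i i0 i4).1 (xe_ne i i0 i4).2 _ cS (xc _ (xe_AA i)) ?_
        rw [mul_inv_cancel_left, conj_pow, pow_two,
          ← h.emE.mul _ (aAE hB h (xe_AA i)) _ (aAE hB h (xe_AA i)), xe_sq, h.emE.one]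
        group
    obtain ⟨c, hc, e⟩ := emE.mem.1 cE
    refine ⟨c, hc, ?_⟩
    unfold R
    rw [h.emE.mul _ (aAE hB h (xe_AA i)) _ (eAE hB h hc), e, mul_inv_cancel_left]
  rcases two hB h hx chm.2 h1 with h0 | ⟨g1, e1, a1⟩
  · exact h0
  have z1 : R J g1 z2 z2 := by
    have := a1 z2 (zp_EE 1)
    rwa [chm.2 z2 (zp_AP 1), zp_zero, mul_one] at this
  have main : ∀ k ∈ QK, (∀ e ∈ EE, ch l e = 0) ∨
      ∀ e ∈ EE, ch l e + ch l (k * e * k⁻¹) = 0 := fun k hk => by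
    obtain ⟨y, yA, yE⟩ := real hB h hk
    have kA := ((hB.m2.nrm k).2.2.2.1 hk).1
    have kP := ((hB.m2.nrm k).2.2.2.1 hk).2
    have kE := (hB.m2.nrm k).2.1
    have kE' := (hB.m2.nrm k⁻¹).2.1
    have zy : R J y z2 z2 := by
      have := yA z2 (zp_AA 1)
      rwa [z2, zp_cj] at this
    have yE' : ∀ e ∈ EE, ∃ e' ∈ EE, R J y⁻¹ e e' := fun e he => by
      obtain ⟨c, r⟩ := yE _ (kE' e he)
      have u1 : k * (k⁻¹ * e * k⁻¹⁻¹) * k⁻¹ = e := by group
      rw [u1] at r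
      have := R_mul h.emE (eAE hB h (mul_mem he (zp_EE c))) (eAE hB h (zp_EE c))
        (eAE hB h (kE' e he)) (eAE hB h (zp_EE c)) r.symm (R_zp h.emE zy c).symm
      rw [mul_assoc, zp_sq, mul_one] at this
      exact ⟨_, mul_mem (kE' e he) (zp_EE c), this⟩
    have a2 : Act J (y⁻¹ * (g1 * y)) fun e => ch l (k * e * k⁻¹) := fun e he => by
      obtain ⟨c, r⟩ := yE e he
      have m1 := mul_mem (kE e he) (zp_EE c)
      have r1 := a1 _ m1
      rw [chm.1 _ (kE e he) _ (zp_EE c), chm.2 _ (zp_AP c), add_zero] at r1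
      exact (r.trans r1).trans (R_mul h.emE (eAE hB h m1) (eAE hB h (zp_EE _)) (eAE hB h he)
        (eAE hB h (zp_EE _)) r.symm (R_zp h.emE zy _).symm)
    have p2 : ∀ b ∈ AP, ch l (k * b * k⁻¹) = 0 := fun b hb => chm.2 _ (kP b hb)
    have x2 : ∀ i : Fin 5, i ≠ 0 → i ≠ 4 →
        ∃ c ∈ EE, R J (y⁻¹ * (g1 * y)) (xe i 4) (xe i 4 * c) := fun i _ _ => by
      have r := yA _ (xe_AA i)
      have a' := kA _ (xe_AA i)
      have r1 := e1 _ a'
      have c1 := comm_EE (dl_PP 0) (k * xe i 4 * k⁻¹)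
      obtain ⟨c, hc, r2⟩ := yE' _ c1
      have r3 := R_mul h.emE (aAE hB h a') (eAE hB h c1) (aAE hB h (xe_AA i)) (eAE hB h hc)
        r.symm r2
      rw [mul_inv_cancel_left] at r3
      exact ⟨c, hc, (r.trans r1).trans r3⟩
    rcases two hB h a2 p2 x2 with h0 | ⟨g3, e3, a3⟩
    · left
      intro e he
      have := h0 _ (kE' e he)
      have u1 : k * (k⁻¹ * e * k⁻¹⁻¹) * k⁻¹ = e := by group
      rwa [u1] at this
    · right
      refine lz hB h (x := g1⁻¹ * g3) (χ := fun e => ch l e + ch l (k * e * k⁻¹))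
        ((hB.kit J φ h.toKi).mna _ fun a ha => ⟨a, ha, (e3 a ha).trans (e1 a ha).symm⟩)
        (fun e he => ?_) (fun b hb => by rw [chm.2 b hb, p2 b hb, add_zero])
      refine (a3 e he).trans (R.symm ?_)
      have := R_mul h.emE (eAE hB h he) (eAE hB h (zp_EE _))
        (eAE hB h (mul_mem he (zp_EE _))) (eAE hB h (zp_EE _)) (a1 e he)
        (R_zp h.emE z1 (ch l e + ch l (k * e * k⁻¹)))
      rw [mul_assoc e, zp_mul, ← add_assoc, z2add, zero_add] at this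
      exact this
  by_contra hn
  obtain ⟨l0, l1, l2⟩ := fin_l l fun k hk e he =>
    (main k (fin_k k hk)).resolve_left hn e (fin_e e he)
  exact hn fun e _ => by simp [ch, l0, l1, l2]

end Cfsg.Agent.H71.KnPb1
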