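import Cfsg.Agent.H37.FkKit
import Cfsg.Agent.H98.Transport

/-! Abelian or TI Sylow subgroups give constrained fusion systems. -/

set_option autoImplicit false

namespace Cfsg.Agent.H71.FkCon

open Cfsg Subgroup Cfsg.Agent.H37.FK
open scoped Pointwise

universe u

variable {K : Type*} [Group K] [Finite K]

/-- If the normalizer of `S` controls fusion, the system is constrained. -/
theorem con_of_control (S : Sylow 2 K)
    (h : ∀ P : Subgroup K, P ≤ S → ∀ g : K, (∀ x ∈ P, g * x * g⁻¹ ∈ (S : Subgroup K)) →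
      ∃ n ∈ normalizer ((S : Subgroup K) : Set K), ∀ x ∈ P, n * x * n⁻¹ = g * x * g⁻¹) :
    (groupFusionSystem (S : Subgroup K)).IsConstrained 2 := by
  refine H97.isConstrained_of_isNormal_top (H98.group_isSaturated S) ⟨le_rfl, ?_⟩
  rintro P φ ⟨hP, hφ, g, hg⟩
  obtain ⟨n, hn, hx⟩ := h P hP g fun x hx => hg ⟨x, hx⟩ ▸ hφ ⟨x, hx⟩
  have hle : P ⊔ (S : Subgroup K) ≤ S := sup_le hP le_rfl
  refine ⟨(MulAut.conj n).toMonoidHom.comp (Subgroup.subtype _),
    ⟨hle, fun x => (mem_normalizer_iff.1 hn x).1 (hle x.2), n, fun _ => rfl⟩,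
    fun x => (hx x x.2).trans (hg x).symm, le_antisymm ?_ fun y hy => ?_⟩
  · rintro _ ⟨x, hx, rfl⟩
    exact (mem_normalizer_iff.1 hn x).1 hx
  · have h1 : n⁻¹ * y * n ∈ (S : Subgroup K) :=
      (mem_normalizer_iff.1 hn _).2 (by simpa [mul_assoc] using hy)
    exact ⟨⟨_, mem_sup_right h1⟩, h1, by simp [mul_assoc]⟩

theorem mem_norm_of_smul {S : Sylow 2 K} {n : K} (h : n • S = S) :
    n ∈ normalizer ((S : Subgroup K) : Set K) := Sylow.smul_eq_iff_mem_normalizer.1 h

theorem mem_smul {S : Sylow 2 K} {g x : K} :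
    x ∈ ((g⁻¹ • S : Sylow 2 K) : Subgroup K) ↔ g * x * g⁻¹ ∈ (S : Subgroup K) := by
  rw [Sylow.coe_subgroup_smul, Subgroup.mem_pointwise_smul_iff_inv_smul_mem]
  simp

theorem con_ab (S : Sylow 2 K)
    (hc : ∀ a ∈ (S : Subgroup K), ∀ b ∈ (S : Subgroup K), a * b = b * a) :
    (groupFusionSystem (S : Subgroup K)).IsConstrained 2 := by
  refine con_of_control S fun P hP g hg => ?_
  have h1 : (S : Subgroup K) ≤ centralizer (P : Set K) := fun s hs =>
    mem_centralizer_iff.2 fun x hx => hc x (hP hx) s hs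
  have h2 : ((g⁻¹ • S : Sylow 2 K) : Subgroup K) ≤ centralizer (P : Set K) := fun s hs =>
    mem_centralizer_iff.2 fun x hx => by
      have := hc _ (hg x hx) _ (mem_smul.1 hs)
      rwa [conj_mul, conj_mul, mul_left_inj, mul_right_inj] at this
  obtain ⟨c, hc'⟩ := MulAction.exists_smul_eq (centralizer (P : Set K)) (S.subtype h1)
    ((g⁻¹ • S).subtype h2)
  rw [Sylow.smul_subtype] at hc'
  have h3 : (c : K) • S = g⁻¹ • S := Sylow.subtype_injective hc'
  refine ⟨g * c, mem_norm_of_smul (by rw [mul_smul, h3, smul_inv_smul]), fun x hx => ?_⟩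
  have h4 := mem_centralizer_iff.1 c.2 x hx
  rw [mul_inv_rev, mul_assoc g, ← h4]
  group

theorem con_ti (h : TI K) (S : Sylow 2 K) :
    (groupFusionSystem (S : Subgroup K)).IsConstrained 2 := by
  refine con_of_control S fun P hP g hg => ?_
  by_cases e : S = g⁻¹ • S
  · exact ⟨g, mem_norm_of_smul (by nth_rw 1 [e]; rw [smul_inv_smul]), fun _ _ => rfl⟩
  · refine ⟨1, one_mem _, fun x hx => ?_⟩
    have : x ∈ (⊥ : Subgroup K) := h _ _ e ▸ ⟨hP hx, mem_smul.2 (hg x hx)⟩
    rw [mem_bot.1 this]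
    simp

theorem fsc_congr {K' : Type*} [Group K'] (e : K ≃* K') (h : FSC K') : FSC K := by
  intro S
  obtain ⟨R, hR⟩ := exists_sylow_equiv e.symm S
  exact (h R).imp (H98.group_isSimple_of_equiv e S R)
    (H98.fsIso_mulEquiv e.symm _ fun x => (hR x).symm).isConstrained

theorem ab (S : Sylow 2 K)
    (hc : ∀ a ∈ (S : Subgroup K), ∀ b ∈ (S : Subgroup K), a * b = b * a) : FSC K := by
  intro R
  obtain ⟨g, rfl⟩ := MulAction.exists_smul_eq K S R
  refine Or.inr (con_ab _ fun a ha b hb => ?_)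
  rw [← inv_inv g] at ha hb
  have := hc _ (mem_smul.1 ha) _ (mem_smul.1 hb)
  rwa [conj_mul, conj_mul, mul_left_inj, mul_right_inj] at this

theorem con : ConStmt.{u} :=
  ⟨fun _ _ _ S hc => ab S hc, fun _ _ _ h S => Or.inr (con_ti h S),
    fun _ _ _ _ _ e h => fsc_congr e h⟩

end Cfsg.Agent.H71.FkCon
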