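import Cfsg.Agent.H46.J2Defs

/-! A criterion for a standard subgroup. -/

set_option autoImplicit false

namespace Cfsg.Agent.H71.S94Std

open Subgroup Cfsg.Agent.H8 Cfsg.Agent.H46.S94
open scoped Pointwise

universe u

theorem std : STDStmt.{u} := by
  intro G _ _ M E hM h8 hE h4 hc hn
  have : Fact (Nat.Prime 2) := ⟨Nat.prime_two⟩
  have KN : centralizer (M : Set G) ≤ normalizer (M : Set G) := centralizer_le_normalizer _
  have into : ∀ i ∈ centralizer (M : Set G), orderOf i = 2 →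
      ∃ k ∈ centralizer (M : Set G), k * i * k⁻¹ ∈ E ∧ k * i * k⁻¹ ≠ 1 := fun i hi h2 => by
    obtain ⟨k, hk, hle⟩ := hE.exists_conj_le (Q := zpowers i)
      (IsPGroup.of_card (n := 1) (by rw [Nat.card_zpowers, h2, pow_one])) (zpowers_le.2 hi)
    refine ⟨k, hk, hle (conj_mem_conj_smul.2 (mem_zpowers i)), fun e => ?_⟩
    rw [conj_eq_one_iff.1 e, orderOf_one] at h2
    omega
  have key : ∀ i ∈ centralizer (M : Set G), orderOf i = 2 → ∀ g : G,
      g * i * g⁻¹ ∈ centralizer (M : Set G) → g ∈ normalizer (M : Set G) := fun i hi h2 g hg => by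
    obtain ⟨k1, hk1, a1, a2⟩ := into i hi h2
    obtain ⟨k2, hk2, b1, b2⟩ := into _ hg (by
      rw [← h2]
      exact (MulAut.conj g).orderOf_eq i)
    obtain ⟨k3, hk3, e⟩ := hc _ a1 a2 _ b1 b2
    have h1 := hn _ a1 a2 (k3⁻¹ * k2 * g * k1⁻¹) (by
      calc k3⁻¹ * k2 * g * k1⁻¹ * (k1 * i * k1⁻¹)
          = k3⁻¹ * (k2 * (g * i * g⁻¹) * k2⁻¹) * (k2 * g * k1⁻¹) := by group
        _ = _ := by rw [← e]; group)
    have h3 : g = k2⁻¹ * k3 * (k3⁻¹ * k2 * g * k1⁻¹) * k1 := by group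
    rw [h3]
    exact mul_mem (mul_mem (mul_mem (inv_mem (KN hk2)) (KN hk3)) h1) (KN hk1)
  have NK : normalizer (M : Set G) ≤ normalizer (centralizer (M : Set G) : Set G) := fun g hg => by
    rw [mem_normalizer_iff_conj_smul_eq, ← centralizer_conj_smul,
      mem_normalizer_iff_conj_smul_eq.1 hg]
  have hK := card_eq_card_mul_relIndex hE.le
  have hodd := hE.not_dvd
  refine ⟨hM, ⟨?_, fun g hg => ?_⟩, fun g _ e => ?_, le_antisymm NK fun g hg => ?_⟩
  · rw [hK, h4]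
    exact ⟨2 * _, by ring⟩
  · by_contra h
    obtain ⟨i, hi⟩ := exists_prime_orderOf_dvd_card' 2 (even_iff_two_dvd.1 (Nat.not_odd_iff_even.1 h))
    refine hg (NK ?_)
    rw [← inv_mem_iff]
    refine key i i.2.1 (by rw [Subgroup.orderOf_coe, hi]) g⁻¹ ?_
    rw [inv_inv]
    exact mem_conj_smul.1 i.2.2
  · rw [commutator_comm, commutator_eq_bot_iff_le_centralizer] at e
    have h1 := (card_conj_smul M g ▸ h8).trans (card_dvd_of_le e)
    rw [hK, h4] at h1
    exact hodd (Nat.dvd_of_mul_dvd_mul_left (by norm_num) (show 4 * 2 ∣ _ from h1))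
  · obtain ⟨i, hi⟩ := exists_prime_orderOf_dvd_card' (G := E) 2 (by rw [h4]; norm_num)
    exact key i (hE.le i.2) (by rw [Subgroup.orderOf_coe, hi]) g
      ((mem_normalizer_iff.1 hg _).1 (hE.le i.2))

end Cfsg.Agent.H71.S94Std
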