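import Cfsg.Agent.H44.OnBV

/-! Project S95: the subgroup `2³` of `C(ζ)` is characteristic up to conjugacy. -/

set_option autoImplicit false

namespace Cfsg.Agent.H71.OnVch

open Subgroup Cfsg.Agent.H44 Cfsg.Agent.H59 Cfsg.Agent.H59.On Cfsg.Agent.H46.S95
  Cfsg.Agent.H46.S95.On Cfsg.Agent.H44.OnBV

theorem mem_Cz {a l : Γ} : l ∈ Cz a ↔ l * a = a * l := mem_centralizer_singleton_iff

theorem ev_Cz (w : List ℕ) (h : eqB (w ++ [3, 7, 3, 8]) ([3, 7, 3, 8] ++ w) = true) :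
    ev ν w ∈ Cz ζ := mem_Cz.2 (by rw [ζ, ← ev_append, ← ev_append]; exact ko.eq _ _ h)

theorem B_le : B ≤ Cz ζ := fun _ h => mem_Cz.2 (B_comm h ζ_mem)

theorem com_z {l : Γ} (h : l ∈ Cz ζ) : l * ν 1 = ν 1 * l := by
  rw [← ζ_sq, ← mul_assoc, mem_Cz.1 h, mul_assoc, mem_Cz.1 h, mul_assoc]

theorem z_V : ν 1 ∈ V := ev_single ν 1 ▸ mem_wgen ν [1] (by simp)

theorem y_V : ν 6 ∈ V := ev_single ν 6 ▸ mem_wgen ν [6] (by simp)

/-- the central involution of `C(ζ)` -/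
theorem central {u : Γ} (h : ∀ l ∈ Cz ζ, u * l = l * u) (h1 : u * u = 1) (h2 : u ≠ 1) : u = ν 1 := by
  obtain ⟨w, hw, rfl⟩ := of_sq (cB.le fun b hb => (h b (B_le hb)).symm) h1
  have := allL_iff.1 (by decide +kernel : allL (fun w => bO (eqB w []) (bO (eqB w [1])
    (bO (bN (eqB (w ++ [4]) ([4] ++ w))) (bN (eqB (w ++ [5]) ([5] ++ w)))))) WV = true) w hw
  simp only [bO_iff] at this
  rcases this with e | e | e | e
  · exact absurd (ko.eq _ _ e) h2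
  · exact (ko.eq _ _ e).trans (ev_single ..)
  · exact absurd (by rw [ev_append, ev_append, h _ (ev_Cz [4] (by decide +kernel))]) (ko.ne _ _ e)
  · exact absurd (by rw [ev_append, ev_append, h _ (ev_Cz [5] (by decide +kernel))]) (ko.ne _ _ e)

/-- the noncentral involutions of `C(ζ)` are conjugate -/
theorem cls_L {u : Γ} (h : u ∈ Cz ζ) (h1 : u * u = 1) (h2 : u ≠ 1) (h3 : u ≠ ν 1) :
    ∃ c ∈ Cz ζ, c * u * c⁻¹ = ν 6 := by
  obtain ⟨k, hk, e⟩ := cls_K (mem_Cz.2 (com_z h)) h1 h2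
  have hk := mem_Cz.1 hk
  have h4 : k * u * k⁻¹ ∈ Cz ζ := by
    have h5 : k * u * k⁻¹ * (k * ζ * k⁻¹) = k * ζ * k⁻¹ * (k * u * k⁻¹) := by
      rw [conj_mul, conj_mul, mem_Cz.1 h]
    rcases conj_ζ hk with e | e <;> rw [e] at h5
    exacts [mem_Cz.2 h5, mem_Cz.2 (Commute.inv_right_iff.1 h5)]
  rcases e with e | e | e
  · refine absurd ?_ h3
    rw [mul_inv_eq_iff_eq_mul, ← hk] at e
    exact mul_left_cancel e
  · rcases conj_ζ hk with e' | e'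
    · exact ⟨k, mem_Cz.2 (mul_inv_eq_iff_eq_mul.1 e'), e⟩
    · have h6 : ν 3 * ν 6 * (ν 3)⁻¹ = ν 6 := mul_inv_eq_iff_eq_mul.2 (by
        simpa only [ev_cons, ev_nil, mul_one] using ko.eq [3, 6] [6, 3] (by decide +kernel))
      refine ⟨ν 3 * k, mem_Cz.2 (mul_inv_eq_iff_eq_mul.1 ?_), ?_⟩
      · calc _ = ν 3 * (k * ζ * k⁻¹) * (ν 3)⁻¹ := by group
          _ = (ν 3 * ζ * (ν 3)⁻¹)⁻¹ := by rw [e']; group
          _ = ζ := by rw [x_inv, inv_inv]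
      · calc _ = ν 3 * (k * u * k⁻¹) * (ν 3)⁻¹ := by group
          _ = ν 6 := by rw [e, h6]
  · rw [e] at h4
    exact absurd (x_inv.symm.trans (mul_inv_eq_iff_eq_mul.2 (mem_Cz.1 h4))) ζ_ne

theorem comm_V {v r : Γ} (hv : v ∈ V) (hr : r ∈ Cz ζ) (h : r * ν 6 = ν 6 * r) :
    v * r = r * v ∨ v * r = ν 1 * (r * v) := by
  obtain ⟨w, hw, rfl⟩ := cw_f.1 r (by simp [ev_single, h, com_z hr])
  obtain ⟨u, hu, rfl⟩ := mem_V.1 hv
  rcases bO_iff.1 (allL_iff.1 (by decide +kernel : allL (fun w =>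
    bO (bN (eqB (w ++ [3, 7, 3, 8]) ([3, 7, 3, 8] ++ w))) (allL (fun u =>
      bO (eqB (u ++ w) (w ++ u)) (eqB (u ++ w) (1 :: (w ++ u)))) WV)) Wf = true) w hw) with e | e
  · exact absurd (by rw [ev_append, ev_append]; exact mem_Cz.1 hr) (ko.ne _ _ e)
  · simpa only [bO_iff, ko.iff, ev_append, ev_cons] using allL_iff.1 e u hu

theorem of_comm {v : Γ} (hv : v ∈ Cz ζ) (h : v * ν 6 = ν 6 * v) (h1 : v * v = 1)
    (h2 : ∀ b ∈ B, v * b = b * v ∨ v * b = ν 1 * (b * v)) : v ∈ V := by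
  obtain ⟨w, hw, rfl⟩ := cw_f.1 v (by simp [ev_single, h, com_z hv])
  have := allL_iff.1 (by decide +kernel : allL (fun w => bO (bN (eqB (w ++ w) []))
    (bO (anyL (eqB w) WV) (anyL (fun b => bA (bN (eqB (w ++ b) (b ++ w)))
      (bN (eqB (w ++ b) (1 :: (b ++ w))))) gB))) Wf = true) w hw
  simp only [bO_iff, anyL_iff, bA_iff] at this
  rcases this with e | ⟨u, hu, e⟩ | ⟨b, hb, e, e'⟩
  · exact absurd (by rw [ev_append, h1, ev_nil]) (ko.ne _ _ e)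
  · exact mem_V.2 ⟨u, hu, ko.eq _ _ e⟩
  · rcases h2 _ (mem_wgen ν b hb) with k | k
    · exact absurd (by rw [ev_append, ev_append, k]) (ko.ne _ _ e)
    · exact absurd (by rw [ev_cons, ev_append, ev_append, k]) (ko.ne _ _ e')

theorem fix_z (θ : MulAut (Cz ζ)) : θ ⟨ν 1, B_le (V_le z_V)⟩ = ⟨ν 1, B_le (V_le z_V)⟩ :=
  Subtype.ext (central (fun l hl => by
    obtain ⟨m, e⟩ := θ.surjective ⟨l, hl⟩
    have := congrArg θ (Subtype.ext (com_z m.2) : m * ⟨ν 1, B_le (V_le z_V)⟩ =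
      ⟨ν 1, B_le (V_le z_V)⟩ * m)
    rw [map_mul, map_mul, e] at this
    exact (congrArg Subtype.val this).symm)
    (congrArg Subtype.val ((map_mul θ _ _).symm.trans (θ.map_eq_one_iff.2 (Subtype.ext a_sq))))
    fun e => a_ne (congrArg Subtype.val (θ.map_eq_one_iff.1 (Subtype.ext e))))

theorem vch : VchS := by
  refine ⟨fun l _ h => cV.le h, fun θ => ?_⟩
  let y : Cz ζ := ⟨ν 6, B_le (V_le y_V)⟩
  obtain ⟨c, hc, e⟩ := cls_L (θ y).2
    (congrArg Subtype.val ((map_mul θ _ _).symm.trans (θ.map_eq_one_iff.2 (Subtype.ext (V_sq y_V)))))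
    (fun e => ko.ne [6] [] (by decide +kernel) (by
      rw [ev_single]; exact congrArg Subtype.val (θ.map_eq_one_iff.1 (Subtype.ext e))))
    fun e => ko.ne [6] [1] (by decide +kernel) (by
      rw [ev_single, ev_single]
      exact congrArg Subtype.val (θ.injective ((Subtype.ext e).trans (fix_z θ).symm)))
  let ψ : MulAut (Cz ζ) := MulAut.conj ⟨c, hc⟩ * θ
  have hy : ψ y = y := Subtype.ext e
  have k : ∀ r : Cz ζ, (ψ r : Γ) * ν 6 = ν 6 * ψ r ↔ (r : Γ) * ν 6 = ν 6 * r := fun r => by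
    change ((ψ r * y : Cz ζ) : Γ) = (y * ψ r : Cz ζ) ↔ ((r * y : Cz ζ) : Γ) = (y * r : Cz ζ)
    rw [Subtype.coe_inj, Subtype.coe_inj, ← ψ.injective.eq_iff (a := r * y), map_mul, map_mul, hy]
  refine ⟨c, hc, fun v hv => of_comm (ψ v).2 ((k v).2 (B_comm (V_le hv) (V_le y_V)))
    (congrArg Subtype.val ((map_mul ψ _ _).symm.trans (ψ.map_eq_one_iff.2 (Subtype.ext (V_sq hv)))))
    fun b hb => ?_⟩
  obtain ⟨r, hr⟩ := ψ.surjective ⟨b, B_le hb⟩
  rcases comm_V hv r.2 ((k r).1 (by rw [hr]; exact B_comm hb (V_le y_V))) with h | h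
  · have := congrArg ψ (Subtype.ext h : v * r = r * v)
    rw [map_mul, map_mul, hr] at this
    exact .inl (congrArg Subtype.val this)
  · have := congrArg ψ (Subtype.ext h : v * r = ⟨ν 1, B_le (V_le z_V)⟩ * (r * v))
    rw [map_mul, map_mul, map_mul, hr, fix_z] at this
    exact .inr (congrArg Subtype.val this)

end Cfsg.Agent.H71.OnVch
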