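import Mathlib
import Cfsg.Agent.H23.FSEven
import Cfsg.Agent.H30.OrthBridge

/-!
# Project FS2: twisted Frobenius-Schur indicators, definitions and the list of pieces

Notes: `stubs/notes/h71_fs2.md`.
-/

set_option autoImplicit false

namespace Cfsg.Agent.H71.FS2

open Cfsg Subgroup H23 H30 QuadraticMap Module
open scoped commutatorElement

universe u

section Graded

variable {G : Type u} [Group G]

/-- The even part of `K`. -/
def ev (π : G →* ℤˣ) (K : Subgroup G) : Subgroup G := K ⊓ π.ker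

theorem mem_ev {π : G →* ℤˣ} {K : Subgroup G} {g : G} : g ∈ ev π K ↔ g ∈ K ∧ π g = 1 := Iff.rfl

theorem ev_mono {π : G →* ℤˣ} {L K : Subgroup G} (h : L ≤ K) : ev π L ≤ ev π K :=
  fun _ hg => ⟨h hg.1, hg.2⟩

theorem ev_le (π : G →* ℤˣ) (K : Subgroup G) : ev π K ≤ K := inf_le_left

theorem mul_mem_ev {π : G →* ℤˣ} {K : Subgroup G} {a b : G} (ha : a ∈ K) (hb : b ∈ K)
    (h : π a = π b) : a * b ∈ ev π K :=
  ⟨mul_mem ha hb, show π (a * b) = 1 by rw [map_mul, h, Int.units_mul_self]⟩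

theorem conj_mem_ev {π : G →* ℤˣ} {K : Subgroup G} {a g : G} (ha : a ∈ K) (hg : g ∈ ev π K) :
    a * g * a⁻¹ ∈ ev π K :=
  ⟨K.mul_mem (K.mul_mem ha hg.1) (K.inv_mem ha), show π (a * g * a⁻¹) = 1 by
    rw [map_mul, map_mul, (mem_ev.1 hg).2, mul_one, ← map_mul, mul_inv_cancel, map_one]⟩

theorem le_normalizer_ev [Finite G] (π : G →* ℤˣ) (K : Subgroup G) :
    K ≤ normalizer (ev π K : Set G) :=
  le_normalizer_of_conj_mem fun _ hs _ hg => conj_mem_ev hs hg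

/-- `K` has an odd element. -/
def HasOdd (π : G →* ℤˣ) (K : Subgroup G) : Prop := ∃ γ ∈ K, π γ = -1

/-- The twisted indicator. -/
noncomputable def eps (π : G →* ℤˣ) (K : Subgroup G) (ψ : ev π K → ℂ) : ℂ :=
  (Nat.card (ev π K) : ℂ)⁻¹ *
    ∑ᶠ γ : {γ : G // γ ∈ K ∧ π γ = -1}, ψ ⟨γ * γ, mul_mem_ev γ.2.1 γ.2.1 rfl⟩

/-- No irreducible character of the even part has twisted indicator `-1`. -/
def NB (π : G →* ℤˣ) (K : Subgroup G) : Prop := ∀ ψ : IrrCharacter (ev π K), eps π K ψ.1 ≠ -1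

/-- Twisted self-conjugacy. -/
def SC (π : G →* ℤˣ) (K : Subgroup G) (ψ : ev π K → ℂ) : Prop :=
  ∀ γ ∈ K, π γ = -1 → ∀ g g' : ev π K, (g' : G) = γ * g * γ⁻¹ → ψ g' = ψ g⁻¹

/-- The twisted stabiliser condition for a linear character. -/
def TS (π : G →* ℤˣ) (A : Subgroup G) (lam : A →* ℂˣ) (l : G) : Prop :=
  ∀ a a' : A, (a' : G) = l * a * l⁻¹ → lam a' = lam a ^ ((π l : ℤˣ) : ℤ)

theorem eps_of_not_hasOdd {π : G →* ℤˣ} {K : Subgroup G} (h : ¬ HasOdd π K) (ψ : ev π K → ℂ) :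
    eps π K ψ = 0 := by
  haveI : IsEmpty {γ : G // γ ∈ K ∧ π γ = -1} := ⟨fun γ => h ⟨γ.1, γ.2.1, γ.2.2⟩⟩
  rw [eps, finsum_of_isEmpty, mul_zero]

theorem nb_of_not_hasOdd {π : G →* ℤˣ} {K : Subgroup G} (h : ¬ HasOdd π K) : NB π K :=
  fun ψ e => by
    rw [eps_of_not_hasOdd h] at e
    norm_num at e

variable [Finite G]

/-- The twist by an element of `K` (an involution on `Irr K₀` when the element is odd). -/
noncomputable def tw (π : G →* ℤˣ) {K : Subgroup G} {γ : G} (hγ : γ ∈ K)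
    (χ : IrrCharacter (ev π K)) : IrrCharacter (ev π K) :=
  bar (cj (ev π K) ⟨γ, le_normalizer_ev π K hγ⟩ χ)

theorem mult_tw {π : G →* ℤˣ} {L K : Subgroup G} (h : L ≤ K) {γ : G} (hγ : γ ∈ L)
    (χ : IrrCharacter (ev π K)) (θ : IrrCharacter (ev π L)) :
    mult (ev_mono h) (tw π (h hγ) χ) (tw π hγ θ) = mult (ev_mono h) χ θ := by
  rw [tw, tw, mult_bar, mult_cj]

theorem tw_tw {π : G →* ℤˣ} {K : Subgroup G} {γ : G} (hγ : γ ∈ K) (χ : IrrCharacter (ev π K)) :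
    tw π hγ (tw π hγ χ) = χ := by
  rw [tw, tw, cj_bar, bar_bar, ← cj_mul]
  exact cj_of_mem _ (mul_mem_ev hγ hγ rfl) χ

theorem tw_apply {π : G →* ℤˣ} {K : Subgroup G} {γ : G} (hγ : γ ∈ K) (χ : IrrCharacter (ev π K))
    {g g' : ev π K} (e : (g' : G) = γ * g * γ⁻¹) : (tw π hγ χ).1 g' = χ.1 g⁻¹ := by
  rw [tw, bar_apply, cj_apply_of_eq _ χ e, H12.IsCharacter_inv (H11.irr_isCharacter χ)]

theorem sc_iff_tw {π : G →* ℤˣ} {K : Subgroup G} {γ : G} (hγ : γ ∈ K) (ho : π γ = -1)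
    (χ : IrrCharacter (ev π K)) : SC π K χ.1 ↔ tw π hγ χ = χ := by
  constructor
  · intro h
    refine Subtype.ext (funext fun g' => ?_)
    have e : (g' : G) = γ * (⟨γ⁻¹ * g' * γ⁻¹⁻¹, conj_mem_ev (inv_mem hγ) g'.2⟩ : ev π K) * γ⁻¹ := by
      simp [mul_assoc]
    rw [tw_apply hγ χ e, h γ hγ ho _ _ e]
  · intro h δ hδ hδo g g' e
    have hk : γ⁻¹ * δ ∈ ev π K := mul_mem_ev (inv_mem hγ) hδ (by rw [map_inv, ho, hδo]; rfl)
    have e' : (g' : G) = γ * ((⟨_, hk⟩ * g * ⟨_, hk⟩⁻¹ : ev π K) : G) * γ⁻¹ := by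
      simp [e, mul_assoc]
    rw [← congrFun (congrArg Subtype.val h) g', tw_apply hγ χ e',
      show ((⟨_, hk⟩ * g * ⟨_, hk⟩⁻¹ : ev π K))⁻¹ = ⟨_, hk⟩ * g⁻¹ * ⟨_, hk⟩⁻¹ by group]
    exact H11.isClassFunction_of_irr χ.2 _ _

/-- Parity lemma. -/
theorem par {π : G →* ℤˣ} {K : Subgroup G} {γ : G} (hγ : γ ∈ K) (ho : π γ = -1)
    [Fintype (IrrCharacter (ev π K))] (f : IrrCharacter (ev π K) → ℕ)
    (hf : ∀ χ, f (tw π hγ χ) = f χ) (hodd : Odd (∑ χ, f χ)) : ∃ χ, SC π K χ.1 ∧ Odd (f χ) := by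
  by_contra hcon
  push Not at hcon
  have := Finset.sum_involution (s := Finset.univ) (f := fun χ => ((f χ : ℕ) : ZMod 2))
    (fun χ _ => tw π hγ χ) (fun χ _ => by rw [hf]; exact CharTwo.add_self_eq_zero _)
    (fun χ _ h0 e => h0 (by
      rw [ZMod.natCast_eq_zero_iff_even, ← Nat.not_odd_iff_even]
      exact hcon χ ((sc_iff_tw hγ ho χ).2 e)))
    (fun _ _ => Finset.mem_univ _) (fun χ _ => tw_tw hγ χ)
  rw [← Nat.cast_sum, ZMod.natCast_eq_zero_iff_even] at this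
  exact Nat.not_even_iff_odd.2 hodd this

/-- A self-conjugate character between two self-conjugate ones, with odd multiplicities. -/
theorem par_between {π : G →* ℤˣ} {L M K : Subgroup G} (h₁ : L ≤ M) (h₂ : M ≤ K)
    (hL : HasOdd π L) {ψ : IrrCharacter (ev π K)} {θ : IrrCharacter (ev π L)}
    (hψ : SC π K ψ.1) (hθ : SC π L θ.1) (hodd : Odd (mult (ev_mono (h₁.trans h₂)) ψ θ)) :
    ∃ χ : IrrCharacter (ev π M), SC π M χ.1 ∧ Odd (mult (ev_mono h₂) ψ χ) ∧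
      Odd (mult (ev_mono h₁) χ θ) := by
  obtain ⟨γ, hγ, ho⟩ := hL
  haveI := Fintype.ofFinite (IrrCharacter (ev π M))
  rw [mult_trans (ev_mono h₁) (ev_mono h₂)] at hodd
  obtain ⟨χ, a, b⟩ := par (h₁ hγ) ho _ (fun χ => by
    rw [← mult_tw h₂ (h₁ hγ) ψ χ, ← mult_tw h₁ hγ χ θ, (sc_iff_tw _ ho ψ).1 hψ,
      (sc_iff_tw _ ho θ).1 hθ]) hodd
  exact ⟨χ, a, Nat.odd_mul.1 b⟩

end Graded

/-- Piece P1: values of the twisted indicator. -/
def C1 : Prop := ∀ {G : Type u} [Group G] [Finite G] (π : G →* ℤˣ) (K : Subgroup G)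
  (ψ : IrrCharacter (ev π K)),
  (eps π K ψ.1 = 0 ∨ eps π K ψ.1 = 1 ∨ eps π K ψ.1 = -1) ∧
    (eps π K ψ.1 ≠ 0 ↔ HasOdd π K ∧ SC π K ψ.1)

/-- Piece P1: odd multiplicity transports the indicator. -/
def C2 : Prop := ∀ {G : Type u} [Group G] [Finite G] (π : G →* ℤˣ) {L K : Subgroup G} (h : L ≤ K)
  (ψ : IrrCharacter (ev π K)) (θ : IrrCharacter (ev π L)), HasOdd π L → SC π K ψ.1 → SC π L θ.1 →
  Odd (mult (ev_mono h) ψ θ) → eps π K ψ.1 = eps π L θ.1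

/-- Piece P1: irreducible products. -/
def C3 : Prop := ∀ {G : Type u} [Group G] [Finite G] (π : G →* ℤˣ) (K : Subgroup G)
  (χ φ ψ : IrrCharacter (ev π K)), SC π K χ.1 → SC π K φ.1 → (∀ g, ψ.1 g = χ.1 g * φ.1 g) →
  eps π K ψ.1 = eps π K χ.1 * eps π K φ.1

theorem down (h1 : C1.{u}) (h2 : C2.{u}) {G : Type u} [Group G] [Finite G] {π : G →* ℤˣ}
    {L M K : Subgroup G} (h₁ : L ≤ M) (h₂ : M ≤ K) (hL : HasOdd π L)
    {ψ : IrrCharacter (ev π K)} {θ : IrrCharacter (ev π L)} (hψ : eps π K ψ.1 = -1)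
    (hθ : SC π L θ.1) (hodd : Odd (mult (ev_mono (h₁.trans h₂)) ψ θ)) : ¬ NB π M := fun hM => by
  have hs := ((h1 π K ψ).2.1 (by rw [hψ]; norm_num)).2
  obtain ⟨χ, a, b, -⟩ := par_between h₁ h₂ hL hs hθ hodd
  obtain ⟨γ, hγ, ho⟩ := hL
  exact hM χ ((h2 π h₂ ψ χ ⟨γ, h₁ hγ, ho⟩ hs a b).symm.trans hψ)

/-- Piece P2: the Brauer-Witt step. -/
def PA : Prop := ∀ {G : Type u} [Group G] [Finite G] (π : G →* ℤˣ) (K : Subgroup G),
  (∀ P : Subgroup G, P ≤ K → IsPGroup 2 P → HasOdd π P → ∃ M, P ≤ M ∧ M ≤ K ∧ NB π M) →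
  (∀ C M : Subgroup G, C ≤ ev π K → (∀ a ∈ C, ∀ b ∈ C, a * b = b * a) → Odd (Nat.card C) →
    (∀ h, h ∈ M ↔ h ∈ K ∧ ∀ c ∈ C, h * c * h⁻¹ = c ^ ((π h : ℤˣ) : ℤ)) → M ≠ K → NB π M) →
  NB π K

/-- Piece P3: Clifford step over a linear constituent. -/
def PB' : Prop := ∀ {G : Type u} [Group G] [Finite G] (π : G →* ℤˣ) (K A L M : Subgroup G)
  (hA : A ≤ ev π K), K ≤ normalizer (A : Set G) → L ≤ K →
  (∀ k ∈ K, ∃ a ∈ A, ∃ l ∈ L, k = a * l) →
  ∀ (ψ : IrrCharacter (ev π K)) (θ : IrrCharacter A) (lam : A →* ℂˣ), eps π K ψ.1 = -1 →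
  mult hA ψ θ ≠ 0 → (∀ a, θ.1 a = lam a) → (∀ l, l ∈ M ↔ l ∈ L ∧ TS π A lam l) → ¬ NB π M

/-- Piece P3: abelian normal subgroups. -/
def PB : Prop := ∀ {G : Type u} [Group G] [Finite G] (π : G →* ℤˣ) (K A L : Subgroup G),
  A ≤ ev π K → K ≤ normalizer (A : Set G) → L ≤ K → (∀ k ∈ K, ∃ a ∈ A, ∃ l ∈ L, k = a * l) →
  (∀ a ∈ A, ∀ b ∈ A, a * b = b * a) →
  (∀ (lam : A →* ℂˣ) (M : Subgroup G), (∀ l, l ∈ M ↔ l ∈ L ∧ TS π A lam l) → NB π M) → NB π K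

/-- The group-theoretic shape of a vector stabiliser `K = N L`. -/
structure Shape {G : Type u} [Group G] (π : G →* ℤˣ) (K N L Z : Subgroup G) : Prop where
  NK : N ≤ ev π K
  nN : K ≤ normalizer (N : Set G)
  LK : L ≤ K
  fac : ∀ k ∈ K, ∃ n ∈ N, ∃ l ∈ L, k = n * l
  NL : N ⊓ L = ⊥
  pN : IsPGroup 2 N
  ZN : Z ≤ N
  Z2 : ∀ z ∈ Z, z * z = 1
  Zc : ∀ z ∈ Z, ∀ k ∈ K, k * z = z * k
  ab : ∀ a ∈ N, ∀ b ∈ N, ⁅a, b⁆ ∈ Z

/-- Piece P4: the Heisenberg step. -/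
def PH : Prop := ∀ {G : Type u} [Group G] [Finite G] (π : G →* ℤˣ) (K N L Z : Subgroup G) (x : G),
  Shape π K N L Z → (∀ g ∈ N, g ∉ Z → ∀ z ∈ Z, ∃ g' ∈ N, ⁅g, g'⁆ = z) →
  x ∈ ev π L → Odd (orderOf x) → (∀ l ∈ L, l * x * l⁻¹ = x ^ ((π l : ℤˣ) : ℤ)) →
  (∀ n ∈ N, ⁅n, x⁆ ∈ Z → n ∈ Z) → NB π L →
  (∀ (lam : N →* ℂˣ) (M : Subgroup G), (∀ z : N, (z : G) ∈ Z → lam z = 1) →
    (∀ l, l ∈ M ↔ l ∈ L ∧ TS π N lam l) → NB π M) → NB π K

section Geo

variable {F V : Type u} [Field F] [AddCommGroup V] [Module F V] {Q : QuadraticForm F V}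

/-- The grading of `O(Q) × {±1}`. -/
def pr (Q : QuadraticForm F V) : O Q × ℤˣ →* ℤˣ := MonoidHom.snd _ _

theorem pr_apply (k : O Q × ℤˣ) : pr Q k = k.2 := rfl

/-- The graded groups of the induction. -/
def Gam (X : Subgroup (O Q)) (T : Set V) : Subgroup (O Q × ℤˣ) where
  carrier := {k | (∀ x ∈ X, k.1 * x * k.1⁻¹ = x ^ ((k.2 : ℤˣ) : ℤ)) ∧ ∀ t ∈ T, k.1.1 t = t}
  one_mem' := ⟨fun x _ => by simp, fun _ _ => rfl⟩
  mul_mem' := by
    rintro k l ⟨a, b⟩ ⟨c, d⟩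
    refine ⟨fun x hx => ?_, fun t ht => by rw [Prod.fst_mul, O_mul_apply, d t ht, b t ht]⟩
    rw [Prod.fst_mul, Prod.snd_mul, Units.val_mul, zpow_mul, ← a x hx, conj_zpow, ← c x hx]
    group
  inv_mem' := by
    rintro k ⟨a, b⟩
    refine ⟨fun x hx => ?_, fun t ht => O_inv_apply_eq.2 (b t ht).symm⟩
    have := a _ (zpow_mem hx ((k.2 : ℤˣ) : ℤ))
    rw [← zpow_mul, ← Units.val_mul, Int.units_mul_self, Units.val_one, zpow_one] at this
    rw [Prod.fst_inv, Prod.snd_inv, Int.units_inv_eq_self]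
    nth_rewrite 1 [← this]
    group

theorem mem_Gam {X : Subgroup (O Q)} {T : Set V} {k : O Q × ℤˣ} : k ∈ Gam X T ↔
    (∀ x ∈ X, k.1 * x * k.1⁻¹ = x ^ ((k.2 : ℤˣ) : ℤ)) ∧ ∀ t ∈ T, k.1.1 t = t := Iff.rfl

/-- The span of `X` in the endomorphism ring. -/
def RR (X : Subgroup (O Q)) : Submodule F (End F V) :=
  Submodule.span F {r | ∃ x ∈ X, r = (x.1 : V →ₗ[F] V)}

/-- The span of the `X`-orbits of `T`. -/
def DD (X : Subgroup (O Q)) (T : Set V) : Submodule F V :=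
  Submodule.span F {v | ∃ x ∈ X, ∃ t ∈ T, v = x.1 t}

/-- The fixed space of `X`. -/
def Fx (X : Subgroup (O Q)) : Submodule F V where
  carrier := {v | ∀ x ∈ X, x.1 v = v}
  zero_mem' := fun _ _ => map_zero _
  add_mem' := fun ha hb x hx => by rw [map_add, ha x hx, hb x hx]
  smul_mem' := fun c v hv x hx => by rw [map_smul, hv x hx]

theorem mem_Fx {X : Subgroup (O Q)} {v : V} : v ∈ Fx X ↔ ∀ x ∈ X, x.1 v = v := Iff.rfl

/-- `s` is the adjoint of `r`. -/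
def Adj (Q : QuadraticForm F V) (r s : End F V) : Prop :=
  ∀ u v, polar Q (r u) v = polar Q u (s v)

/-- `X` is commutative. -/
def Comm (X : Subgroup (O Q)) : Prop := ∀ a ∈ X, ∀ b ∈ X, a * b = b * a

/-- Base states. -/
structure Base (X : Subgroup (O Q)) (T : Set V) : Prop where
  comm : Comm X
  odd : Odd (Nat.card X)
  rad : ∀ d ∈ DD X T, d ∈ perp Q (DD X T) → d ∈ Fx X ∧ (Q d = 0 → d = 0)

/-- Block vectors. -/
structure Blk (X : Subgroup (O Q)) (w : V) : Prop where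
  inv : ∃ x ∈ X, ∃ a ∈ RR X, a (w + x.1 w) = w
  fld : ∀ s ∈ RR X, Adj Q s s → s w = 0 ∨ ∃ r ∈ RR X, r (s w) = w

/-- Vector states. -/
def Vec (X : Subgroup (O Q)) (T : Set V) (w : V) : Prop :=
  w ∈ perp Q (DD X T) ∧ (w ∈ Fx X ∨ Blk X w)

/-- The induction hypothesis. -/
def IH (X : Subgroup (O Q)) (T : Set V) : Prop := ∀ T' : Set V, Base X T' → DD X T < DD X T' →
  NB (pr Q) (Gam X T') ∧ ∀ y, Vec X T' y → NB (pr Q) (Gam X (insert y T'))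

/-- A vector with totally singular span and a partner. -/
structure Frame (X : Subgroup (O Q)) (T : Set V) (w w' : V) : Prop where
  w0 : w ≠ 0
  wD : w ∈ perp Q (DD X T)
  wD' : w' ∈ perp Q (DD X T)
  sing : ∀ r ∈ RR X, Q (r w) = 0
  ann : ∀ r ∈ RR X, r w = 0 → r w' = 0
  sym : ∀ r ∈ RR X, polar Q (r w) w' = polar Q w (r w')
  nd : ∀ s ∈ RR X, (∀ r ∈ RR X, polar Q (s w) (r w') = 0) → s w = 0

/-- The unipotent radical of the stabiliser of `w`. -/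
def NN (X : Subgroup (O Q)) (T : Set V) (w : V) : Subgroup (O Q × ℤˣ) where
  carrier := {k | k ∈ ev (pr Q) (Gam X (insert w T)) ∧
    (∀ u ∈ DD X {w}, k.1.1 u = u) ∧ ∀ v ∈ perp Q (DD X {w}), k.1.1 v - v ∈ DD X {w}}
  one_mem' := ⟨one_mem _, fun _ _ => rfl, fun v _ => by
    rw [Prod.fst_one, O_one_apply, sub_self]; exact zero_mem _⟩
  mul_mem' := by
    rintro k l ⟨a, b, c⟩ ⟨d, e, f⟩
    refine ⟨mul_mem a d, fun u hu => by rw [Prod.fst_mul, O_mul_apply, e u hu, b u hu],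
      fun v hv => ?_⟩
    have := add_mem (c v hv) (f v hv)
    rw [← b _ (f v hv), map_sub] at this
    rw [Prod.fst_mul, O_mul_apply]
    convert this using 1
    abel
  inv_mem' := by
    rintro k ⟨a, b, c⟩
    have b' : ∀ u ∈ DD X {w}, k.1⁻¹.1 u = u := fun u hu => O_inv_apply_eq.2 (b u hu).symm
    refine ⟨inv_mem a, b', fun v hv => ?_⟩
    have := neg_mem (c v hv)
    rw [← b' _ this, map_neg, map_sub, O_inv_apply, neg_sub] at this
    exact this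

theorem mem_NN {X : Subgroup (O Q)} {T : Set V} {w : V} {k : O Q × ℤˣ} : k ∈ NN X T w ↔
    k ∈ ev (pr Q) (Gam X (insert w T)) ∧ (∀ u ∈ DD X {w}, k.1.1 u = u) ∧
      ∀ v ∈ perp Q (DD X {w}), k.1.1 v - v ∈ DD X {w} := Iff.rfl

/-- The centre part of the unipotent radical. -/
def ZZ (X : Subgroup (O Q)) (T : Set V) (w : V) : Subgroup (O Q × ℤˣ) where
  carrier := {k | k ∈ NN X T w ∧ ∀ v ∈ perp Q (DD X {w}), k.1.1 v = v}
  one_mem' := ⟨one_mem _, fun _ _ => rfl⟩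
  mul_mem' := by
    rintro k l ⟨a, b⟩ ⟨c, d⟩
    exact ⟨mul_mem a c, fun v hv => by rw [Prod.fst_mul, O_mul_apply, d v hv, b v hv]⟩
  inv_mem' := by
    rintro k ⟨a, b⟩
    exact ⟨inv_mem a, fun v hv => O_inv_apply_eq.2 (b v hv).symm⟩

theorem mem_ZZ {X : Subgroup (O Q)} {T : Set V} {w : V} {k : O Q × ℤˣ} : k ∈ ZZ X T w ↔
    k ∈ NN X T w ∧ ∀ v ∈ perp Q (DD X {w}), k.1.1 v = v := Iff.rfl

/-- The vectors killed by the annihilator of `w`. -/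
def Kl (X : Subgroup (O Q)) (w : V) : Submodule F V where
  carrier := {y | ∀ r ∈ RR X, r w = 0 → r y = 0}
  zero_mem' := fun _ _ _ => map_zero _
  add_mem' := fun ha hb r hr h => by rw [map_add, ha r hr h, hb r hr h, add_zero]
  smul_mem' := fun c v hv r hr h => by rw [map_smul, hv r hr h, smul_zero]

theorem mem_Kl {X : Subgroup (O Q)} {w y : V} : y ∈ Kl X w ↔ ∀ r ∈ RR X, r w = 0 → r y = 0 :=
  Iff.rfl

/-- The space parametrising `N / Z`. -/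
def YY (X : Subgroup (O Q)) (T : Set V) (w w' : V) : Submodule F V :=
  perp Q (DD X (insert w' (insert w T))) ⊓ Kl X w

/-- `y` is the parameter of `n`. -/
def Yv (X : Subgroup (O Q)) (T : Set V) (w w' : V) (n : O Q × ℤˣ) (y : V) : Prop :=
  y ∈ YY X T w w' ∧ n.1.1 w' - w' - y ∈ DD X {w}

/-- The conclusions of the frame theorem. -/
structure FrameFacts (X : Subgroup (O Q)) (T : Set V) (w w' : V) : Prop where
  base : Base X (insert w' (insert w T))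
  lt : DD X T < DD X (insert w' (insert w T))
  shape : Shape (pr Q) (Gam X (insert w T)) (NN X T w) (Gam X (insert w' (insert w T))) (ZZ X T w)
  con : ∀ w'' ∈ perp Q (DD X T) ⊓ Kl X w, (∀ r ∈ RR X, polar Q (r w) w'' = polar Q (r w) w') →
    (∀ r ∈ RR X, polar Q (r w'') w'' = polar Q (r w') w') → (∀ r ∈ RR X, Q (r w'') = Q (r w')) →
    ∃ n ∈ NN X T w, n.1.1 w' = w''
  yex : ∀ n ∈ NN X T w, ∃ y, Yv X T w w' n y
  yuniq : ∀ n y y', Yv X T w w' n y → Yv X T w w' n y' → y = y'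
  ymul : ∀ n ∈ NN X T w, ∀ n' ∈ NN X T w, ∀ y y', Yv X T w w' n y → Yv X T w w' n' y' →
    Yv X T w w' (n * n') (y + y')
  yzero : ∀ n ∈ NN X T w, (Yv X T w w' n 0 ↔ n ∈ ZZ X T w)
  yconj : ∀ n ∈ NN X T w, ∀ l ∈ Gam X (insert w' (insert w T)), ∀ y, Yv X T w w' n y →
    Yv X T w w' (l * n * l⁻¹) (l.1.1 y)
  ycomm : ∀ n ∈ NN X T w, ∀ n' ∈ NN X T w, ∀ y y', Yv X T w w' n y → Yv X T w w' n' y' →
    ∀ r ∈ RR X, polar Q ((⁅n, n'⁆).1.1 w' - w') (r w') = polar Q y' (r y) + polar Q y (r y')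
  stab : (∀ y ∈ YY X T w w', ∃ n ∈ NN X T w, Yv X T w w' n y) →
    ∀ lam : NN X T w →* ℂˣ, (∀ z : NN X T w, (z : O Q × ℤˣ) ∈ ZZ X T w → lam z = 1) →
    ∃ y ∈ perp Q (DD X {w, w'}) ⊓ Kl X w, ∀ l ∈ Gam X (insert w' (insert w T)),
      (TS (pr Q) (NN X T w) lam l ↔ l.1.1 y - y ∈ DD X T)

/-- `g` is inverted on `U` by an isometry supported on `U` of the right Dickson invariant. -/
def InvOn (hQ : (polarBilin Q).Nondegenerate) [FiniteDimensional F V] (g : O Q)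
    (U : Submodule F V) : Prop :=
  ∃ γ : O Q, (∀ v ∈ perp Q U, γ.1 v = v) ∧ (∀ u ∈ U, g.1 (γ.1 (g.1 u)) = γ.1 u) ∧
    dickson hQ γ = (-1) ^ (finrank F U / 2)

/-- `W` contains a good summand. -/
def Piece (hQ : (polarBilin Q).Nondegenerate) [FiniteDimensional F V] (g : O Q)
    (W : Submodule F V) : Prop :=
  ∃ U ≤ W, U ≠ ⊥ ∧ (∀ u ∈ U, g.1 u ∈ U) ∧ NondegOn Q U ∧ InvOn hQ g U

end Geo

/-- Piece G1: the frame theorem. -/
def FR : Prop := ∀ {F V : Type u} [Field F] [Finite F] [CharP F 2] [AddCommGroup V] [Module F V]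
  [FiniteDimensional F V] {Q : QuadraticForm F V}, (polarBilin Q).Nondegenerate →
  ∀ (X : Subgroup (O Q)) (T : Set V) (w w' : V), Base X T → Frame X T w w' → FrameFacts X T w w'

/-- Piece G2: splitting off a central reflection. -/
def REFL : Prop := ∀ {F V : Type u} [Field F] [Finite F] [CharP F 2] [AddCommGroup V] [Module F V]
  [FiniteDimensional F V] {Q : QuadraticForm F V}, (polarBilin Q).Nondegenerate →
  ∀ (X : Subgroup (O Q)) (T : Set V) (v w : V), Base X T → v ∈ Fx X → w ∈ DD X T →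
  w ∈ perp Q (DD X T) → polar Q v w ≠ 0 →
  Base X (insert v T) ∧ DD X T < DD X (insert v T) ∧ ∀ M : Subgroup (O Q × ℤˣ),
    (∀ l, l ∈ M ↔ l ∈ Gam X T ∧ l.1.1 v - v ∈ DD X T) → NB (pr Q) (Gam X (insert v T)) →
    NB (pr Q) M

/-- Piece G2: fixed vectors. -/
def PF : Prop := ∀ {F V : Type u} [Field F] [Finite F] [CharP F 2] [AddCommGroup V] [Module F V]
  [FiniteDimensional F V] {Q : QuadraticForm F V}, (polarBilin Q).Nondegenerate →
  ∀ (X : Subgroup (O Q)) (T : Set V) (w : V), Base X T → w ∈ perp Q (DD X T) → w ∈ Fx X →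
  w ∉ DD X T → IH X T → NB (pr Q) (Gam X (insert w T))

/-- Piece G3: block vectors. -/
def PU : Prop := ∀ {F V : Type u} [Field F] [Finite F] [CharP F 2] [AddCommGroup V] [Module F V]
  [FiniteDimensional F V] {Q : QuadraticForm F V}, (polarBilin Q).Nondegenerate →
  ∀ (X : Subgroup (O Q)) (T : Set V) (w : V), Base X T → w ∈ perp Q (DD X T) → Blk X w →
  w ≠ 0 → IH X T → NB (pr Q) (Gam X (insert w T))

/-- Piece G4: the main induction. -/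
def MAIN : Prop := ∀ {F V : Type u} [Field F] [Finite F] [CharP F 2] [AddCommGroup V] [Module F V]
  [FiniteDimensional F V] {Q : QuadraticForm F V}, (polarBilin Q).Nondegenerate →
  ∀ (X : Subgroup (O Q)) (T : Set V), Base X T → NB (pr Q) (Gam X T)

/-- Piece R1: a summand where `g - 1` is invertible. -/
def RS : Prop := ∀ {F V : Type u} [Field F] [Finite F] [CharP F 2] [AddCommGroup V] [Module F V]
  [FiniteDimensional F V] {Q : QuadraticForm F V} (hQ : (polarBilin Q).Nondegenerate) (g : O Q)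
  (W : Submodule F V), W ≠ ⊥ → (∀ v ∈ W, g.1 v ∈ W) → NondegOn Q W →
  (∀ v ∈ W, g.1 v = v → v = 0) → Piece hQ g W

/-- Piece R2: an odd element of the centraliser. -/
def RT : Prop := ∀ {F V : Type u} [Field F] [Finite F] [CharP F 2] [AddCommGroup V] [Module F V]
  [FiniteDimensional F V] {Q : QuadraticForm F V} (hQ : (polarBilin Q).Nondegenerate) (g : O Q)
  (v : V) (j : ℕ), (((g.1 : V →ₗ[F] V) + 1 : End F V) ^ (2 * j + 1)) v = 0 →
  (((g.1 : V →ₗ[F] V) + 1 : End F V) ^ (2 * j)) v ≠ 0 →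
  Q ((((g.1 : V →ₗ[F] V) + 1 : End F V) ^ j) v) ≠ 0 →
  ∃ h : O Q, h * g = g * h ∧ dickson hQ h = -1 ∧
    ∀ u ∈ perp Q (DD (zpowers g) {v}), h.1 u = u

/-- Piece R3: a summand where `g` is unipotent. -/
def RU : Prop := ∀ {F V : Type u} [Field F] [Finite F] [CharP F 2] [AddCommGroup V] [Module F V]
  [FiniteDimensional F V] {Q : QuadraticForm F V} (hQ : (polarBilin Q).Nondegenerate) (g : O Q)
  (W : Submodule F V), W ≠ ⊥ → (∀ v ∈ W, g.1 v ∈ W) → NondegOn Q W →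
  (∃ m : ℕ, ∀ v ∈ W, (((g.1 : V →ₗ[F] V) + 1 : End F V) ^ m) v = 0) → Piece hQ g W

/-- Piece R4: reality with the Dickson invariant. -/
def RE : Prop := ∀ {F V : Type u} [Field F] [Finite F] [CharP F 2] [AddCommGroup V] [Module F V]
  [FiniteDimensional F V] {Q : QuadraticForm F V} (hQ : (polarBilin Q).Nondegenerate) (g : O Q),
  ∃ γ : O Q, γ * g * γ⁻¹ = g⁻¹ ∧ dickson hQ γ = (-1) ^ (finrank F V / 2)

end Cfsg.Agent.H71.FS2
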