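import Cfsg.Agent.H58.Q4K
import Cfsg.Agent.S3050
import Cfsg.Agent.S0252
import Cfsg.Agent.H28.PSL2Small

/-! Project Q4, piece HIG: the theorem of G. Higman for the alternating group of degree five. -/

set_option autoImplicit false

namespace Cfsg.Agent.H71.Q4Hig

open Cfsg Equiv Subgroup Cfsg.Agent.H58.Q4
open scoped commutatorElement IsMulCommutative

universe u

theorem f1 : ∀ c : Perm (Fin 5), c ^ 3 = 1 → c ≠ 1 →
    ∃ g : Perm (Fin 5), Perm.sign g = 1 ∧ g * c * g⁻¹ = swap 0 1 * swap 1 2 := by decide +kernel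

theorem f2 : ∀ t : Perm (Fin 5), Perm.sign t = 1 → t * t = 1 → t ≠ 1 →
    ∃ d : Perm (Fin 5), Perm.sign d = 1 ∧ d ^ 3 = 1 ∧ d ≠ 1 ∧ t * d = d⁻¹ * t := by decide +kernel

set_option synthInstance.maxSize 1000 in
theorem f3 : ∀ t : Perm (Fin 5), Perm.sign t = 1 ∧ t * t = 1 ∧ t ≠ 1 → ∀ t' : Perm (Fin 5),
    Perm.sign t' = 1 ∧ t' * t' = 1 ∧ t' ≠ 1 ∧ t * t' = t' * t → t = t' ∨ ∃ d : Perm (Fin 5),
      Perm.sign d = 1 ∧ d ^ 3 = 1 ∧ d ≠ 1 ∧ (t * d) ^ 3 = 1 ∧ t * d ≠ 1 ∧ d * t * d⁻¹ = t' := by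
  decide +kernel

/-- an action of the alternating group in which an element of order three has no fixed point -/
structure Act {M V : Type*} [Group M] [CommGroup V] (f : M →* MulAut V) (ρ : M →* Perm (Fin 5)) :
    Prop where
  ker : ∀ x y, ρ x = ρ y → f x = f y
  surj : ∀ σ, Perm.sign σ = 1 → ∃ x, ρ x = σ
  even : ∀ x, Perm.sign (ρ x) = 1
  sq : ∀ v : V, v * v = 1
  ex : ∃ c, ρ c ^ 3 = 1 ∧ ρ c ≠ 1 ∧ ∀ v, f c v = v → v = 1

namespace Act

variable {M V : Type*} [Group M] [CommGroup V] {f : M →* MulAut V} {ρ : M →* Perm (Fin 5)}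
  (h : Act f ρ)
include h

theorem one {x : M} (hx : ρ x = 1) (v : V) : f x v = v := by
  rw [h.ker x 1 (by rw [hx, map_one]), map_one]; rfl

omit h in
theorem mul (x y : M) (v : V) : f (x * y) v = f x (f y v) := by rw [map_mul]; rfl

theorem fpf {d : M} (h1 : ρ d ^ 3 = 1) (h2 : ρ d ≠ 1) (v : V) (hv : f d v = v) : v = 1 := by
  obtain ⟨c, c1, c2, c3⟩ := h.ex
  obtain ⟨g, g1, g2⟩ := f1 _ c1 c2
  obtain ⟨k, k1, k2⟩ := f1 _ h1 h2
  obtain ⟨g, rfl⟩ := h.surj g g1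
  obtain ⟨k, rfl⟩ := h.surj k k1
  have e : f c = f (g⁻¹ * k * d * (g⁻¹ * k)⁻¹) := h.ker _ _ (by
    simp only [map_mul, map_inv]
    calc ρ c = (ρ g)⁻¹ * (ρ g * ρ c * (ρ g)⁻¹) * ρ g := by group
      _ = _ := by rw [g2, ← k2]; group)
  have := c3 (f (g⁻¹ * k) v) (by rw [e, ← mul, inv_mul_cancel_right, mul, hv])
  simpa using this

theorem norm {d : M} (h1 : ρ d ^ 3 = 1) (h2 : ρ d ≠ 1) (v : V) : f d v * f d⁻¹ v = v := by
  have e : f d (f d v) = f d⁻¹ v := by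
    rw [← mul, h.ker (d * d) d⁻¹ (by
      rw [map_mul, map_inv, eq_inv_iff_mul_eq_one, ← h1, pow_succ, pow_two])]
  have := h.fpf h1 h2 (v * (f d v * f d⁻¹ v)) (by
    rw [map_mul, map_mul, e, ← mul d d⁻¹, mul_inv_cancel, map_one, MulAut.one_apply, mul_comm v,
      mul_assoc, mul_comm _ v, mul_comm v])
  rw [← inv_eq_of_mul_eq_one_right this, inv_eq_of_mul_eq_one_right (h.sq v)]

theorem fix {t : M} (h1 : ρ t * ρ t = 1) (v : V) : f t (v * f t v) = v * f t v := by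
  rw [map_mul, ← mul, h.one (x := t * t) (by rw [map_mul, h1]), mul_comm]

theorem onto {t : M} (h1 : ρ t * ρ t = 1) (h2 : ρ t ≠ 1) (v : V) (hv : f t v = v) :
    ∃ a, a * f t a = v := by
  obtain ⟨d, d0, d1, d2, d3⟩ := f2 _ (h.even t) h1 h2
  obtain ⟨d, rfl⟩ := h.surj d d0
  refine ⟨f d v, ?_⟩
  rw [← mul, h.ker (t * d) (d⁻¹ * t) (by rw [map_mul, map_mul, map_inv, d3]), mul, hv,
    h.norm d1 d2]

theorem quad {t t' : M} (h1 : ρ t * ρ t = 1) (h2 : ρ t ≠ 1) (h1' : ρ t' * ρ t' = 1)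
    (h2' : ρ t' ≠ 1) (hc : ρ t * ρ t' = ρ t' * ρ t) (v : V) (hv : f t' v = v) : f t v = v := by
  rcases f3 _ ⟨h.even t, h1, h2⟩ _ ⟨h.even t', h1', h2', hc⟩ with e | ⟨d, d0, d1, d2, d3, d4, d5⟩
  · rw [h.ker _ _ e, hv]
  obtain ⟨d, rfl⟩ := h.surj d d0
  obtain ⟨r, rfl⟩ := h.onto h1' h2' v hv
  have a1 := congrArg (f d) (h.norm (d := t * d) (by rwa [map_mul]) (by rwa [map_mul]) (f d r))
  have a2 := h.norm d1 d2 r
  have a3 : ρ d * ρ d = (ρ d)⁻¹ := by rw [eq_inv_iff_mul_eq_one, ← d1, pow_succ, pow_two]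
  rw [map_mul, ← mul, ← mul, ← mul, ← mul, ← mul,
    h.ker (d * (t * d) * d) t' (by
      rw [← d5, ← a3]; simp only [map_mul, mul_assoc]),
    h.ker (d * (t * d)⁻¹ * d) (t * d) (by
      simp only [map_mul, map_inv, mul_inv_rev, inv_eq_of_mul_eq_one_right h1]; group),
    h.ker (d * d) d⁻¹ (by rw [map_mul, map_inv, a3]), mul] at a1
  have a4 : r * f t' r = f d r * f t (f d r) := by
    calc r * f t' r = f d r * (f t' r * f t (f d r)) * f t' r := by rw [a1, a2]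
      _ = f d r * f t (f d r) * (f t' r * f t' r) := by ac_rfl
      _ = _ := by rw [h.sq, mul_one]
  rw [a4, h.fix h1]

/-- the fixed points of `t` -/
def Fix (f : M →* MulAut V) (t : M) : Subgroup V := (f t).toMonoidHom.eqLocus (MonoidHom.id V)

theorem card_fix [Finite V] {t : M} (h1 : ρ t * ρ t = 1) (h2 : ρ t ≠ 1) :
    Nat.card (Fix f t) ^ 2 = Nat.card V := by
  let φ : V →* V := MonoidHom.id V * (f t).toMonoidHom
  have a1 : φ.ker = Fix f t := Subgroup.ext fun v => by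
    change v * f t v = 1 ↔ f t v = v
    rw [← h.sq v, mul_left_cancel_iff]
  have a2 : φ.range = Fix f t := Subgroup.ext fun v =>
    ⟨by rintro ⟨a, rfl⟩; exact h.fix h1 a, fun hv => h.onto h1 h2 v hv⟩
  rw [← φ.ker.card_mul_index, index_ker, a1, a2, pow_two]

theorem card [Finite V] : ∃ j, Nat.card V = 16 ^ j := by
  have : Fact (Nat.Prime 2) := ⟨Nat.prime_two⟩
  have : Fact (Nat.Prime 3) := ⟨Nat.prime_three⟩
  obtain ⟨t, ht⟩ := h.surj (swap 0 1 * swap 2 3) (by decide)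
  obtain ⟨t', ht'⟩ := h.surj (swap 0 2 * swap 1 3) (by decide)
  have b1 : ρ t * ρ t = 1 := by rw [ht]; decide
  have b2 : ρ t ≠ 1 := by rw [ht]; decide
  have b3 : ρ t' * ρ t' = 1 := by rw [ht']; decide
  have b4 : ρ t' ≠ 1 := by rw [ht']; decide
  have b5 : ρ t * ρ t' = ρ t' * ρ t := by rw [ht, ht']; decide
  obtain ⟨d, d0, d1, d2, -, -, d5⟩ := (f3 _ ⟨h.even t, b1, b2⟩ _
    ⟨h.even t', b3, b4, b5⟩).resolve_left (by rw [ht, ht']; decide)
  obtain ⟨d, rfl⟩ := h.surj d d0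
  have a1 : ∀ v : Fix f t, f d v ∈ Fix f t := fun v => h.quad b1 b2 b3 b4 b5 _ (by
    rw [← mul, h.ker (t' * d) (d * t) (by rw [map_mul, map_mul, ← d5]; group), mul,
      show f t v = v from v.2])
  let g : Function.End (Fix f t) := fun v => ⟨f d v, a1 v⟩
  have a2 : g ^ 3 ^ 1 = 1 := funext fun v => Subtype.ext (by
    change f d (f d (f d v)) = v
    rw [← mul, ← mul, h.one (by rw [map_mul, map_mul, ← d1, pow_succ, pow_two])])
  have a3 : Nat.card (Fix f t) ≡ 1 [MOD 3] := by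
    classical
    have := Fintype.ofFinite (Fix f t)
    have a4 := Equiv.Perm.card_fixedPoints_modEq a2
    have a5 : Function.fixedPoints g = {1} := Set.eq_singleton_iff_unique_mem.2
      ⟨Subtype.ext (map_one (f d)), fun v hv =>
        Subtype.ext (h.fpf d1 d2 _ (congrArg Subtype.val hv))⟩
    rw [← Nat.card_eq_fintype_card, ← Nat.card_eq_fintype_card, a5] at a4
    simpa using a4
  obtain ⟨m, hm⟩ := IsPGroup.iff_card.1 (show IsPGroup 2 (Fix f t) from fun v =>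
    ⟨1, Subtype.ext (by change (v : V) ^ 2 ^ 1 = 1; rw [pow_one, pow_two, h.sq])⟩)
  rw [← h.card_fix b1 b2, hm]
  rw [hm] at a3
  rcases Nat.even_or_odd' m with ⟨j, rfl | rfl⟩
  · exact ⟨j, by rw [← pow_mul, show 16 = 2 ^ 4 from rfl, ← pow_mul]; congr 1; ring⟩
  · have : 2 ^ (2 * j + 1) ≡ 1 ^ j * 2 [MOD 3] := by
      rw [pow_succ, pow_mul]
      exact ((show 2 ^ 2 ≡ 1 [MOD 3] by decide).pow j).mul_right 2
    rw [one_pow] at this
    exact absurd (a3.symm.trans this) (by decide)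

end Act

theorem elem {M : Type u} [Group M] [Finite M] (ρ : M →* Perm (Fin 5)) (Q O : Subgroup M)
    [Q.Normal] [O.Normal] (c : M) (hr : ρ.range = alternatingGroup (Fin 5)) (hQ : IsPGroup 2 Q)
    (hd : Disjoint Q O) (hk : ρ.ker = Q ⊔ O) (hc : c ^ 3 = 1) (hc' : ρ c ≠ 1)
    (hf : ∀ q ∈ Q, Commute c q → q = 1) :
    (∀ a ∈ Q, ∀ b ∈ Q, Commute a b) ∧ ∀ a ∈ Q, a * a = 1 := by
  have : Fact (Nat.Prime 2) := ⟨Nat.prime_two⟩
  have : Fact (Nat.Prime 3) := ⟨Nat.prime_three⟩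
  let K := GaloisField 2 2
  have := Fintype.ofFinite K
  have hK : Fintype.card K = 2 ^ 2 := by
    rw [← Nat.card_eq_fintype_card]; exact GaloisField.card 2 2 two_ne_zero
  obtain ⟨e1⟩ := S0252.result (F := K) hK
  let π := QuotientGroup.mk' O
  have : (Q.map π).Normal := Normal.map inferInstance _ (QuotientGroup.mk'_surjective O)
  have e2 : Matrix.ProjectiveSpecialLinearGroup (Fin 2) K ≃* Matrix.SpecialLinearGroup (Fin 2) K :=
    (QuotientGroup.quotientMulEquivOfEq (H28.center_SL2_eq_bot CharTwo.two_eq_zero)).trans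
      QuotientGroup.quotientBot
  have hO : O ≤ ρ.ker := hk ▸ le_sup_right
  have e3 : Q.map π = ρ.ker.map π := by
    rw [hk, Subgroup.map_sup, (Subgroup.map_eq_bot_iff O).2 (QuotientGroup.ker_mk' O).ge, sup_bot_eq]
  have e := (QuotientGroup.quotientMulEquivOfEq e3).trans
    ((QuotientGroup.quotientQuotientEquivQuotient O ρ.ker hO).trans
      ((QuotientGroup.quotientKerEquivRange ρ).trans ((MulEquiv.subgroupCongr hr).trans
        (e1.symm.trans e2))))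
  have inj : ∀ a ∈ Q, π a = 1 → a = 1 := fun a ha h =>
    disjoint_def.1 hd ha ((QuotientGroup.eq_one_iff a).1 h)
  obtain ⟨⟨h1, h2⟩, -⟩ := S3050.result (Q.map π) (hQ.map π) 2 le_rfl K hK e (π c)
    (orderOf_eq_prime (by rw [← map_pow, hc, map_one])
      fun h => hc' (hO ((QuotientGroup.eq_one_iff c).1 h))) (by
      rintro _ ⟨q, hq, rfl⟩ h
      have := inj (c * q * c⁻¹ * q⁻¹) (mul_mem (Normal.conj_mem inferInstance q hq c) (inv_mem hq))
        (by rw [map_mul, map_mul, map_mul, map_inv, h, map_inv, mul_inv_cancel])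
      rw [hf q hq (mul_inv_eq_iff_eq_mul.1 (mul_inv_eq_one.1 this)), map_one])
  refine ⟨fun a ha b hb => ?_, fun a ha => inj _ (mul_mem ha ha) ?_⟩
  · have := inj (a * b * (b * a)⁻¹) (mul_mem (mul_mem ha hb) (inv_mem (mul_mem hb ha))) (by
      rw [map_mul, map_inv, mul_inv_eq_one, map_mul, map_mul]
      exact congrArg Subtype.val (h1.is_comm.comm ⟨_, a, ha, rfl⟩ ⟨_, b, hb, rfl⟩))
    exact mul_inv_eq_one.1 this
  · rw [map_mul, ← pow_two]
    exact h2 _ ⟨a, ha, rfl⟩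

theorem hig : HigStmt.{u} := by
  intro M _ _ ρ Q O _ _ c hr hQ hO hk hc hf
  have : Fact (Nat.Prime 2) := ⟨Nat.prime_two⟩
  have hd : Disjoint Q O := by
    obtain ⟨m, hm⟩ := IsPGroup.iff_card.1 hQ
    exact disjoint_iff.2 (inf_eq_bot_of_coprime (by
      rw [hm]; exact (Nat.coprime_two_left.2 hO).pow_left m))
  have cm := commute_of_normal_of_disjoint Q O inferInstance inferInstance hd
  have c3 : c ^ 3 = 1 := hc ▸ pow_orderOf_eq_one c
  by_cases h0 : Q = ⊥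
  · subst h0
    refine ⟨fun a ha b _ => by rw [mem_bot.1 ha]; exact Commute.one_left b,
      fun a ha => by rw [mem_bot.1 ha, one_mul], ⟨0, card_bot⟩, fun t _ => ⟨by simp,
      fun a ha => by rw [mem_bot.1 ha]; simp, fun b hb => ⟨1, one_mem _, by
        rw [mem_bot.1 hb.1]; simp⟩⟩, fun t t' _ _ _ => by simp⟩
  have dec : ∀ x, ρ x = 1 → ∃ q ∈ Q, ∃ o ∈ O, q * o = x := fun x hx =>
    mem_sup_of_normal_right.1 (hk ▸ (hx : x ∈ ρ.ker))
  have hc' : ρ c ≠ 1 := fun h => h0 ((eq_bot_iff_forall _).2 fun a ha => hf a ha (by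
    obtain ⟨q, hq, o, ho, rfl⟩ := dec c h
    rw [(cm q o hq ho).mul_pow, mul_eq_one_iff_eq_inv] at c3
    have a1 : q ^ 3 = 1 := disjoint_def.1 hd (pow_mem hq 3) (c3 ▸ inv_mem (pow_mem ho 3))
    have a2 := (Tw.of_mem hQ hq).eq_one (Odd.of_dvd_nat (by decide) (orderOf_dvd_of_pow_eq_one a1))
    rw [a2, one_mul]
    exact (cm a o ha ho).symm))
  obtain ⟨h1, h2⟩ := elem ρ Q O c hr hQ hd hk c3 hc' hf
  have : IsMulCommutative Q := ⟨⟨fun a b => Subtype.ext (h1 a a.2 b b.2)⟩⟩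
  have A : Act (MulAut.conjNormal (H := Q)) ρ :=
    { ker := fun x y h => MulEquiv.ext fun v => Subtype.ext (by
        obtain ⟨q, hq, o, ho, e⟩ := dec (y⁻¹ * x) (by rw [map_mul, map_inv, h, inv_mul_cancel])
        have : Commute (y⁻¹ * x) v := e ▸ (h1 q hq v v.2).mul_left (cm v o v.2 ho).symm
        change x * v * x⁻¹ = y * v * y⁻¹
        calc _ = y * (y⁻¹ * x * v) * x⁻¹ := by group
          _ = _ := by rw [this.eq]; group)
      surj := fun σ hσ => (hr ▸ (hσ : σ ∈ alternatingGroup (Fin 5)) : σ ∈ ρ.range)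
      even := fun x => (hr ▸ ⟨x, rfl⟩ : ρ x ∈ alternatingGroup (Fin 5))
      sq := fun v => Subtype.ext (h2 v v.2)
      ex := ⟨c, by rw [← map_pow, c3, map_one], hc', fun v hv => Subtype.ext
        (hf v v.2 (mul_inv_eq_iff_eq_mul.1 (congrArg Subtype.val hv)))⟩ }
  have inv : ∀ t, orderOf (ρ t) = 2 → ρ t * ρ t = 1 ∧ ρ t ≠ 1 := fun t ht =>
    ⟨by rw [← pow_two, ← ht, pow_orderOf_eq_one], fun h => by
      rw [h, orderOf_one] at ht; exact absurd ht (by decide)⟩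
  have m1 : ∀ t (v : Q), MulAut.conjNormal t v = v ↔ (v : M) ∈ Ce t := fun t v => by
    rw [mem_Ce, Subtype.ext_iff, MulAut.conjNormal_apply, mul_inv_eq_iff_eq_mul]
    exact eq_comm
  have m2 : ∀ t (a : Q), ⁅(a : M), t⁆ = (a * MulAut.conjNormal t a : Q) := fun t a => by
    rw [commutatorElement_def, inv_eq_of_mul_eq_one_right (h2 a a.2), coe_mul,
      MulAut.conjNormal_apply, mul_assoc, mul_assoc, mul_assoc]
  refine ⟨h1, h2, A.card, fun t ht => ⟨?_, fun a ha => ?_, fun b hb => ?_⟩,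
    fun t t' ht ht' hc => le_antisymm (fun v hv => ⟨hv.1, ?_⟩) fun v hv => ⟨hv.1, ?_⟩⟩
  · rw [← A.card_fix (inv t ht).1 (inv t ht).2, ← card_map_of_injective Q.subtype_injective]
    congr 3
    exact le_antisymm (fun v hv => ⟨⟨v, hv.1⟩, (m1 t _).2 hv.2, rfl⟩)
      (by rintro _ ⟨v, hv, rfl⟩; exact ⟨v.2, (m1 t v).1 hv⟩)
  · rw [m2 t ⟨a, ha⟩]
    exact (m1 t _).1 (A.fix (inv t ht).1 _)
  · obtain ⟨a, ha⟩ := A.onto (inv t ht).1 (inv t ht).2 ⟨b, hb.1⟩ ((m1 t _).2 hb.2)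
    exact ⟨a, a.2, by rw [m2, ha]⟩
  · exact (m1 t ⟨v, hv.1⟩).1 (A.quad (inv t ht).1 (inv t ht).2 (inv t' ht').1 (inv t' ht').2
      hc.eq _ ((m1 t' _).2 hv.2))
  · exact (m1 t' ⟨v, hv.1⟩).1 (A.quad (inv t' ht').1 (inv t' ht').2 (inv t ht).1 (inv t ht).2
      hc.symm.eq _ ((m1 t _).2 hv.2))

end Cfsg.Agent.H71.Q4Hig
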