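import Cfsg.Agent.H71.Q4Hig
import Cfsg.Agent.H58.Q4K2
import Cfsg.Agent.H58.Q4Z

/-! Project Q4, piece K7A: the module for blocks of size seven. -/

set_option autoImplicit false

namespace Cfsg.Agent.H71.Q4K7a

open Cfsg Equiv Subgroup Function Cfsg.Agent.H58.Q4 Cfsg.Agent.H71.Q4Hig
open scoped commutatorElement IsMulCommutative Pointwise

universe u

theorem mem_range_via {α β : Type*} (ι : α ↪ β) (σ : Perm β) (h : ∀ x, x ∉ Set.range ι → σ x = x) :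
    σ ∈ (Perm.viaEmbeddingHom ι).range := by
  have h1 : ∀ x, σ x ∈ Set.range ι ↔ x ∈ Set.range ι := fun x =>
    ⟨fun a => by_contra fun b => b (h x b ▸ a),
      fun a => by_contra fun b => b (by rw [σ.injective (h _ b)]; exact a)⟩
  refine ⟨(Equiv.ofInjective ι ι.injective).symm.permCongr (σ.subtypePerm h1),
    Equiv.ext fun x => ?_⟩
  rw [Perm.viaEmbeddingHom_apply]
  by_cases hx : x ∈ Set.range ι
  · obtain ⟨a, rfl⟩ := hx
    rw [Perm.viaEmbedding_apply]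
    exact Equiv.apply_ofInjective_symm ι.injective _
  · rw [Perm.viaEmbedding_apply_of_notMem _ _ _ hx, h x hx]

theorem enum {Ω : Type*} {B : Set Ω} {n k : ℕ} [Finite Ω] (hB : B.ncard = n) {f : Fin k → Fin n}
    (hf : Injective f) {a : Fin k → Ω} (ha : Injective a) (h : ∀ i, a i ∈ B) :
    ∃ e : Fin n → Ω, Injective e ∧ Set.range e = B ∧ ∀ i, e (f i) = a i := by
  have e0 : B ≃ Fin n := Finite.equivFinOfCardEq hB
  have hg : Injective fun i => e0 ⟨a i, h i⟩ := fun i j e => ha (by simpa using e)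
  obtain ⟨σ, hσ⟩ := Perm.exists_extending_pair _ _ hf hg
  refine ⟨fun i => e0.symm (σ i), fun i j e => σ.injective (e0.symm.injective (Subtype.ext e)),
    Set.ext fun x => ⟨by rintro ⟨i, rfl⟩; exact (e0.symm (σ i)).2,
      fun hx => ⟨σ.symm (e0 ⟨x, hx⟩), by simp⟩⟩, fun i => by simp [hσ]⟩

theorem absLift (hL : LiftStmt.{u}) {M : Type u} [Group M] [Finite M] (ρ : M →* Perm (Fin 5))
    (hr : ρ.range = alternatingGroup (Fin 5)) (K : Subgroup M) [K.Normal] (hK : K ≤ ρ.ker)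
    {C : Type u} [Group C] [Finite C] [IsZGroup C] (hC : Odd (Nat.card C)) (ψ : C →* M)
    (h1 : ∀ c, ρ (ψ c) = 1) (h2 : ∀ m, ρ m = 1 → ∃ c, (ψ c)⁻¹ * m ∈ K) :
    ∃ X : Subgroup M, K ≤ X ∧ (∀ x ∈ X, ρ x = 1 → x ∈ K) ∧
      (∀ σ, Perm.sign σ = 1 → ∃ x ∈ X, ρ x = σ) ∧ ∀ t, Tw t → t ∈ X := by
  let r : M ⧸ K →* Perm (Fin 5) := QuotientGroup.lift K ρ hK
  have a1 : r.ker = ((QuotientGroup.mk' K).comp ψ).range := by
    refine le_antisymm (fun m hm => ?_) ?_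
    · obtain ⟨m, rfl⟩ := QuotientGroup.mk_surjective m
      obtain ⟨c, hc⟩ := h2 m hm
      exact ⟨c, QuotientGroup.eq.2 hc⟩
    · rintro _ ⟨c, rfl⟩
      exact h1 c
  have a2 := ((QuotientGroup.mk' K).comp ψ).rangeRestrict_surjective
  have a3 : Odd (Nat.card r.ker) := a1 ▸ hC.of_dvd_nat (card_dvd_of_surjective _ a2)
  have a4 : r.range = alternatingGroup (Fin 5) := by
    rw [← hr]
    refine le_antisymm ?_ ?_
    · rintro _ ⟨m, rfl⟩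
      obtain ⟨m, rfl⟩ := QuotientGroup.mk_surjective m
      exact ⟨m, rfl⟩
    · rintro _ ⟨m, rfl⟩
      exact ⟨m, rfl⟩
  obtain ⟨E, e1, e2, e3⟩ := hL _ r a4 a3 (a1 ▸ IsZGroup.of_surjective a2)
  have dec : ∀ m, ∃ x ∈ E, ∃ k ∈ r.ker, x * k = m := fun m =>
    mem_sup_of_normal_right.1 (e2 ▸ mem_top m)
  refine ⟨E.comap (QuotientGroup.mk' K), fun k hk => ?_, fun x hx h => ?_, fun σ hσ => ?_,
    fun t ⟨n, hn⟩ => ?_⟩
  · change (k : M ⧸ K) ∈ E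
    rw [(QuotientGroup.eq_one_iff k).2 hk]
    exact one_mem _
  · exact (QuotientGroup.eq_one_iff x).1 (mem_bot.1 (e1 ▸ ⟨hx, h⟩))
  · obtain ⟨m, rfl⟩ : σ ∈ r.range := a4 ▸ hσ
    obtain ⟨x, hx, k, hk, rfl⟩ := dec m
    obtain ⟨x, rfl⟩ := QuotientGroup.mk_surjective x
    exact ⟨x, hx, by rw [map_mul, show r k = 1 from hk, mul_one]; rfl⟩
  · obtain ⟨x, hx, k, hk, e⟩ := dec t
    have c : Commute x k := (mem_centralizer_iff.1 (e3 hx) k hk).symm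
    have b1 : x ^ 2 ^ n * k ^ 2 ^ n = 1 := by
      rw [← c.mul_pow, e, ← QuotientGroup.mk_pow, hn, QuotientGroup.mk_one]
    have b2 : k ^ 2 ^ n = 1 := mem_bot.1 (e1 ▸ ⟨by
      rw [eq_inv_of_mul_eq_one_right b1]; exact E.inv_mem (E.pow_mem hx _), r.ker.pow_mem hk _⟩)
    have b3 := Tw.eq_one ⟨n, b2⟩ (a3.of_dvd_nat (r.ker.orderOf_dvd_natCard hk))
    change (t : M ⧸ K) ∈ E
    rw [← e, b3, mul_one]
    exact hx

theorem actOf {G : Type u} [Group G] [Finite G] {P K : Subgroup G} {X : Type u} [Group X] [Finite X]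
    (j : X →* Nm P) (hj : Injective j) (ρ : X →* Perm (Fin 5)) (he : ∀ x, Perm.sign (ρ x) = 1)
    (hs : ∀ σ, Perm.sign σ = 1 → ∃ x, ρ x = σ) (hk : ∀ x, ρ x = 1 ↔ (j x : G) ∈ K)
    (hK : ∀ k ∈ K, ∃ x, j x = k) (hP : IsPGroup 2 P) (hPK : P ≤ K) (hn : Group.IsNilpotent K)
    (hP' : ∀ k ∈ K, Tw k → k ∈ P)
    (hf : ∀ x, ρ x = swap 0 1 * swap 1 2 → ∀ k ∈ K, Commute (j x : G) k → k = 1) :
    ∃ _ : IsMulCommutative P, Act (P.normalizerMonoidHom.comp j) ρ := by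
  let j' : X →* G := (Nm P).subtype.comp j
  have hj' : Injective j' := (Nm P).subtype_injective.comp hj
  have : (P.comap j').Normal := ⟨fun a ha x => by
    change j' (x * a * x⁻¹) ∈ P
    rw [map_mul, map_mul, map_inv]
    exact conj_mem_of_Nm (j x).2 ha⟩
  have : ((oddPart K hn).comap j').Normal := ⟨fun a ha x => ⟨(hk _).1 (by
    rw [map_mul, map_mul, (hk a).2 ha.1, map_inv, mul_one, mul_inv_cancel]), by
      rw [map_mul, map_mul, map_inv, orderOf_conj']; exact ha.2⟩⟩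
  obtain ⟨c, hc⟩ := hs (swap 0 1 * swap 1 2) (by decide)
  have c1 : ρ c ^ 3 = 1 := by rw [hc]; decide
  have c2 : ρ c ≠ 1 := by rw [hc]; decide
  obtain ⟨h1, h2⟩ := elem ρ (P.comap j') ((oddPart K hn).comap j') c
    (Subgroup.ext fun σ => ⟨by rintro ⟨x, rfl⟩; exact he x, hs σ⟩) (hP.comap_of_injective j' hj')
    (disjoint_def.2 fun {x} a b => hj' (by rw [map_one]; exact (Tw.of_mem hP a).eq_one b.2))
    (le_antisymm (fun x hx => by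
      obtain ⟨a, b, e1, e2, e3⟩ := exists_two_odd (j' x)
      have a1 := (hk x).1 hx
      have a2 : x ^ a * x ^ b = x := hj' (by rw [map_mul, map_pow, map_pow, e1])
      rw [← a2]
      refine mul_mem_sup ?_ ⟨?_, ?_⟩
      · change j' (x ^ a) ∈ P
        rw [map_pow]; exact hP' _ (pow_mem a1 a) e2
      · rw [map_pow]; exact pow_mem a1 b
      · rw [map_pow]; exact e3)
      (sup_le (fun x hx => (hk x).2 (hPK hx)) fun x hx => (hk x).2 hx.1))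
    (hj' (by
      rw [map_one]
      refine hf c hc _ ((hk _).1 (by rw [map_pow, c1])) ?_
      rw [map_pow]
      exact (Commute.refl _).pow_right 3)) c2
    (fun q hq h => hj' (by rw [map_one]; exact hf c hc _ (hPK hq) (h.map j')))
  have h3 : ∀ a ∈ P, ∀ b ∈ P, Commute a b := fun a ha b hb => by
    obtain ⟨a, rfl⟩ := hK a (hPK ha)
    obtain ⟨b, rfl⟩ := hK b (hPK hb)
    exact (h1 a ha b hb).map j'
  have hcm : IsMulCommutative P := ⟨⟨fun a b => Subtype.ext (h3 a a.2 b b.2)⟩⟩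
  refine ⟨hcm, fun x y h => ?_, hs, he, fun v => ?_,
    c, c1, c2, fun v hv => Subtype.ext
      (hf c hc v (hPK v.2) (mul_inv_eq_iff_eq_mul.1 (congrArg Subtype.val hv)))⟩
  · refine MulEquiv.ext fun v => Subtype.ext ?_
    have a1 := (hk (y⁻¹ * x)).1 (by rw [map_mul, map_inv, h, inv_mul_cancel])
    obtain ⟨a, b, e1, e2, e3⟩ := exists_two_odd (j (y⁻¹ * x) : G)
    have a2 : Commute (j (y⁻¹ * x) : G) v := e1 ▸ (h3 _ (hP' _ (pow_mem a1 a) e2) v v.2).mul_left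
      (commute_of_nil hn (pow_mem a1 b) (hPK v.2) ((Tw.of_mem hP v.2).coprime e3).symm)
    rw [map_mul, map_inv] at a2
    change (j x : G) * v * (j x : G)⁻¹ = (j y : G) * v * (j y : G)⁻¹
    calc _ = j y * (((j y)⁻¹ * j x : Nm P) * (v : G)) * (j x : G)⁻¹ := by
          rw [coe_mul, coe_inv]; group
      _ = _ := by rw [a2.eq, coe_mul, coe_inv]; group
  · obtain ⟨a, ha⟩ : ∃ a, j' a = v := hK v (hPK v.2)
    have := congrArg j' (h2 a (show j' a ∈ P from ha ▸ v.2))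
    rw [map_mul, map_one, ha] at this
    exact Subtype.ext this

theorem g1 : ∀ σ : Perm (Fin 5), Perm.sign σ = 1 → σ * σ = 1 ∨ σ ^ 15 = 1 := by decide +kernel

set_option synthInstance.maxSize 1000 in
theorem g2 : ∀ σ : Perm (Fin 5), Perm.sign σ = 1 ∧ σ * σ = 1 → ∀ τ : Perm (Fin 5),
    Perm.sign τ = 1 ∧ τ * τ = 1 → ∀ i, σ i = i → τ i = i → σ * τ = τ * σ := by decide +kernel

variable {G Ω : Type u} [Group G] [Finite G] [MulAction G Ω] [Finite Ω]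
  {K P : Set Ω → Subgroup G} {F : Set Ω}

theorem four (hB : BlkStmt.{u}) (hE : Ev K P) (hF : F.ncard = 4) {a : Fin 4 → Ω} (ha : Injective a)
    (h : ∀ i, a i ∈ Fx Ω (P F)) {g : G} (h1 : ∀ i, g • a i = a i) (h2 : g ∉ St G (Fx Ω (P F))) :
    ∀ k ∈ K F, Commute g k → k = 1 := by
  obtain ⟨-, -, -, -, b5, -, -, -, -, b10, -⟩ := hB G Ω K P hE F hF
  have c : (Set.range a).ncard = 4 := by
    rw [← Set.image_univ, Set.ncard_image_of_injective _ ha, Set.ncard_univ, Nat.card_fin]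
  have e := (b10 _ (Set.range_subset_iff.2 h) c).2
  intro k hk
  exact (hE.fr _ c).fpf g (mem_St.2 (by rintro _ ⟨i, rfl⟩; exact h1 i))
    (fun h => h2 (b5 (e ▸ h))) k (e ▸ hk)

theorem loc (hFr : FrStmt.{u}) (hC : CpStmt.{u}) (hB : BlkStmt.{u}) (hL : LiftStmt.{u})
    (hE : Ev K P) (h7 : Bk P 7) (hF : F.ncard = 4) {a b : Ω} (hab : a ≠ b) (ha : a ∈ Fx Ω (P F))
    (hb : b ∈ Fx Ω (P F)) : ∃ (X : Type u) (_ : Group X) (j : X →* Nm (P F))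
      (ρ : X →* Perm (Fin 5)) (_ : IsMulCommutative (P F)),
      Act ((P F).normalizerMonoidHom.comp j) ρ ∧
      (∀ x, ρ x = 1 → (j x : G) ∈ St G (Fx Ω (P F))) ∧
      (∀ t ∈ Nm (P F), Tw t → t • a = a → t • b = b → ∃ x, j x = t ∧ ρ x * ρ x = 1) ∧
      ∀ c ∈ Fx Ω (P F), c ≠ a → c ≠ b → ∃ i, ∀ x, (j x : G) • c = c → ρ x i = i := by
  classical
  obtain ⟨b1, b2, b3, b4, b5, b6, -, b8, -, b10, -⟩ := hB G Ω K P hE F hF
  obtain ⟨e, e1, e2, e3⟩ := enum (h7 F hF) (f := ![5, 6]) (by decide) (a := ![a, b])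
    (by intro i k; fin_cases i <;> fin_cases k <;> simp [hab, hab.symm])
    (by intro i; fin_cases i <;> simpa)
  obtain ⟨ρ, r1, -, r2⟩ := b4.co 7 e e1 e2
  replace r2 := r2 (.inr rfl)
  have r3 : ∀ g, ρ g = 1 ↔ (g : G) ∈ St G (Fx Ω (P F)) := fun g => by
    rw [← e2, mem_St]
    exact ⟨fun h => by rintro _ ⟨i, rfl⟩; rw [r1, h]; rfl,
      fun h => Equiv.ext fun i => e1 ((r1 g i).symm.trans (h _ ⟨i, rfl⟩))⟩
  let ι : Perm (Fin 5) →* Perm (Fin 7) := Perm.viaEmbeddingHom (Fin.castAddEmb 2)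
  have i1 : Injective ι := Perm.viaEmbeddingHom_injective _
  have i2 : ∀ σ, Perm.sign (ι σ) = Perm.sign σ := fun σ => by
    change Perm.sign (σ.viaEmbedding _) = _
    rw [Perm.viaEmbedding, Perm.sign_extendDomain]
  have i3 : ∀ σ : Perm (Fin 7), σ 5 = 5 → σ 6 = 6 → σ ∈ ι.range := fun σ h5 h6 =>
    mem_range_via _ _ fun x hx => by
      rcases (by decide : ∀ x : Fin 7, x ∉ Set.range (Fin.castAddEmb 2 : Fin 5 ↪ Fin (5 + 2)) →
        x = 5 ∨ x = 6) x hx with rfl | rfl <;> assumption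
  let M := ι.range.comap ρ
  let ρ5 : M →* Perm (Fin 5) :=
    (MonoidHom.ofInjective i1).symm.toMonoidHom.comp (ρ.subgroupComap ι.range)
  have s1 : ∀ m, ι (ρ5 m) = ρ m := fun m => MonoidHom.apply_ofInjective_symm i1 _
  have s2 : ∀ m, ρ5 m = 1 ↔ ρ m = 1 := fun m => by rw [← s1, map_eq_one_iff _ i1]
  have s3 : ∀ m, Perm.sign (ρ5 m) = 1 := fun m => by
    rw [← i2, s1]; exact (r2 ▸ ⟨m, rfl⟩ : ρ m ∈ alternatingGroup (Fin 7))
  have s4 : ∀ (m : M) (i : Fin 5), (m : G) • e (Fin.castAdd 2 i) = e (Fin.castAdd 2 (ρ5 m i)) :=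
    fun m i => by rw [r1, ← s1]; exact congrArg e (Perm.viaEmbedding_apply _ _ i)
  have s5 : ∀ (m : M) (i : Fin 7), i = 5 ∨ i = 6 → (m : G) • e i = e i := fun m i hi => by
    rw [r1, ← s1]
    exact congrArg e (Perm.viaEmbedding_apply_of_notMem _ _ i (by
      rcases hi with rfl | rfl <;> decide))
  have hSt : St G (Fx Ω (P F)) ≤ St G F := St_anti b3
  have mM : ∀ g (hg : g ∈ St G (Fx Ω (P F))), (⟨g, b6 (hSt hg)⟩ : Nm (P F)) ∈ M := fun g hg => by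
    change ρ _ ∈ ι.range
    rw [(r3 _).2 hg]; exact one_mem _
  let j0 : M →* G := (Nm (P F)).subtype.comp M.subtype
  have : ((K F).comap j0).Normal := ⟨fun k hk g => by
    have a1 : (g : G) • F ⊆ Fx Ω (P F) := ((b8 _).1 g.1.2) ▸ Set.smul_set_mono b3
    have a2 := hE.conj F hF g k hk
    rwa [(b10 _ a1 (by rw [Set.ncard_smul_set, hF])).2] at a2⟩
  have fr := hE.fr F hF
  obtain ⟨p, hp, hp'⟩ := Nat.exists_prime_and_dvd (relIndex_ne_one fr)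
  obtain ⟨c, c1, c2, c3⟩ := (hFr G _ _ fr).2.2.2.2.2 p hp hp'
  have cp := hC G _ _ fr b2 c c1 c2 (c3 ▸ hp)
  set C := Nm (zpowers c) ⊓ St G F with hCd
  have cov : ∀ h ∈ St G F, ∃ x ∈ C, x⁻¹ * h ∈ K F := fun h hh => by
    have : ((K F).subgroupOf (St G F)).Normal := ⟨fun k hk g => fr.nrm g g.2 k hk⟩
    let φ : C →* St G F ⧸ (K F).subgroupOf (St G F) :=
      (QuotientGroup.mk' _).comp (inclusion inf_le_right)
    have a1 : Injective φ := (injective_iff_map_eq_one φ).2 fun x hx => Subtype.ext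
      (mem_bot.1 (cp.inf ▸ ⟨x.2, (QuotientGroup.eq_one_iff (inclusion inf_le_right x)).1 hx⟩))
    obtain ⟨x, hx⟩ := (a1.bijective_of_nat_card_le cp.card.ge).2 (⟨h, hh⟩ : St G F)
    exact ⟨x, x.2, (QuotientGroup.eq (s := (K F).subgroupOf (St G F))).1 hx⟩
  have := cp.zg
  have : IsZGroup ↥(C ⊓ St G (Fx Ω (P F))) := IsZGroup.of_injective (inclusion_injective inf_le_left)
  let ψ : ↥(C ⊓ St G (Fx Ω (P F))) →* M :=
    { toFun := fun x => ⟨_, mM x x.2.2⟩, map_one' := rfl, map_mul' := fun _ _ => rfl }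
  obtain ⟨X, x1, x2, x3, x4⟩ := absLift hL ρ5 (Subgroup.ext fun σ => ⟨by
      rintro ⟨m, rfl⟩; exact s3 m, fun hσ => by
      obtain ⟨g, hg⟩ : ι σ ∈ ρ.range := r2 ▸ ((i2 σ).trans hσ : ι σ ∈ alternatingGroup (Fin 7))
      exact ⟨⟨g, σ, hg.symm⟩, i1 ((s1 _).trans hg)⟩⟩)
    ((K F).comap j0) (fun k hk => (s2 k).2 ((r3 _).2 (b5 hk)))
    ((cp.card ▸ b2 : Odd (Nat.card C)).of_dvd_nat (card_dvd_of_le inf_le_left)) ψ
    (fun x => (s2 _).2 ((r3 _).2 x.2.2)) (fun m hm => by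
      have a1 := (r3 _).1 ((s2 m).1 hm)
      obtain ⟨x, hx, a2⟩ := cov _ (hSt a1)
      refine ⟨⟨x, hx, ?_⟩, a2⟩
      simpa using mul_mem a1 (inv_mem (b5 a2)))
  obtain ⟨_, A⟩ := actOf (P := P F) (K := K F) (M.subtype.comp X.subtype)
    (M.subtype_injective.comp X.subtype_injective) (ρ5.comp X.subtype) (fun x => s3 x)
    (fun σ hσ => let ⟨x, hx, e⟩ := x3 σ hσ; ⟨⟨x, hx⟩, e⟩)
    (fun x => ⟨x2 x x.2, fun h => (s2 _).2 ((r3 _).2 (b5 h))⟩)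
    (fun k hk => ⟨⟨⟨_, mM k (b5 hk)⟩, x1 hk⟩, rfl⟩) b1 (hE.P_le F hF) fr.nil
    (fun k hk h => (hE.memP F hF k).2 ⟨fr.le hk, h⟩) (fun x hx => by
      have hx' : ρ5 x = swap 0 1 * swap 1 2 := hx
      refine four hB hE hF (a := fun i => e (![3, 4, 5, 6] i)) (e1.comp (by decide))
        (fun i => e2 ▸ ⟨_, rfl⟩) (fun i => ?_) fun h => ?_
      · fin_cases i
        · exact (s4 x 3).trans (by rw [hx']; rfl)
        · exact (s4 x 4).trans (by rw [hx']; rfl)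
        · exact s5 x 5 (.inl rfl)
        · exact s5 x 6 (.inr rfl)
      · exact absurd (((s2 _).2 ((r3 _).2 h)).symm.trans hx') (by decide))
  refine ⟨X, _, _, _, _, A, fun x hx => (r3 _).1 ((s2 _).1 hx), fun t ht ⟨n, hn⟩ ta tb => ?_,
    fun c hc ca cb => ?_⟩
  · have a1 : (⟨t, ht⟩ : Nm (P F)) ∈ M := i3 _
      (e1 ((r1 _ 5).symm.trans ((e3 0).symm ▸ ta))) (e1 ((r1 _ 6).symm.trans ((e3 1).symm ▸ tb)))
    have a2 : Tw (⟨_, a1⟩ : M) := ⟨n, Subtype.ext (Subtype.ext hn)⟩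
    refine ⟨⟨_, x4 _ a2⟩, rfl, (g1 _ (s3 _)).elim id fun h => ?_⟩
    obtain ⟨n, hn⟩ := a2
    rw [Tw.eq_one (x := (ρ5.comp X.subtype) _) ⟨n, by
      change ρ5 ⟨_, a1⟩ ^ _ = 1
      rw [← map_pow, hn, map_one]⟩ (Odd.of_dvd_nat (by decide) (orderOf_dvd_of_pow_eq_one h)),
      one_mul]
  · obtain ⟨i, rfl⟩ : c ∈ Set.range e := e2 ▸ hc
    obtain ⟨i, rfl⟩ := (by decide : ∀ i : Fin 7, i ≠ 5 → i ≠ 6 → ∃ k : Fin 5, Fin.castAdd 2 k = i) i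
      (fun h => ca (h ▸ e3 0)) fun h => cb (h ▸ e3 1)
    exact ⟨i, fun x hx => Fin.castAdd_injective _ _ (e1 ((s4 x i).symm.trans hx))⟩

theorem m1 {X : Type u} [Group X] {Q : Subgroup G} (j : X →* Nm Q) (x : X) (v : Q) :
    (Q.normalizerMonoidHom.comp j) x v = v ↔ (v : G) ∈ Ce (j x : G) := by
  rw [mem_Ce, Subtype.ext_iff]
  change (j x : G) * v * (j x : G)⁻¹ = v ↔ _
  rw [mul_inv_eq_iff_eq_mul]
  exact eq_comm

theorem same (hFr : FrStmt.{u}) (hC : CpStmt.{u}) (hB : BlkStmt.{u}) (hL : LiftStmt.{u})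
    (hE : Ev K P) (h7 : Bk P 7) (hF : F.ncard = 4) {a b c : Ω} (hab : a ≠ b) (hca : c ≠ a)
    (hcb : c ≠ b) (ha : a ∈ Fx Ω (P F)) (hb : b ∈ Fx Ω (P F)) (hc : c ∈ Fx Ω (P F)) {t t' : G}
    (h1 : t ∈ Nm (P F)) (h2 : Tw t) (h3 : t ∉ St G (Fx Ω (P F))) (h4 : t • a = a) (h5 : t • b = b)
    (h6 : t • c = c) (h1' : t' ∈ Nm (P F)) (h2' : Tw t') (h3' : t' ∉ St G (Fx Ω (P F)))
    (h4' : t' • a = a) (h5' : t' • b = b) (h6' : t' • c = c) :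
    ∀ v ∈ P F, v ∈ Ce t' → v ∈ Ce t := fun v hv h => by
  obtain ⟨X, _, j, ρ, _, A, l1, l2, l3⟩ := loc hFr hC hB hL hE h7 hF hab ha hb
  obtain ⟨x, rfl, x1⟩ := l2 t h1 h2 h4 h5
  obtain ⟨y, rfl, y1⟩ := l2 t' h1' h2' h4' h5'
  obtain ⟨i, hi⟩ := l3 c hc hca hcb
  exact (m1 j x ⟨v, hv⟩).1 (A.quad x1 (fun e => h3 (l1 x e)) y1 (fun e => h3' (l1 y e))
    (g2 _ ⟨A.even x, x1⟩ _ ⟨A.even y, y1⟩ i (hi x h6) (hi y h6')) _ ((m1 j y _).2 h))

theorem not_St (h7 : Bk P 7) (hF : F.ncard = 4) {t : G} (h : (F1 Ω t ∩ Fx Ω (P F)).ncard = 3) :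
    t ∉ St G (Fx Ω (P F)) := fun e => by
  rw [Set.inter_eq_right.2 (show Fx Ω (P F) ⊆ F1 Ω t from mem_St.1 e), h7 F hF] at h
  exact absurd h (by decide)

theorem half (hFr : FrStmt.{u}) (hC : CpStmt.{u}) (hB : BlkStmt.{u}) (hL : LiftStmt.{u})
    (hE : Ev K P) (h7 : Bk P 7) (hF : F.ncard = 4) (t : G) (h1 : t ∈ Nm (P F)) (h2 : Tw t)
    (h3 : (F1 Ω t ∩ Fx Ω (P F)).ncard = 3) :
    Nat.card ↥(P F ⊓ Ce t) ^ 2 = Nat.card (P F) ∧ (∀ a ∈ P F, ⁅a, t⁆ ∈ Ce t) ∧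
      ∀ b ∈ P F ⊓ Ce t, ∃ a ∈ P F, ⁅a, t⁆ = b := by
  obtain ⟨a, b, ha, hb, hab⟩ := (Set.one_lt_ncard_iff (Set.toFinite _)).1
    (show 1 < (F1 Ω t ∩ Fx Ω (P F)).ncard by omega)
  obtain ⟨X, _, j, ρ, _, A, l1, l2, -⟩ := loc hFr hC hB hL hE h7 hF hab ha.2 hb.2
  obtain ⟨x, rfl, x1⟩ := l2 t h1 h2 ha.1 hb.1
  have x2 : ρ x ≠ 1 := fun e => not_St h7 hF h3 (l1 x e)
  have m2 : ∀ a : P F, ⁅(a : G), (j x : G)⁆ =
      (a * ((P F).normalizerMonoidHom.comp j) x a : P F) := fun a => by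
    rw [commutatorElement_def, ← coe_inv (x := a), inv_eq_of_mul_eq_one_right (A.sq a), mul_assoc,
      mul_assoc, ← mul_assoc (j x : G)]
    rfl
  refine ⟨?_, fun a ha => ?_, fun b hb => ?_⟩
  · rw [← A.card_fix x1 x2, ← card_map_of_injective (P F).subtype_injective]
    congr 3
    exact le_antisymm (fun v hv => ⟨⟨v, hv.1⟩, (m1 j x _).2 hv.2, rfl⟩)
      (by rintro _ ⟨v, hv, rfl⟩; exact ⟨v.2, (m1 j x v).1 hv⟩)
  · rw [m2 ⟨a, ha⟩]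
    exact (m1 j x _).1 (A.fix x1 _)
  · obtain ⟨a, ha⟩ := A.onto x1 x2 ⟨b, hb.1⟩ ((m1 j x _).2 hb.2)
    exact ⟨a, a.2, by rw [m2, ha]⟩

omit [Finite Ω] in
theorem triple {T T' : Set Ω} (h : T.ncard = 3) {p : Ω} (h1 : T ∩ T' = {p}) :
    ∃ a b, a ≠ b ∧ p ≠ a ∧ p ≠ b ∧ a ∈ T ∧ b ∈ T ∧ a ∉ T' ∧ b ∉ T' := by
  have a1 : p ∈ T ∩ T' := h1 ▸ rfl
  obtain ⟨a, b, hab, e⟩ := Set.ncard_eq_two.1 (show (T \ {p}).ncard = 2 by
    rw [Set.ncard_diff_singleton_of_mem a1.1, h])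
  have a2 : a ∈ T \ {p} := e ▸ .inl rfl
  have a3 : b ∈ T \ {p} := e ▸ .inr rfl
  exact ⟨a, b, hab, fun e => a2.2 e.symm, fun e => a3.2 e.symm, a2.1, a3.1,
    fun h => a2.2 (h1 ▸ ⟨a2.1, h⟩), fun h => a3.2 (h1 ▸ ⟨a3.1, h⟩)⟩

theorem k7a (hFr : FrStmt.{u}) (hC : CpStmt.{u}) (hB : BlkStmt.{u}) (hL : LiftStmt.{u}) :
    K7aStmt.{u} := by
  intro G Ω _ _ _ _ K P hE h7 F hF
  obtain ⟨a0, b0, ha0, hb0, hab0⟩ := (Set.one_lt_ncard_iff (Set.toFinite _)).1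
    (show 1 < (Fx Ω (P F)).ncard by rw [h7 F hF]; decide)
  obtain ⟨X, _, j, ρ0, hcm, A, -⟩ := loc hFr hC hB hL hE h7 hF hab0 ha0 hb0
  refine ⟨fun a ha b hb => congrArg Subtype.val (hcm.is_comm.comm ⟨a, ha⟩ ⟨b, hb⟩),
    fun a ha => congrArg Subtype.val (A.sq ⟨a, ha⟩), A.card, half hFr hC hB hL hE h7 hF,
    fun t t1 t' t1' t2 t2' t3 t3' h hU => ?_⟩
  obtain ⟨p, hp⟩ := Set.ncard_eq_one.1 h
  have hp' : (F1 Ω t ∩ Fx Ω (P F)) ∩ (F1 Ω t' ∩ Fx Ω (P F)) = {p} := by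
    rw [← hp]; ext x; simp only [Set.mem_inter_iff]; tauto
  obtain ⟨a, b, hab, pa, pb, ha, hb, ha', hb'⟩ := triple t3 hp'
  obtain ⟨c, d, hcd, pc, pd, hc, hd, -, -⟩ := triple t3' (Set.inter_comm _ _ ▸ hp')
  have hp1 : p ∈ (F1 Ω t ∩ Fx Ω (P F)) ∩ (F1 Ω t' ∩ Fx Ω (P F)) := hp' ▸ rfl
  have ac : a ≠ c := fun e => ha' (e ▸ hc)
  have ad : a ≠ d := fun e => ha' (e ▸ hd)
  have bc : b ≠ c := fun e => hb' (e ▸ hc)
  have bd : b ≠ d := fun e => hb' (e ▸ hd)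
  obtain ⟨e, e1, e2, e3⟩ := enum (h7 F hF) (f := ![0, 1, 2, 3, 4]) (by decide)
    (a := ![p, a, b, c, d]) (by
      refine List.nodup_ofFn.1 ?_
      simp [hab, pa, pb, hcd, pc, pd, ac, ad, bc, bd])
    (by intro i; fin_cases i; exacts [hp1.1.2, ha.2, hb.2, hc.2, hd.2])
  obtain rfl : e 0 = p := e3 0
  obtain rfl : e 1 = a := e3 1
  obtain rfl : e 2 = b := e3 2
  obtain rfl : e 3 = c := e3 3
  obtain rfl : e 4 = d := e3 4
  obtain ⟨-, -, -, b4, -⟩ := hB G Ω K P hE F hF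
  obtain ⟨ρ, r1, -, r2⟩ := b4.co 7 e e1 e2
  replace r2 := r2 (.inr rfl)
  have r3 : ∀ g : Nm (P F), (g : G) ∈ St G (Fx Ω (P F)) → ρ g = 1 := fun g h =>
    Equiv.ext fun i => e1 ((r1 g i).symm.trans (mem_St.1 h _ (e2 ▸ ⟨i, rfl⟩)))
  obtain ⟨g, hg⟩ : swap 0 1 * swap 1 2 ∈ ρ.range :=
    r2 ▸ (Perm.mem_alternatingGroup.2 (by decide))
  obtain ⟨s, s1, hs⟩ : ∃ s, Tw s ∧ ρ s = swap 1 2 * swap 5 6 := by
    obtain ⟨s, hs⟩ : swap 1 2 * swap 5 6 ∈ ρ.range :=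
      r2 ▸ (Perm.mem_alternatingGroup.2 (by decide))
    obtain ⟨m, n, a1, a2, a3⟩ := exists_two_odd s
    refine ⟨_, a2, ?_⟩
    have a4 : ρ (s ^ n) = 1 := Tw.eq_one (Tw.of_sq (by
      rw [map_pow, ← pow_add, ← two_mul, pow_mul, hs,
        show (swap 1 2 * swap 5 6 : Perm (Fin 7)) ^ 2 = 1 by decide, one_pow]))
      (a3.of_dvd_nat (orderOf_map_dvd ρ _))
    rw [← hs, ← mul_one (ρ (s ^ m)), ← a4, ← map_mul, a1]
  have s1' : Tw (s : G) := let ⟨n, hn⟩ := s1; ⟨n, congrArg Subtype.val hn⟩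
  have u1 := same hFr hC hB hL hE h7 hF hcd pc pd hc.2 hd.2 hp1.1.2 s.2 s1'
    (fun h => absurd ((r3 s h).symm.trans hs) (by decide)) (by rw [r1, hs]; rfl)
    (by rw [r1, hs]; rfl) (by rw [r1, hs]; rfl) t1' t2' (not_St h7 hF t3') hc.1 hd.1 hp1.2.1
  have fx : ∀ i : Fin 7, i = 0 ∨ i = 1 ∨ i = 2 → ((g : G) * t * (g : G)⁻¹) • e i = e i := fun i hi => by
    have a1 : t • e ((ρ g)⁻¹ i) = e ((ρ g)⁻¹ i) := by
      rw [hg]
      rcases hi with rfl | rfl | rfl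
      exacts [hb.1, hp1.1.1, ha.1]
    rw [mul_smul, mul_smul, ← coe_inv, r1, map_inv, a1, r1]
    simp
  have u2 := same hFr hC hB hL hE h7 hF hab pa pb ha.2 hb.2 hp1.1.2
    (mul_mem (mul_mem g.2 t1) (inv_mem g.2)) (t2.conj g) (fun h => not_St h7 hF t3 (by
      have a1 := r3 (g * ⟨t, t1⟩ * g⁻¹) h
      rw [map_mul, map_mul, map_inv, conj_eq_one_iff] at a1
      rw [← e2, mem_St]
      rintro _ ⟨i, rfl⟩
      exact (r1 ⟨t, t1⟩ i).trans (by rw [a1]; rfl)))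
    (fx 1 (by decide)) (fx 2 (by decide)) (fx 0 (by decide)) t1 t2 (not_St h7 hF t3) ha.1 hb.1
    hp1.1.1
  have hy : ρ (s * (g * s * g⁻¹)) = swap 1 2 * swap 2 0 := by
    simp only [map_mul, map_inv, hs, hg]; decide
  have u3 := four hB hE hF (a := fun i => e (![3, 4, 5, 6] i)) (e1.comp (by decide))
    (fun i => e2 ▸ ⟨_, rfl⟩) (g := (s * (g * s * g⁻¹) : Nm (P F)))
    (fun i => by rw [r1, hy]; fin_cases i <;> rfl)
    fun h => absurd ((r3 _ h).symm.trans hy) (by decide)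
  have u4 : P F ⊓ Ce t = ⊥ := (eq_bot_iff_forall _).2 fun v hv => u3 v (hE.P_le F hF hv.1) (by
    have a1 := mem_Ce.1 (u1 v hv.1 (hU ▸ hv).2)
    have a2 := mem_Ce.1 (u2 v hv.1 hv.2)
    have a3 : (g : G)⁻¹ * v * (g : G)⁻¹⁻¹ ∈ P F ⊓ Ce t := ⟨conj_mem_of_Nm (inv_mem g.2) hv.1,
      mem_Ce.2 (by simpa [mul_assoc] using a2.map (MulAut.conj (g : G)⁻¹))⟩
    have a4 := (mem_Ce.1 (u1 _ a3.1 (hU ▸ a3).2)).map (MulAut.conj (g : G))
    refine (a1.mul_right ?_).symm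
    simpa [mul_assoc] using a4)
  have u5 := (half hFr hC hB hL hE h7 hF t t1 t2 t3).1
  rw [u4, card_bot] at u5
  exact hE.P_ne F hF (card_eq_one.1 u5.symm)

end Cfsg.Agent.H71.Q4K7a
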