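import Cfsg.Agent.H73.CVKit

/-! # Project CV, piece SW: a sign change yields a pure transposition -/

set_option autoImplicit false

namespace Cfsg.Agent.H71.CvSw

open Matrix Cfsg.Geo Cfsg.Agent.H26
open Cfsg.Agent.H25 Cfsg.Agent.H73.CV
open Cfsg.Agent.H25.CU (qF hf subSU qF_eq hf_eq)
open Cfsg.Agent.H25.C6 hiding Fld Mod Bc Low Ar Tri StdStmt NrmStmt EsStmt GeoStmt TpStmt TvStmt OddStmt ZsStmt H3bStmt
  H3cStmt H3dStmt H3Stmt A1Stmt K0Stmt SwStmt PrimStmt RealStmt BigStmt SmallStmt ClsStmt A2Stmt CopStmt Tv5Stmt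
  LiftStmt KbStmt KoddStmt UqStmt One
open Equiv (Perm swap)

universe u

section Mon

variable {ι : Type} [Fintype ι] [DecidableEq ι] {F : Type u} [Field F] {G : Subgroup (GL ι F)}
  {σ τ : Perm ι} {d e : ι → Fˣ}

/-- monomial elements of `G` -/
def Mn (G : Subgroup (GL ι F)) (σ : Perm ι) (d : ι → Fˣ) : Prop := gD d * gP F σ ∈ G

theorem Mn.congr (h : Mn G σ d) (h1 : σ = τ) (h2 : ∀ i, d i = e i) : Mn G τ e := by
  rw [← h1, ← funext h2]; exact h

theorem Mn.mul (h : Mn G σ d) (k : Mn G τ e) : Mn G (σ * τ) fun i => d i * e (σ⁻¹ i) := by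
  have := mul_mem h k
  rw [mul_assoc, ← mul_assoc (gP F σ), gP_mul_gD, mul_assoc, ← map_mul, ← mul_assoc,
    ← map_mul] at this
  exact this

theorem Mn.inv (h : Mn G σ d) : Mn G σ⁻¹ fun i => (d (σ i))⁻¹ := by
  have := inv_mem h
  rw [_root_.mul_inv_rev, ← map_inv, ← map_inv, gP_mul_gD] at this
  exact this

theorem Mn.of_P (h : gP F σ ∈ G) : Mn G σ fun _ => 1 := by
  have : gD (fun _ : ι => (1 : Fˣ)) = 1 := map_one gD
  rwa [Mn, this, one_mul]

theorem Mn.toP (h : Mn G σ fun _ => 1) : gP F σ ∈ G := by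
  have : gD (fun _ : ι => (1 : Fˣ)) = 1 := map_one gD
  rwa [Mn, this, one_mul] at h

theorem Mn.of_D (h : gD d ∈ G) : Mn G 1 d := by rwa [Mn, map_one, mul_one]

theorem Mn.toD (h : Mn G σ d) (h1 : σ = 1) : gD d ∈ G := by rwa [Mn, h1, map_one, mul_one] at h

theorem Mn.conj (h : Mn G σ d) (k : Mn G τ e) :
    Mn G (τ * σ * τ⁻¹) fun i => e i * d (τ⁻¹ i) * (e (τ (σ⁻¹ (τ⁻¹ i))))⁻¹ :=
  ((k.mul h).mul k.inv).congr rfl fun _ => rfl

theorem Mn.pow (h : Mn G 1 d) (m : ℕ) : Mn G 1 fun i => d i ^ m := by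
  have := pow_mem (h.toD rfl) m
  rw [← map_pow] at this
  exact Mn.of_D this

end Mon

/-- sums of shifted sign patterns -/
def comb {R : Type} [Mul R] (e : R → Bool) (l : List R) (i : R) : Bool :=
  l.foldr (fun a b => xor (e (a * i)) b) false

/-- the finite fact -/
def FinC (r : ℕ) [NeZero r] (L : List (ZMod r)) (e : ZMod r → Bool) : Prop :=
  (∀ i, e i = false) ∨ (∀ i, i ≠ 0 → e i = true) ∨ ∃ l ∈ L.sublists, (∀ a ∈ l, a ≠ 0) ∧
    ∃ b : Bool, ∀ i, i ≠ 0 → xor b (comb e l i) = decide (i = 1 ∨ i = -1)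

instance (r : ℕ) [NeZero r] (L : List (ZMod r)) (e : ZMod r → Bool) : Decidable (FinC r L e) := by
  unfold FinC; infer_instance

theorem fin7 (e : ZMod 7 → Bool) (h0 : e 0 = false) (h : ∀ i, e (-i) = e i) :
    FinC 7 [1, 2, 3] e := by
  have key : ∀ b1 b2 b3 : Bool, FinC 7 [1, 2, 3]
      fun i => [false, b1, b2, b3, b3, b2, b1].getD i.val false := by decide +kernel
  have : e = fun i => [false, e 1, e 2, e 3, e 3, e 2, e 1].getD i.val false := by
    funext i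
    fin_cases i
    exacts [h0, rfl, rfl, rfl, h 3, h 2, h 1]
  rw [this]
  exact key _ _ _

theorem fin11 (e : ZMod 11 → Bool) (h0 : e 0 = false) (h : ∀ i, e (-i) = e i) :
    FinC 11 [1, 2, 3, 4, 5] e := by
  have key : ∀ b1 b2 b3 b4 b5 : Bool, FinC 11 [1, 2, 3, 4, 5]
      fun i => [false, b1, b2, b3, b4, b5, b5, b4, b3, b2, b1].getD i.val false := by
    decide +kernel
  have : e = fun i => [false, e 1, e 2, e 3, e 4, e 5, e 5, e 4, e 3, e 2, e 1].getD i.val false := by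
    funext i
    fin_cases i
    exacts [h0, rfl, rfl, rfl, rfl, rfl, h 5, h 4, h 3, h 2, h 1]
  rw [this]
  exact key _ _ _ _ _

section Main

variable {F : Type u} [Field F] {r : ℕ} [Fact r.Prime] {ω : Fˣ} {G : Subgroup (GL (ZMod r) F)}

/-- sign patterns realised in `G` -/
def Pt (G : Subgroup (GL (ZMod r) F)) (e : ZMod r → Bool) : Prop :=
  ∃ σ d, Mn G σ d ∧ ∀ i, σ i = if e i then -i else i

theorem Pt.xor {e e' : ZMod r → Bool} (h : Pt G e) (hs : ∀ i, e (-i) = e i) (h' : Pt G e') :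
    Pt G fun i => xor (e i) (e' i) := by
  obtain ⟨σ, d, h1, h2⟩ := h
  obtain ⟨τ, f, k1, k2⟩ := h'
  refine ⟨_, _, h1.mul k1, fun i => ?_⟩
  rw [Perm.mul_apply, k2, h2]
  rcases h3 : e' i <;> rcases h4 : e i <;> simp [hs, h3, h4]

theorem pt_const (hG : Gen ω G) (b : Bool) : Pt G fun _ => b := by
  cases b
  · exact ⟨1, _, Mn.of_P (by rw [map_one]; exact one_mem _), fun i => rfl⟩
  · exact ⟨_, _, Mn.of_P hG.t, fun i => rfl⟩

theorem Pt.shift (hG : Gen ω G) {e : ZMod r → Bool} (h : Pt G e) {a : ZMod r} (ha : a ≠ 0) :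
    Pt G fun i => e (a * i) := by
  obtain ⟨σ, d, h1, h2⟩ := h
  refine ⟨_, _, h1.conj (Mn.of_P (hG.h (Units.mk0 a ha)⁻¹)), fun i => ?_⟩
  have : (Units.mk0 a ha)⁻¹.mulLeft⁻¹ i = a * i := rfl
  rw [Perm.mul_apply, Perm.mul_apply, this, h2]
  split_ifs <;> simp [ha]

theorem Pt.comb (hG : Gen ω G) {e : ZMod r → Bool} (h : Pt G e) (hs : ∀ i, e (-i) = e i)
    (l : List (ZMod r)) (hl : ∀ a ∈ l, a ≠ 0) : Pt G (comb e l) := by
  induction l with
  | nil => exact pt_const hG false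
  | cons a l ih =>
    exact (h.shift hG (hl a (by simp))).xor (fun i => by rw [mul_neg, hs])
      (ih fun b hb => hl b (by simp [hb]))

theorem step1 (hG : Gen ω G) (hr : r = 7 ∨ r = 11) {d : ZMod r → Fˣ} {σ : Perm (ZMod r)}
    (h : ∀ i, σ i = i ∨ σ i = -i) (hm : Mn G σ d) :
    σ = 1 ∨ σ = Equiv.neg _ ∨ ∃ f, Mn G (swap 1 (-1)) f := by
  let e : ZMod r → Bool := fun i => decide (σ i ≠ i)
  have h1 : ∀ i, σ i = if e i then -i else i := fun i => by
    by_cases H : σ i = i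
    · simp [e, H]
    · simp [e, H, (h i).resolve_left H]
  have h0 : e 0 = false := by simpa [e] using h 0
  have h2 : ∀ i, σ i = i → σ (-i) = -i := fun i H => (h (-i)).elim id fun H' => by
    rw [neg_neg] at H'
    rw [σ.injective (H'.trans H.symm), H]
  have hs : ∀ i, e (-i) = e i := fun i => by
    simp only [e, decide_eq_decide, ne_eq]
    exact not_congr ⟨fun H => by simpa using h2 _ H, h2 i⟩
  have hp : Pt G e := ⟨σ, d, hm, h1⟩
  have key : ∃ L, FinC r L e := by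
    rcases hr with rfl | rfl
    exacts [⟨_, fin7 e h0 hs⟩, ⟨_, fin11 e h0 hs⟩]
  obtain ⟨L, H | H | ⟨l, -, hl, b, H⟩⟩ := key
  · left; ext i; simp [h1, H]
  · right; left; ext i
    by_cases hi : i = 0
    · simp [hi, h1]
    · simp [h1, H i hi]
  · obtain ⟨τ, f, k1, k2⟩ := (pt_const hG b).xor (fun _ => rfl) (hp.comb hG hs l hl)
    refine Or.inr (Or.inr ⟨f, k1.congr (Equiv.ext fun i => ?_) fun _ => rfl⟩)
    rw [k2]
    by_cases hi : i = 0
    · subst hi
      rw [Equiv.swap_apply_of_ne_of_ne zero_ne_one (by simp)]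
      simp
    · simp only [H i hi]
      by_cases e1 : i = 1
      · simp [e1]
      · by_cases e2 : i = -1
        · simp [e2]
        · simp [e1, e2, Equiv.swap_apply_of_ne_of_ne e1 e2]

/-- two-transitivity of the affine group -/
theorem exists_aff (hG : Gen ω G) (h2 : (2 : ZMod r) ≠ 0) {i j : ZMod r} (hij : i ≠ j) :
    ∃ τ : Perm (ZMod r), gP F τ ∈ G ∧ τ 1 = i ∧ τ (-1) = j := by
  have ha : (i - j) / 2 ≠ 0 := div_ne_zero (sub_ne_zero.2 hij) h2
  refine ⟨Equiv.addRight ((i + j) / 2) * (Units.mk0 _ ha).mulLeft, ?_, ?_, ?_⟩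
  · rw [map_mul]
    exact mul_mem (hG.addRight _) (hG.h _)
  · show (i - j) / 2 * 1 + (i + j) / 2 = i
    field_simp; ring
  · show (i - j) / 2 * -1 + (i + j) / 2 = j
    field_simp; ring

variable [Fintype F] {n p : ℕ}

theorem step2 (hG : Gen ω G) (hF : Fld r n p ω) (hN : NoH G) {d : ZMod r → Fˣ}
    (hm : Mn G (swap 1 (-1)) d) : ∃ e, Mn G (swap 1 (-1)) e ∧ e 0 = 1 ∧
      ∀ i, e i * e (swap 1 (-1) i) = 1 := by
  have w0 : swap (1 : ZMod r) (-1) 0 = 0 := Equiv.swap_apply_of_ne_of_ne zero_ne_one (by simp)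
  have h1 : Mn G 1 fun i => d i * d (swap 1 (-1) i) := (hm.mul hm).congr (by simp) fun _ => rfl
  have h2 := hG.dg hN (h1.toD rfl)
  have h3 : Mn G 1 fun _ => (d 0 ^ r)⁻¹ := Mn.of_D (by rw [gD_const]; exact hG.scal_mem _)
  refine ⟨_, ((h3.mul (h1.pow n)).mul hm).congr (by simp) fun _ => rfl, ?_, fun i => ?_⟩
  · simp only [mul_one, inv_one, Perm.coe_one, id, w0]
    rw [← sq, ← pow_mul, mul_assoc, ← pow_succ, ← hF.r_eq, inv_mul_cancel]
  · have h4 := h2 i 0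
    simp only [w0] at h4
    simp only [mul_one, inv_one, Perm.coe_one, id, Equiv.swap_apply_self]
    generalize d (swap 1 (-1) i) = b at h4 ⊢
    generalize d i = a at h4 ⊢
    generalize d 0 = c at h4 ⊢
    calc _ = (a * b) ^ (2 * n + 1) * ((c * c) ^ r)⁻¹ := by
          rw [mul_comm b a, mul_pow c, mul_inv, two_mul, pow_succ, pow_add]
          simp only [mul_comm, mul_left_comm, mul_assoc]
      _ = 1 := by rw [← hF.r_eq, h4, mul_inv_cancel]

theorem eq_one_of (hF : Fld r n p ω) {c : Fˣ} (h1 : c * c = 1) (h2 : c ^ r = 1) : c = 1 := by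
  rwa [hF.r_eq, pow_succ, pow_mul, sq, h1, one_pow, one_mul] at h2

theorem step3 (hG : Gen ω G) (hF : Fld r n p ω) (hN : NoH G) {e : ZMod r → Fˣ}
    (hm : Mn G (swap 1 (-1)) e) (h0 : e 0 = 1) (h1 : ∀ i, e i * e (swap 1 (-1) i) = 1)
    {i : ZMod r} (i1 : i ≠ 1) (i2 : i ≠ -1) : e i = 1 := by
  by_cases i0 : i = 0
  · rw [i0, h0]
  have z1 : (0 : ZMod r) ≠ 1 := zero_ne_one
  have z2 : (0 : ZMod r) ≠ -1 := by simp
  obtain ⟨τ, t1, t2, t3⟩ := exists_aff hG hF.two_ne_zmod (Ne.symm i0)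
  have h2 := hm.conj (Mn.of_P t1)
  rw [← Equiv.swap_apply_apply, t2, t3] at h2
  have h3 := (hm.mul (hm.conj h2)).toD (by
    rw [← Equiv.swap_apply_apply, Equiv.swap_apply_of_ne_of_ne z1.symm i1.symm,
      Equiv.swap_apply_of_ne_of_ne z2.symm i2.symm, Equiv.swap_mul_self])
  obtain ⟨k, -, hk⟩ := Finset.exists_mem_notMem_of_card_lt_card
    (s := ({0, i, 1, -1} : Finset (ZMod r))) (t := Finset.univ) (by
      have := hF.seven_le
      have := Finset.card_le_four (a := (0 : ZMod r)) (b := i) (c := 1) (d := -1)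
      rw [Finset.card_univ, ZMod.card]
      omega)
  simp only [Finset.mem_insert, Finset.mem_singleton, not_or] at hk
  obtain ⟨k0, ki, k1, k2⟩ := hk
  have h4 := hG.dg hN h3 0 k
  have h5 := h1 k
  have h6 := h1 i
  simp only [Equiv.swap_inv, Equiv.swap_apply_of_ne_of_ne z1 z2, Equiv.swap_apply_left,
    Equiv.swap_apply_of_ne_of_ne i1 i2, Equiv.swap_apply_right, Equiv.swap_apply_of_ne_of_ne k1 k2,
    Equiv.swap_apply_of_ne_of_ne k0 ki, h0, one_mul, mul_inv_cancel_comm] at h4 h5 h6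
  rw [h5, one_pow] at h4
  exact eq_one_of hF h6 h4

theorem step4 (hG : Gen ω G) (hF : Fld r n p ω) (hN : NoH G) {e : ZMod r → Fˣ}
    (hm : Mn G (swap 1 (-1)) e) (h1 : e 1 * e (-1) = 1) (h2 : ∀ i, i ≠ 1 → i ≠ -1 → e i = 1) :
    ∃ ε : Fˣ, ε * ε = 1 ∧ Mn G (swap 1 (-1)) fun i => if i = 1 ∨ i = -1 then ε else 1 := by
  have z1 : (0 : ZMod r) ≠ 1 := zero_ne_one
  have z2 : (0 : ZMod r) ≠ -1 := by simp
  have hω := hF.pow_r
  have h3 := (hm.mul (hm.conj (Mn.of_P hG.t))).toD (by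
    rw [← Equiv.swap_apply_apply, Equiv.neg_apply, neg_neg, Equiv.swap_comm (-1),
      Equiv.swap_mul_self])
  have h4 := hG.dg hN h3 1 0
  have n1 : ∀ i : ZMod r, (Equiv.neg (ZMod r))⁻¹ i = -i := fun _ => rfl
  simp only [Equiv.swap_inv, Equiv.swap_apply_left, Equiv.swap_apply_of_ne_of_ne z1 z2, n1,
    neg_neg, neg_zero, h2 0 z1 z2, one_mul, inv_one, mul_one, one_pow] at h4
  have h5 : e 1 ^ r * e 1 ^ r = 1 := by rw [← mul_pow, h4]
  obtain ⟨j, hj⟩ := hF.root (c := e 1 ^ r * e 1) (by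
    obtain ⟨m, hm⟩ := hF.odd_r.add_one
    rw [mul_pow, ← pow_succ, hm, pow_add, ← mul_pow, h5, one_pow])
  have h6 : e 1 = e 1 ^ r * ch ω j := by rw [← hj, ← mul_assoc, h5, one_mul]
  have h7 : gD (fun i => ch ω (i * (-j / 2))) ∈ G := by
    have := pow_mem hG.x (-j / 2).val
    rw [gX_eq, ← map_pow] at this
    convert this using 2
    funext i
    simp [ch_mul hω]
  have h8 : ch ω (-j / 2) * ch ω j * ch ω (-j / 2) = 1 := by
    rw [← ch_add hω, ← ch_add hω, ← ch_zero (r := r) (ω := ω)]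
    congr 1
    have := hF.two_ne_zmod
    field_simp
    ring
  have h9 : e (-1) = (e 1)⁻¹ := eq_inv_of_mul_eq_one_right h1
  refine ⟨e 1 ^ r, h5, (hm.conj (Mn.of_D h7)).congr (by simp) fun i => ?_⟩
  simp only [inv_one, Perm.coe_one, id, Equiv.swap_inv]
  generalize e 1 ^ r = ε at h5 h6 ⊢
  have h10 : ε⁻¹ = ε := inv_eq_of_mul_eq_one_right h5
  by_cases i1 : i = 1
  · rw [i1, Equiv.swap_apply_left, if_pos (Or.inl rfl), neg_mul, ch_neg hω, inv_inv, one_mul, h6,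
      mul_left_comm, mul_assoc, h8, mul_one]
  · by_cases i2 : i = -1
    · rw [i2, Equiv.swap_apply_right, if_pos (Or.inr rfl), neg_mul, ch_neg hω, one_mul, h9, h6,
        ← mul_inv, ← mul_inv, mul_left_comm, mul_assoc, h8, mul_one, h10]
    · rw [Equiv.swap_apply_of_ne_of_ne i1 i2, if_neg (by tauto), h2 i i1 i2, mul_one, mul_inv_cancel]

theorem step5 (hG : Gen ω G) (hF : Fld r n p ω) {ε : Fˣ} (hε : ε * ε = 1)
    (hm : Mn G (swap 1 (-1)) fun i => if i = 1 ∨ i = -1 then ε else 1) :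
    gP F (swap 1 (-1)) ∈ G := by
  have z1 : (0 : ZMod r) ≠ 1 := zero_ne_one
  have z2 : (0 : ZMod r) ≠ -1 := by simp
  have z3 : (-1 : ZMod r) ≠ 1 := hF.neg_ne one_ne_zero
  have key : ∀ a b : ZMod r, a ≠ b → Mn G (swap a b) fun i => if i = a ∨ i = b then ε else 1 :=
    fun a b hab => by
      obtain ⟨τ, t1, t2, t3⟩ := exists_aff hG hF.two_ne_zmod hab
      refine (hm.conj (Mn.of_P t1)).congr (by rw [← Equiv.swap_apply_apply, t2, t3]) fun i => ?_
      simp only [one_mul, inv_one, mul_one, Perm.inv_eq_iff_eq, t2, t3]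
  refine (((key 1 0 z1.symm).mul (key 0 (-1) z2)).mul (key 1 0 z1.symm)).congr ?_ (fun i => ?_) |>.toP
  · nth_rewrite 2 [← Equiv.swap_inv 1 0]
    rw [← Equiv.swap_apply_apply, Equiv.swap_apply_right, Equiv.swap_apply_of_ne_of_ne z3 z2.symm]
  · simp only [_root_.mul_inv_rev, Equiv.swap_inv, Perm.mul_apply]
    by_cases i1 : i = 1
    · simp [i1, z3, hε]
    · by_cases i0 : i = 0
      · simp [i0, z3.symm, hε, Equiv.swap_apply_of_ne_of_ne z1.symm z3.symm]
      · by_cases i2 : i = -1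
        · simp [i2, z3, hε, Equiv.swap_apply_of_ne_of_ne z3 z2.symm]
        · simp [i0, i1, i2, Equiv.swap_apply_of_ne_of_ne i0 i2, Equiv.swap_apply_of_ne_of_ne i1 i0]

end Main

theorem sw : SwStmt.{u} := fun F _ _ r n p _ ω G hM hN d σ h hm => by
  have hr : r = 7 ∨ r = 11 := hM.fld.rn.imp And.left And.left
  refine (step1 hM.toGen hr h hm).imp_right (Or.imp_right fun ⟨f, hf⟩ => ?_)
  obtain ⟨e, h1, h2, h3⟩ := step2 hM.toGen hM.fld hN hf
  obtain ⟨ε, h4, h5⟩ := step4 hM.toGen hM.fld hN h1 (by simpa using h3 1)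
    fun i => step3 hM.toGen hM.fld hN h1 h2 h3
  exact step5 hM.toGen hM.fld h4 h5

end Cfsg.Agent.H71.CvSw
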