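import Cfsg.Agent.H96.D4Defs

/-! The automizer of `J'` in odd characteristic: members outside `B` move `Y / W` off itself. -/

set_option autoImplicit false

namespace Cfsg.Agent.H71.D4J

open Cfsg.Agent.H97 Cfsg.Agent.H96.VB Cfsg.Agent.H96.CP Cfsg.Agent.H96.DF Subgroup

universe u

variable {F K : Type u} [Field F] [Field K] [Algebra F K] {C : Tri F K}

/-- the image in `J' / W` -/
def pr (g : U C) : K × K := (g.t, g.x)

variable (C) in
/-- the commutator form on `J' / W` -/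
def ω : K × K →ₗ[F] K × K →ₗ[F] F :=
  LinearMap.mk₂ F (fun v w => C.T (v.1 * w.2) - C.T (w.1 * v.2))
    (fun _ _ _ => by simp [add_mul, mul_add]; ring) (fun _ _ _ => by simp [mul_sub])
    (fun _ _ _ => by simp [add_mul, mul_add]; ring) (fun _ _ _ => by simp [mul_sub])

theorem ω_apply (v w : K × K) : ω C v w = C.T (v.1 * w.2) - C.T (w.1 * v.2) := rfl

theorem ω_comm {v w : K × K} (h : ω C v w = 0) : ω C w v = 0 := by
  rw [ω_apply] at h ⊢; linear_combination -h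

variable (C) in
/-- a preimage in `J'` -/
def lf (v : K × K) : U C := ⟨v.1, 0, 0, v.2, 0, 0⟩

theorem lf_mem (v : K × K) : lf C v ∈ J' C := ⟨rfl, rfl⟩

theorem pr_mul (g : U C) {h : U C} (hh : h ∈ J' C) : pr (g * h) = pr g + pr h := by
  simp [pr, (mem_J'.1 hh).1, (mem_J'.1 hh).2]

theorem pr_inv {g : U C} (hg : g ∈ J' C) : pr g⁻¹ = -pr g := by
  simp [pr, (mem_J'.1 hg).1, (mem_J'.1 hg).2]

theorem comm_iff {g h : U C} (hg : g ∈ J' C) (hh : h ∈ J' C) :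
    g * h = h * g ↔ ω C (pr g) (pr h) = 0 := by
  obtain ⟨g1, g2⟩ := mem_J'.1 hg
  obtain ⟨h1, h2⟩ := mem_J'.1 hh
  rw [ω_apply]
  refine ⟨fun e => ?_, fun e => ?_⟩
  · have := congrArg U.a e
    simp only [U.mul_a, g1, g2, h1, h2, mul_zero, map_zero, add_zero] at this
    simp only [pr]
    linear_combination this
  · simp only [pr] at e
    ext <;> simp [g1, g2, h1, h2, add_comm]
    linear_combination e

theorem conj_xy (y : K) {g : U C} (hg : g ∈ J' C) :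
    g⁻¹ * (xy C y * g * (xy C y)⁻¹) ∈ J' C ∧
      pr (g⁻¹ * (xy C y * g * (xy C y)⁻¹)) = (0, -C.cr g.t y) := by
  simp [mem_J', pr, xy, (mem_J'.1 hg).1, (mem_J'.1 hg).2]

theorem conj_xy_W (y : K) {g : U C} (hg : g ∈ J' C) (h : pr g = 0) :
    xy C y * g * (xy C y)⁻¹ = g := by
  have h1 : g.t = 0 := congrArg Prod.fst h
  have h2 : g.x = 0 := congrArg Prod.snd h
  ext <;> simp [xy, (mem_J'.1 hg).1, (mem_J'.1 hg).2, h1, h2]

theorem exists_cj_xy (y : K) : ∃ β : MulAut (J' C), Cj β (xy C y) :=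
  exists_cj (mem_normalizer_iff.2 fun g => by simp [mem_J', xy])

variable [Finite K]

theorem ω_nd {v : K × K} (h : ∀ w, ω C v w = 0) : v = 0 :=
  Prod.ext (C.T_nd fun b => by simpa [ω_apply] using h (0, b))
    (C.T_nd fun b => by simpa [ω_apply, mul_comm] using h (b, 0))

theorem ω_span {v w : K × K} (h : ∀ z, ω C v z = 0 → ω C w z = 0) : ∃ c : F, w = c • v := by
  by_cases h0 : ∀ z, ω C v z = 0
  · exact ⟨0, by rw [zero_smul]; exact ω_nd fun z => h z (h0 z)⟩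
  obtain ⟨z0, h0⟩ := not_forall.1 h0
  refine ⟨ω C w z0 / ω C v z0, sub_eq_zero.1 (ω_nd (C := C) fun z => ?_)⟩
  have := h (ω C v z0 • z - ω C v z • z0) (by simp [mul_comm])
  simp only [map_sub, map_smul, smul_eq_mul, LinearMap.sub_apply, LinearMap.smul_apply] at this ⊢
  field_simp
  linear_combination this

theorem pr_ext_zero (α : MulAut (J' C)) {g : U C} (hg : g ∈ J' C) (h : pr g = 0) :
    pr (ext α g) = 0 := ω_nd (C := C) fun w => by
  have hw := ext_mem α⁻¹ (lf_mem (C := C) w)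
  have := congrArg (ext α) ((comm_iff hg hw).2 (by simp [h]))
  rw [ext_map_mul α hg hw, ext_map_mul α hw hg, ext_ext_inv] at this
  exact (comm_iff (ext_mem α hg) (lf_mem w)).1 this

theorem pr_ext (α : MulAut (J' C)) {g : U C} (hg : g ∈ J' C) :
    pr (ext α g) = pr (ext α (lf C (pr g))) := by
  have h1 := lf_mem (C := C) (pr g)
  have := pr_ext_zero α (mul_mem (inv_mem h1) hg) (by
    rw [pr_mul _ hg, pr_inv h1]; exact neg_add_cancel _)
  rw [ext_map_mul α (inv_mem h1) hg, ext_map_inv α h1, pr_mul _ (ext_mem α hg),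
    pr_inv (ext_mem α h1)] at this
  exact (neg_add_eq_zero.1 this).symm

/-- The additive map induced on `J' / W`; it preserves orthogonality. -/
theorem exists_f (α : MulAut (J' C)) : ∃ f : K × K ≃+ K × K,
    (∀ g ∈ J' C, pr (ext α g) = f (pr g)) ∧ ∀ v w, ω C (f v) (f w) = 0 ↔ ω C v w = 0 := by
  refine ⟨⟨⟨fun v => pr (ext α (lf C v)), fun v => pr (ext α⁻¹ (lf C v)), fun v => ?_, fun v => ?_⟩,
    fun v w => ?_⟩, fun g hg => pr_ext α hg, fun v w => ?_⟩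
  · exact (pr_ext α⁻¹ (ext_mem α (lf_mem v))).symm.trans (by rw [ext_inv_ext]; rfl)
  · exact (pr_ext α (ext_mem α⁻¹ (lf_mem v))).symm.trans (by rw [ext_ext_inv]; rfl)
  · have := pr_ext α (mul_mem (lf_mem (C := C) v) (lf_mem w))
    rw [ext_map_mul α (lf_mem v) (lf_mem w), pr_mul _ (ext_mem α (lf_mem w)),
      pr_mul _ (lf_mem w)] at this
    exact this.symm
  · refine (comm_iff (ext_mem α (lf_mem v)) (ext_mem α (lf_mem w))).symm.trans
      (.trans ?_ (comm_iff (lf_mem v) (lf_mem w)))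
    rw [← ext_map_mul α (lf_mem v) (lf_mem w), ← ext_map_mul α (lf_mem w) (lf_mem v)]
    exact ⟨fun e => by simpa using congrArg (ext α⁻¹) e, congrArg _⟩

theorem f_smul {f : K × K ≃+ K × K} (hf : ∀ v w, ω C (f v) (f w) = 0 ↔ ω C v w = 0) (c : F)
    (v : K × K) : ∃ d : F, f (c • v) = d • f v := ω_span (C := C) fun z hz => by
  obtain ⟨z, rfl⟩ := f.surjective z
  rw [hf] at hz ⊢
  simp [hz]

theorem exists_perp (x : K) : ∃ k, k ≠ 0 ∧ C.T (k * x) = 0 := by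
  have : Finite F := Finite.of_injective _ (algebraMap F K).injective
  obtain ⟨k, h1, h2⟩ := (Submodule.ne_bot_iff _).1 (LinearMap.ker_ne_bot_of_finrank_lt
    (f := C.T ∘ₗ LinearMap.mulRight F x) (by rw [C.finrank, Module.finrank_self]; norm_num))
  exact ⟨k, h2, h1⟩

theorem perp_basis {x k : K} (hx : x ≠ 0) (hk : k ≠ 0) (h : C.T (k * x) = 0) :
    ∃ k', C.T (k' * x) = 0 ∧ ∀ t, C.T (t * x) = 0 → ∃ c d : F, t = c • k + d • k' := by
  have : Finite F := Finite.of_injective _ (algebraMap F K).injective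
  by_cases h1 : ∀ t, C.T (t * x) = 0 → ∃ c : F, c • k = t
  · exact ⟨0, by simp, fun t ht => let ⟨c, e⟩ := h1 t ht; ⟨c, 0, by simp [e]⟩⟩
  push Not at h1
  obtain ⟨k', h1, h2⟩ := h1
  let S := LinearMap.ker (C.T ∘ₗ LinearMap.mulRight F x)
  have h3 : Module.finrank F S < 3 := C.finrank ▸ Submodule.finrank_lt fun e => by
    obtain ⟨b, hb⟩ := C.T_onto hx 1
    have : C.T (b * x) = 0 := e.ge Submodule.mem_top
    rw [mul_comm, hb] at this
    exact one_ne_zero this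
  have h4 := finrank_span_eq_card ((LinearIndependent.pair_iff' hk).2 h2)
  have h5 : Submodule.span F (Set.range ![k, k']) = S := Submodule.eq_of_le_of_finrank_le
    (Submodule.span_le.2 (by rintro _ ⟨i, rfl⟩; fin_cases i; exacts [h, h1]))
    (by rw [h4, Fintype.card_fin]; omega)
  refine ⟨k', h1, fun t ht => ?_⟩
  obtain ⟨c, e⟩ := (Submodule.mem_span_range_iff_exists_fun F).1 (h5.ge ht)
  exact ⟨c 0, c 1, by simpa using e.symm⟩

theorem cr_onto (h2 : (2 : F) ≠ 0) {k : K} (hk : k ≠ 0) (x : K) : ∃ y, C.cr k y = x :=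
  Finite.surjective_of_injective (fun a b e => sub_eq_zero.1 (C.cr_eq_zero_odd h2 hk (by
    rw [sub_eq_add_neg, C.cr_add, C.cr_neg, e, add_neg_cancel]))) x

/-- the multiples of `k` -/
def ln (F : Type u) [Field F] [Algebra F K] (k : K) : AddSubgroup K :=
  (Submodule.span F {k}).toAddSubgroup

omit [Finite K] in
theorem mem_ln {k t : K} : t ∈ ln F k ↔ ∃ c : F, c • k = t := Submodule.mem_span_singleton

omit [Finite K] in
theorem T_cr' {k y x t : K} (h : C.cr k y = x) : C.T (k * C.cr t y) = C.T (t * x) := by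
  rw [← h, C.T_cr, C.cr_comm, ← C.T_cr]

/-- A common flag for two transvection-like maps. -/
theorem flag (h2 : (2 : F) ≠ 0) {f : K × K ≃+ K × K}
    (hf : ∀ v w, ω C (f v) (f w) = 0 ↔ ω C v w = 0) {x0 x1 : K} (h1 : x1 ≠ 0)
    (e : f (0, x1) = (0, x0)) : ∃ y y' : K, y ≠ 0 ∧ y' ≠ 0 ∧ ∃ P X D : AddSubgroup (K × K),
    X ≤ P ∧ D ≤ X ∧ (∀ v : K × K, (0, C.cr v.1 y) ∈ P) ∧ (∀ v ∈ P, (0, C.cr v.1 y) ∈ X) ∧
    (∀ v ∈ X, (0, C.cr v.1 y) ∈ D) ∧ (∀ v ∈ D, C.cr v.1 y = 0) ∧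
    (∀ v : K × K, f (0, C.cr v.1 y') ∈ P) ∧ (∀ v, f v ∈ P → f (0, C.cr v.1 y') ∈ X) ∧
    (∀ v, f v ∈ X → f (0, C.cr v.1 y') ∈ D) ∧ ∀ v, f v ∈ D → C.cr v.1 y' = 0 := by
  have h0 : x0 ≠ 0 := fun h => h1 (congrArg Prod.snd (f.map_eq_zero_iff.1 (by rw [e, h]; rfl)))
  have hP : ∀ v, C.T ((f v).1 * x0) = 0 ↔ C.T (v.1 * x1) = 0 := fun v => by
    simpa [e, ω_apply] using hf v (0, x1)
  obtain ⟨k, hk, kx⟩ := exists_perp (C := C) x1
  obtain ⟨x2, -, hx⟩ := perp_basis hk h1 (by rwa [mul_comm])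
  obtain ⟨k1, hk1, kx1, hl⟩ : ∃ k1, k1 ≠ 0 ∧ C.T (k1 * x0) = 0 ∧ ∃ c : F, c • k1 = (f (0, x2)).1 := by
    by_cases h : (f (0, x2)).1 = 0
    · obtain ⟨k1, a, b⟩ := exists_perp (C := C) x0
      exact ⟨k1, a, b, 0, by rw [h, zero_smul]⟩
    · exact ⟨_, h, (hP _).2 (by simp), 1, one_smul _ _⟩
  have hR : ∀ x, C.T (k * x) = 0 → (f (0, x)).1 ∈ ln F k1 := fun x h => by
    obtain ⟨c, d, rfl⟩ := hx x (by rwa [mul_comm])
    obtain ⟨c', a⟩ := f_smul hf c (0, x1)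
    obtain ⟨d', b⟩ := f_smul hf d (0, x2)
    obtain ⟨m, hm⟩ := hl
    rw [show ((0 : K), c • x1 + d • x2) = c • (0, x1) + d • (0, x2) by simp, map_add, a, b, e]
    exact mem_ln.2 ⟨d' * m, by simp [mul_smul, hm]⟩
  obtain ⟨y, hy⟩ := cr_onto (C := C) h2 hk1 x0
  obtain ⟨y', hy'⟩ := cr_onto (C := C) h2 hk x1
  have hR' : ∀ x, C.T (k1 * x) = 0 → (f.symm (0, x)).1 ∈ ln F k := fun x h => by
    obtain ⟨c, a⟩ := ω_span (C := C) (v := (k, 0)) (w := ((f.symm (0, x)).1, 0)) fun z hz => by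
      obtain ⟨d, b⟩ := mem_ln.1 (hR z.2 (by simpa [ω_apply] using hz))
      have := (hf (f.symm (0, x)) (0, z.2)).1 (by simp [ω_apply, ← b, h])
      simpa [ω_apply] using this
    exact mem_ln.2 ⟨c, (congrArg Prod.fst a).symm⟩
  refine ⟨y, y', fun h => h0 (by rw [← hy, h, C.cr_zero]), fun h => h1 (by rw [← hy', h, C.cr_zero]),
    (LinearMap.ker (C.T ∘ₗ LinearMap.mulRight F x0 ∘ₗ LinearMap.fst F K K)).toAddSubgroup,
    (ln F k1).comap (AddMonoidHom.fst K K) ⊓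
      (ln F k).comap ((AddMonoidHom.fst K K).comp f.symm.toAddMonoidHom),
    (Submodule.span F {(0, x0)}).toAddSubgroup, fun v hv => ?_, fun v hv => ?_, fun v => ?_,
    fun v hv => ⟨zero_mem (ln F k1), hR' _ ((T_cr' hy).trans hv)⟩, fun v hv => ?_, fun v hv => ?_,
    fun v => (hP _).2 (by simp), fun v hv => ⟨hR _ ((T_cr' hy').trans ((hP v).1 hv)), ?_⟩,
    fun v hv => ?_, fun v hv => ?_⟩
  · obtain ⟨c, a⟩ := mem_ln.1 hv.1
    change c • k1 = v.1 at a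
    change C.T (v.1 * x0) = 0
    simp [← a, kx1]
  · obtain ⟨c, rfl⟩ := Submodule.mem_span_singleton.1 hv
    rw [show c • ((0 : K), x0) = (0, c • x0) by simp]
    exact ⟨zero_mem (ln F k1), hR' _ (by simp [kx1])⟩
  · change C.T (0 * x0) = 0
    simp
  · obtain ⟨c, a⟩ := mem_ln.1 hv.1
    change c • k1 = v.1 at a
    exact Submodule.mem_span_singleton.2 ⟨c, by simp [← a, C.smul_cr, hy]⟩
  · obtain ⟨c, rfl⟩ := Submodule.mem_span_singleton.1 hv
    simp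
  · simp
  · obtain ⟨c, a⟩ := mem_ln.1 hv.2
    have a : c • k = v.1 := by simpa using a
    obtain ⟨d, b⟩ := f_smul hf c (0, x1)
    exact Submodule.mem_span_singleton.2 ⟨d, by rw [← e, ← b, ← a, C.smul_cr, hy']; simp⟩
  · obtain ⟨c, a⟩ := Submodule.mem_span_singleton.1 hv
    have : v.1 = 0 := C.T_nd fun b => by
      obtain ⟨d, r⟩ := f_smul (C := C) (f := f.symm) (fun v w => by
        simpa using (hf (f.symm v) (f.symm w)).symm) c (0, x0)
      rw [a, ← e, f.symm_apply_apply, f.symm_apply_apply] at r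
      simp [r]
    rw [this, C.zero_cr]

variable (C) in
/-- the preimage in `J'` -/
def pb (S : AddSubgroup (K × K)) : Subgroup (U C) where
  carrier := {g | g ∈ J' C ∧ pr g ∈ S}
  one_mem' := ⟨one_mem _, zero_mem S⟩
  mul_mem' := fun a b => ⟨mul_mem a.1 b.1, by rw [pr_mul _ b.1]; exact add_mem a.2 b.2⟩
  inv_mem' := fun a => ⟨inv_mem a.1, by rw [pr_inv a.1]; exact neg_mem a.2⟩

theorem jpa {p : ℕ} [Fact p.Prime] [CharP F p] : JPaStmt C p := fun hp A B h α hA hB v hv hv' => by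
  have h2 : (2 : F) ≠ 0 := fun e => hp ((Nat.prime_dvd_prime_iff_eq Fact.out Nat.prime_two).1
    ((CharP.cast_eq_zero_iff F p 2).1 (by exact_mod_cast e)))
  obtain ⟨f, hα, hf⟩ := exists_f α
  by_contra hW
  obtain ⟨y, y', hy, hy', P, X, D, l1, l2, a1, a2, a3, a4, b1, b2, b3, b4⟩ :=
    flag h2 hf (x0 := (ext α v).x) (x1 := v.x) (fun e => hW ⟨hv.1, hv.2.1, hv.2.2, e⟩) (by
      have := hα v hv.2
      simp only [pr, mem_Q.1 hv.1, mem_Q.1 hv'.1] at this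
      exact this.symm)
  obtain ⟨β, hβ⟩ := exists_cj_xy (C := C) y
  obtain ⟨β', hβ'⟩ := exists_cj_xy (C := C) y'
  have k1 : ∀ {S : AddSubgroup (K × K)}, ∀ g ∈ J' C, (0, C.cr (pr g).1 y) ∈ S →
      g⁻¹ * ext β g ∈ pb C S := fun g hg e => by
    rw [hβ g hg]
    exact ⟨(conj_xy y hg).1, by rw [(conj_xy y hg).2]; simpa [pr] using neg_mem e⟩
  have k0 : ∀ g ∈ J' C, f (pr (ext α⁻¹ g)) = pr g := fun g hg => by
    rw [← hα _ (ext_mem α⁻¹ hg), ext_ext_inv]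
  have k2 : ∀ {S : AddSubgroup (K × K)}, ∀ g ∈ J' C, f (0, C.cr (pr (ext α⁻¹ g)).1 y') ∈ S →
      g⁻¹ * ext (α * β' * α⁻¹) g ∈ pb C S := fun g hg e => by
    have hw := ext_mem α⁻¹ hg
    have hc := conj_xy y' hw
    rw [ext_mul, ext_mul, hβ' _ hw, show g⁻¹ = ext α (ext α⁻¹ g)⁻¹ by
      rw [ext_map_inv α hw, ext_ext_inv], ← ext_map_mul α (inv_mem hw) (hβ' _ hw ▸ ext_mem β' hw)]
    refine ⟨ext_mem α hc.1, ?_⟩
    rw [hα _ hc.1, hc.2, show ((0 : K), -C.cr (ext α⁻¹ g).t y') = -(0, C.cr (ext α⁻¹ g).t y') by simp,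
      map_neg]
    exact neg_mem e
  refine hB (h.pair [pb C P, pb C X, pb C D, pb C ⊥] ?_ α hA β β' _ _ hβ (fun e => hy e.2) hβ'
    (fun e => hy' e.2) ⟨fun g hg => k1 g hg (a1 _), fun g hg => k1 g hg.1 (a2 _ hg.2),
      fun g hg => k1 g hg.1 (a3 _ hg.2), fun g hg => k1 g hg.1 (by rw [a4 _ hg.2]; exact zero_mem _),
      fun g hg => (hβ g hg.1).trans (conj_xy_W y hg.1 hg.2)⟩
    ⟨fun g hg => k2 g hg (b1 _), fun g hg => k2 g hg.1 (b2 _ (k0 g hg.1 ▸ hg.2)),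
      fun g hg => k2 g hg.1 (b3 _ (k0 g hg.1 ▸ hg.2)),
      fun g hg => k2 g hg.1 (by rw [b4 _ (k0 g hg.1 ▸ hg.2)]; exact map_zero f ▸ zero_mem _),
      fun g hg => ?_⟩)
  · simp only [List.isChain_cons_cons, List.isChain_singleton, and_true, ge_iff_le]
    exact ⟨fun g hg => hg.1, fun g hg => ⟨hg.1, l1 hg.2⟩, fun g hg => ⟨hg.1, l2 hg.2⟩,
      fun g hg => ⟨hg.1, bot_le (a := D) hg.2⟩⟩
  · have hw := ext_mem α⁻¹ hg.1
    rw [ext_mul, ext_mul, hβ' _ hw, conj_xy_W y' hw (pr_ext_zero α⁻¹ hg.1 hg.2), ext_ext_inv]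

end Cfsg.Agent.H71.D4J
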