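import Cfsg.Agent.H71.FSBlock
import Cfsg.Agent.H23.FSTw
import Cfsg.Agent.H61.FsPA
import Cfsg.Agent.H58.FsP3
import Cfsg.Agent.H72.FSP4
import Cfsg.Agent.H89.FSG2
import Cfsg.Agent.H70.FsG4
import Cfsg.Agent.H57.FsReal
import Cfsg.Agent.H7.FsRT
import Cfsg.Agent.H77.FsR3b
import Cfsg.Agent.H98.FsAsm

/-!
# Project FS2: assembly
-/

set_option autoImplicit false

namespace Cfsg.Agent.H71.FS2

universe u

theorem main_all : MAIN.{u} :=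
  have c1 : C1.{u} := H23.FT.c1
  have c2 : C2.{u} := H23.FT.c2
  have c3 : C3.{u} := H23.FT.c3
  have p3 : PB'.{u} ∧ PB.{u} := H58.FsP3.p3 c1 c2
  have rf : REFL.{u} := H89.FS2.refl_of p3.2
  H70.FsG4.main (H61.FsPA.pa c1 c2) rf (H89.FS2.pf_of fr p3.2 rf) (pu (H72.FS2.ph c1 c2 c3 p3.1))

theorem re_all : RE.{u} := H57.FsR.re H57.FsR.rs (H77.FS.ru_of_rt H7.FsR.rt)

end Cfsg.Agent.H71.FS2
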