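import Cfsg.Agent.H71.FSFrame

/-!
# Project FS2: block vectors
-/

set_option autoImplicit false

namespace Cfsg.Agent.H71.FS2

open Subgroup H30 QuadraticMap Module
open scoped commutatorElement

universe u

variable {F V : Type u} [Field F] [AddCommGroup V] [Module F V] {Q : QuadraticForm F V}
  {X : Subgroup (O Q)} {T : Set V} {w w' : V}

theorem Kl_fix {r : End F V} (hr : r ∈ RR X) (e : r w = w) {y : V} (hy : y ∈ Kl X w) : r y = y :=
  sub_eq_zero.1 (hy _ (sub_mem hr one_mem_RR) (sub_eq_zero.2 e))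

theorem Blk.of_Kl (hw : Blk X w) {y : V} (hy : y ∈ Kl X w) : Blk X y := by
  obtain ⟨x, hx, a, ha, e⟩ := hw.inv
  refine ⟨⟨x, hx, a, ha, Kl_fix (mul_mem_RR ha (add_mem one_mem_RR (mem_RR hx))) e hy⟩,
    fun s hs h => (hw.fld s hs h).imp (hy s hs) fun ⟨r, hr, e⟩ =>
      ⟨r, hr, Kl_fix (mul_mem_RR hr hs) e hy⟩⟩

variable [CharP F 2]

theorem Blk.eq_zero (hw : Blk X w) (h : w ∈ Fx X) : w = 0 := by
  obtain ⟨x, hx, a, -, e⟩ := hw.inv
  rw [← e, h x hx, add_self' F, map_zero]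

theorem Blk.perp_Fx (hw : Blk X w) {f : V} (hf : f ∈ Fx X) : polar Q w f = 0 := by
  obtain ⟨x, hx, a, ha, e⟩ := hw.inv
  obtain ⟨s, hs, h⟩ := exists_adj ha
  rw [← e, h, polar_add_left, O_polar_inv, RR_Fx hs hf _ (inv_mem hx), CharTwo.add_self_eq_zero]

theorem Blk.rad (hw : Blk X w) (hb : Base X T) {y : V} (hy : y ∈ Kl X w) (h : y ∈ DD X T)
    (h' : y ∈ perp Q (DD X T)) : y = 0 := (hw.of_Kl hy).eq_zero (hb.rad y h h').1

theorem Blk.half (hc : Comm X) {x : O Q} (hx : x ∈ X) {a a' : End F V} (ha : a ∈ RR X)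
    (ha' : a' ∈ RR X) (e : a (w + x.1 w) = w) (h : Adj Q a a')
    (hs : ∀ r ∈ RR X, ∀ s ∈ RR X, Adj Q r s → r w = 0 → s w = 0) {y : V} (hy : y ∈ Kl X w) :
    a y + a' y = y := by
  have m1 := mul_mem_RR ha (add_mem one_mem_RR (mem_RR hx))
  have m2 := mul_mem_RR (add_mem one_mem_RR (mem_RR (inv_mem hx))) ha'
  have h1 : a' y + x⁻¹.1 (a' y) = y := Kl_fix m2 (sub_eq_zero.1 (hs _ (sub_mem m1 one_mem_RR) _
    (sub_mem m2 one_mem_RR) ((h.mul (adj_one.add (adj_O x))).sub adj_one) (sub_eq_zero.2 e))) hy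
  have h2 : a (a' y + x.1 (a' y)) = a' y := Kl_fix m1 e (RR_Kl hc ha' hy)
  have h3 : a (y + x.1 y) = y := Kl_fix m1 e hy
  have h4 := congrArg x.1 h1
  rw [map_add, O_apply_inv, add_comm] at h4
  rw [← h2, h4, ← map_add, h3]

variable [Finite F]

theorem Blk.ideal (hw : Blk X w) (hc : Comm X) (ho : Odd (Nat.card X)) {C : Submodule F V}
    (hC : ∀ r ∈ RR X, ∀ v ∈ C, r v ∈ C) {s t : End F V} (hs : s ∈ RR X) (ht : t ∈ RR X)
    (h : Adj Q s t) (h1 : s w ∈ C) (h2 : t w ∈ C) (h0 : s w ≠ 0) : w ∈ C := by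
  rcases hw.fld _ (add_mem hs ht) (add_comm t s ▸ h.add h.symm) with a | ⟨r, hr, e⟩
  · rcases hw.fld _ (mul_mem_RR hs ht) (h.mul h.symm) with b | ⟨r, hr, e⟩
    · refine absurd (eq_zero_of_sq hc ho hs ?_) h0
      rwa [(add_eq_zero' F).1 a]
    · exact e ▸ hC r hr _ (hC s hs _ h2)
  · exact e ▸ hC r hr _ (add_mem h1 h2)

variable [FiniteDimensional F V]

namespace Frame

variable (hQ : (polarBilin Q).Nondegenerate) (hb : Base X T) (h : Frame X T w w')
include hQ hb h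

omit hQ in
theorem exists_eps : ∃ e ∈ RR X, (∀ v, e v ∈ Kl X w) ∧ (∀ v ∈ Kl X w, e v = v) ∧
    ∀ v ∈ Kl X w, ∀ u, polar Q v (e u) = polar Q v u := by
  obtain ⟨e, he, ew, eK⟩ := FS2.exists_eps hb.comm hb.odd w
  obtain ⟨e', he', ea⟩ := exists_adj he
  refine ⟨e, he, eK, fun v hv => Kl_fix he ew hv, fun v hv u => ?_⟩
  rw [← ea.symm, Kl_fix he' (sub_eq_zero.1 (h.ann_adj hb.comm (sub_mem he one_mem_RR)
    (sub_mem he' one_mem_RR) (ea.sub adj_one) (sub_eq_zero.2 ew))) hv]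

theorem nondegY (hw : Blk X w) : NondegOn Q (YY X T w w') := fun y hy hy' => by
  obtain ⟨e, he, a, -, b⟩ := h.exists_eps hb
  refine hw.rad (h.base hb.comm hb) hy.2 ?_ hy.1
  rw [← perp_perp hQ (DD X _)]
  exact mem_perp'.2 fun v hv => (b y hy.2 v).symm.trans (hy' _ ⟨RR_perp_DD he hv, a v⟩)

theorem surj {a a' : End F V} (ha : a ∈ RR X) (ha' : a' ∈ RR X) (aa : Adj Q a a')
    (hh : ∀ y ∈ Kl X w, a y + a' y = y) {y : V} (hy : y ∈ YY X T w w') :
    ∃ n ∈ NN X T w, Yv X T w w' n y := by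
  have hc := hb.comm
  obtain ⟨y1, y2, y3, y4⟩ := mem_YY.1 hy
  obtain ⟨u, hu, e⟩ := h.rep hQ hc (polarBilin Q y ∘ₗ LinearMap.applyₗ y) fun r hr e => by
    change polar Q y (r y) = 0
    rw [y4 r hr e, polar_zero_right]
  have e' : ∀ r ∈ RR X, polar Q (r w') u = polar Q y (r y) := e
  have hau := RR_DD ha hu
  have hK : w' + y + a u ∈ Kl X w := add_mem (add_mem h.ann y4) (by
    obtain ⟨r, hr, e⟩ := mem_DD_singleton.1 hau
    exact e ▸ RR_Kl hc hr (self_mem_Kl w))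
  have h3 : ∀ r ∈ RR X, polar Q (r (w' + y + a u)) (w' + y + a u) = polar Q (r w') w' :=
    fun r hr => by
      obtain ⟨s, hs, rs⟩ := exists_adj hr
      have e1 := e' _ (mul_mem_RR ha' hr)
      have e2 := e' _ (mul_mem_RR ha' hs)
      have e3 := congrArg (polar Q y) (hh _ (RR_Kl hc hr y4))
      rw [End.mul_apply, aa.symm, End.mul_apply] at e1
      rw [End.mul_apply, aa.symm, rs.symm, End.mul_apply, ← aa, ← rs, ← hc.app ha hr,
        polar_comm _ _ y, polar_comm, hc.app ha hr, hc.app hr ha y] at e2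
      rw [polar_add_right] at e3
      simp only [map_add, polar_add_left, polar_add_right]
      rw [mem_perp.1 y1 _ (RR_mem_DD hr), mem_perp'.1 (RR_perp_DD hr y1) _ (mem_DD rfl),
        mem_perp'.1 (RR_perp_DD hr y2) _ hau, mem_perp.1 y2 _ (RR_DD hr hau),
        mem_perp.1 (h.ti hau) _ (RR_DD hr hau), e1, e2, polar_comm _ (r y)]
      linear_combination e3 + CharTwo.add_self_eq_zero (polar Q y (r y))
  have h4 : ∀ v ∈ Kl X w, ∀ r ∈ RR X, ∀ s, Adj Q r s → Q (r v) = polar Q ((s * a * a * r) v) v :=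
    fun v hv r hr s rs => by
      rw [← hh _ (RR_Kl hc hr hv), Q_add, aa.Q_eq hQ hc ha, CharTwo.add_self_eq_zero, zero_add,
        ← aa, ← rs.symm]
      rfl
  obtain ⟨n, hn, e⟩ := h.con hQ hc (w'' := w' + y + a u)
    ⟨add_mem (add_mem h.wD' y3) (h.UD hau), hK⟩
    (fun r hr => by
      rw [polar_add_right, polar_add_right, mem_perp.1 y2 _ (RR_mem_DD hr),
        mem_perp.1 (h.ti hau) _ (RR_mem_DD hr), add_zero, add_zero])
    (fun r hr => by
      obtain ⟨s, hs, rs⟩ := exists_adj hr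
      rw [h4 _ hK r hr s rs, h4 _ h.ann r hr s rs,
        h3 _ (mul_mem_RR (mul_mem_RR (mul_mem_RR hs ha) ha) hr)])
  refine ⟨n, hn, hy, ?_⟩
  rw [e]
  convert hau using 1
  abel

theorem camina (hw : Blk X w) {a a' : End F V} (ha : a ∈ RR X) (ha' : a' ∈ RR X) (aa : Adj Q a a')
    (hh : ∀ y ∈ Kl X w, a y + a' y = y) {g z : O Q × ℤˣ} (hg : g ∈ NN X T w) (hg' : g ∉ ZZ X T w)
    (hz : z ∈ ZZ X T w) : ∃ g' ∈ NN X T w, ⁅g, g'⁆ = z := by
  have hc := hb.comm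
  obtain ⟨y, hy⟩ := h.yex hQ hc hg
  have y0 : y ≠ 0 := fun e => hg' ((h.yzero hQ hg).1 (e ▸ hy))
  obtain ⟨e, he, eK, -, ee⟩ := h.exists_eps hb
  obtain ⟨f, hf, fy, fK⟩ := FS2.exists_eps hc hb.odd y
  obtain ⟨f', hf', ff⟩ := exists_adj hf
  have hu := Z_sub hQ hz w'
  have sy : ∀ r ∈ RR X, ∀ s, Adj Q r s →
      polar Q (s w') (z.1.1 w' - w') = polar Q (r w') (z.1.1 w' - w') := fun r hr s rs => by
    have h2 := O_polar z.1 (r w') w'
    rw [NN_app hz.1 hr, ← sub_add_cancel (z.1.1 w') w', map_add, polar_add_left,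
      polar_add_right, polar_add_right, mem_perp.1 (h.ti hu) _ (RR_DD hr hu), rs,
      polar_comm _ _ (s w')] at h2
    linear_combination h2 - CharTwo.add_self_eq_zero (polar Q (r w') (z.1.1 w' - w'))
  have m1 := add_mem (one_mem_RR (X := X)) hf
  have m2 := add_mem (one_mem_RR (X := X)) hf'
  have hm : ((1 + f') * (1 + f)) w' = 0 := h.ann _ (mul_mem_RR m2 m1) (by
    refine (hw.fld _ (mul_mem_RR m2 m1)
      ((adj_one.add ff.symm).mul (adj_one.add ff))).resolve_right fun ⟨r, hr, e⟩ => y0 ?_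
    rw [← Kl_fix (mul_mem_RR hr (mul_mem_RR m2 m1)) e hy.1.2, End.mul_apply, End.mul_apply,
      LinearMap.add_apply 1 f, fy, End.one_apply, add_self' F, map_zero, map_zero])
  have mj : f * (1 + f' + a * f') ∈ RR X := mul_mem_RR hf (add_mem m2 (mul_mem_RR ha hf'))
  have aj : Adj Q (f * (1 + f' + a * f')) ((1 + f + f * a') * f') :=
    ff.mul ((adj_one.add ff.symm).add (aa.mul ff.symm))
  have hj : (f * (1 + f' + a * f')) w' + ((1 + f + f * a') * f') w' = w' := by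
    have h1 := congrArg f (hh _ (RR_Kl hc hf' h.ann))
    simp only [End.mul_apply, LinearMap.add_apply, End.one_apply, map_add] at hm h1 ⊢
    rw [hc.app hf' hf] at hm
    linear_combination (norm := skip) hm + h1 + add_self' F (f (f' w')) - add_self' F w'
    abel
  obtain ⟨v, hv, ev⟩ := exists_rep_RR (X := X) hQ y
    (polarBilin Q (z.1.1 w' - w') ∘ₗ LinearMap.applyₗ ((f * (1 + f' + a * f')) w'))
    (DD X (insert w' (insert w T))) fun r hr e => by
      change polar Q _ (r (f _)) = 0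
      rw [fK _ r hr (hw.rad (h.base hc hb) (RR_Kl hc hr hy.1.2) e (RR_perp_DD hr hy.1.1)),
        polar_zero_right]
  have ev' : ∀ r ∈ RR X, polar Q (r y) (e v) =
      polar Q ((r * (f * (1 + f' + a * f'))) w') (z.1.1 w' - w') := fun r hr => by
    rw [ee _ (RR_Kl hc hr hy.1.2), ev r hr, polar_comm]
    rfl
  obtain ⟨g', hg1, hy'⟩ := h.surj hQ hb ha ha' aa hh (y := e v) ⟨RR_perp_DD he hv, eK v⟩
  have hz' := h.comm_mem hg hg1
  refine ⟨g', hg1, h.ext' hQ hz'.1 hz.1 (sub_left_injective (b := w') (sub_eq_zero.1 (h.nd1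
    (sub_mem (Z_sub hQ hz' w') hu) (mem_perp'.2 fun u hu => ?_))))⟩
  obtain ⟨r, hr, rfl⟩ := mem_DD_singleton.1 hu
  obtain ⟨s, hs, rs⟩ := exists_adj hr
  rw [polar_sub_left, h.ycomm hg hg1 hy hy' hr, polar_comm, ← rs.symm, ev' r hr, ev' s hs,
    ← sy _ (mul_mem_RR hs mj) _ (rs.symm.mul aj), hc.RR (aj.mem_RR hQ mj) hr, ← polar_add_left,
    End.mul_apply, End.mul_apply r, ← map_add, hj, polar_comm, sub_self]

theorem exists_x (hw : Blk X w) {x : O Q} (hx : x ∈ X) {a : End F V} (ha : a ∈ RR X)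
    (e : a (w + x.1 w) = w) : ∃ t ∈ ev (pr Q) (Gam X (insert w' (insert w T))), Odd (orderOf t) ∧
      (∀ l ∈ Gam X (insert w' (insert w T)), l * t * l⁻¹ = t ^ ((pr Q l : ℤˣ) : ℤ)) ∧
      ∀ n ∈ NN X T w, ⁅n, t⁆ ∈ ZZ X T w → n ∈ ZZ X T w := by
  have hc := hb.comm
  have hY := h.nondegY hQ hb hw
  have sY : ∀ r ∈ RR X, ∀ y ∈ YY X T w w', r y ∈ YY X T w w' := fun r hr y hy =>
    ⟨RR_perp_DD hr hy.1, RR_Kl hc hr hy.2⟩
  have lY : ∀ l ∈ Gam X (insert w' (insert w T)), ∀ y ∈ YY X T w w', l.1.1 y ∈ YY X T w w' :=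
    fun l hl y hy => ⟨gam_perp_DD hl subset_rfl hy.1,
      h.K_Kl hQ hc (mem_Gam_insert.1 (L_K hl)).1 hy.2⟩
  obtain ⟨t, t1, t2⟩ := exists_patch hQ hY x fun y hy => sY _ (mem_RR hx) y hy
  have ht : (t, 1) ∈ ev (pr Q) (Gam X (insert w' (insert w T))) :=
    mem_Gam_even (fun k hk v => by
      obtain ⟨y, hy, z, hz, rfl⟩ := hY.orthDec.exists_add v
      rw [map_add, map_add, map_add, map_add, t1 y hy, t2 z hz, t1 (k.1 y) (sY _ (mem_RR hk) y hy),
        t2 (k.1 z) (RR_perp sY (mem_RR hk) hz)]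
      exact congrArg (· + _) (hc.app (mem_RR hx) (mem_RR hk) y))
      fun v hv => t2 v (mem_perp'.2 fun y hy => mem_perp.1 hy.1 v (mem_DD hv))
  have tp : ∀ n : ℕ, (∀ y ∈ YY X T w w', (t ^ n).1 y = (x ^ n).1 y) ∧
      ∀ z ∈ perp Q (YY X T w w'), (t ^ n).1 z = z := fun n => by
    induction n with
    | zero => exact ⟨fun _ _ => rfl, fun _ _ => rfl⟩
    | succ n ih =>
      refine ⟨fun y hy => ?_, fun z hz => ?_⟩
      · rw [pow_succ, pow_succ, O_mul_apply, O_mul_apply, t1 y hy]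
        exact ih.1 _ (sY _ (mem_RR hx) y hy)
      · rw [pow_succ, O_mul_apply, t2 z hz, ih.2 z hz]
  refine ⟨_, ht, hb.odd.of_dvd_nat (orderOf_dvd_of_pow_eq_one (Prod.ext
    (O_ext_orthDec hY.orthDec (fun y hy => ?_) (tp _).2) (one_pow _))), fun l hl => ?_,
    fun n hn hz => ?_⟩
  · rw [Prod.pow_fst, (tp _).1 y hy,
      show x ^ Nat.card X = 1 from congrArg Subtype.val (pow_card_eq_one' (x := (⟨x, hx⟩ : X)))]
    rfl
  · have hi := inv_mem hl
    have p1 : ∀ y ∈ YY X T w w', (l.1 * t * l.1⁻¹).1 y = (x ^ ((l.2 : ℤˣ) : ℤ)).1 y := fun y hy => by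
      rw [← hl.1 x hx]
      exact congrArg l.1.1 (t1 _ (lY _ hi y hy))
    have p2 : ∀ z ∈ perp Q (YY X T w w'), (l.1 * t * l.1⁻¹).1 z = z := fun z hz => by
      rw [O_mul_apply, O_mul_apply, t2 (l.1⁻¹.1 z) (perp_mem_of_forall_mem _ _ (lY _ hi) z hz),
        O_apply_inv]
    refine Prod.ext (O_ext_orthDec hY.orthDec (fun y hy => (p1 y hy).trans ?_)
      fun z hz => (p2 z hz).trans ?_) (by simp) <;>
    rcases Int.units_eq_one_or l.2 with e | e <;> rw [pr_apply, e]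
    · simpa using (t1 y hy).symm
    · change _ = t⁻¹.1 y
      exact (O_inv_apply_eq.2 ((t1 _ (sY _ (mem_RR (inv_mem hx)) y hy)).trans
        (O_apply_inv x y)).symm).symm
    · simpa using (t2 z hz).symm
    · exact (O_inv_apply_eq.2 (t2 z hz).symm).symm
  · obtain ⟨y, hy⟩ := h.yex hQ hc hn
    obtain ⟨y', hy'⟩ := h.yex hQ hc (inv_mem hn)
    have e1 := ymul hn hy hy'
    rw [mul_inv_cancel] at e1
    obtain rfl := (add_eq_zero' F).1 (h.yuniq _ _ _ e1 ((h.yzero hQ (one_mem _)).2 (one_mem _)))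
    have e2 := ymul hn hy (h.yconj hQ hc ht.1 hy')
    rw [← mul_assoc, ← mul_assoc] at e2
    have e3 := h.yuniq _ _ _ e2 ((h.yzero hQ hz.1).2 hz)
    rw [t1 y hy.1] at e3
    have e4 : a (y + x.1 y) = y :=
      Kl_fix (mul_mem_RR ha (add_mem one_mem_RR (mem_RR hx))) e hy.1.2
    rw [e3, map_zero] at e4
    exact (h.yzero hQ hn).1 (e4 ▸ hy)

end Frame

theorem pu (ph : PH.{u}) : PU.{u} := by
  intro F V _ _ _ _ _ _ Q hQ X T w hb hD hw h0 ih
  haveI := finite_O Q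
  by_cases hodd : HasOdd (pr Q) (Gam X (insert w T))
  swap
  · exact nb_of_not_hasOdd hodd
  obtain ⟨γ, hγ, ho⟩ := hodd
  have hc := hb.comm
  have hγ' : ∀ r ∈ RR X, ∀ s, Adj Q r s → γ.1.1 (r w) = s w := fun r hr s e => by
    rw [gam_odd hQ hγ ho hr e, (mem_Gam_insert.1 hγ).2]
  have hs : ∀ r ∈ RR X, ∀ s ∈ RR X, Adj Q r s → r w = 0 → s w = 0 := fun r hr s _ e e0 => by
    rw [← hγ' r hr s e, e0, map_zero]
  have UD : ∀ r ∈ RR X, r w ∈ DD X T → r w = 0 := fun r hr e =>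
    hw.rad hb (RR_Kl hc hr (self_mem_Kl w)) e (RR_perp_DD hr hD)
  by_cases hU : NondegOn Q (DD X {w})
  · refine (ih (insert w T) ⟨hc, hb.odd, fun d hd hd' => ?_⟩ (DD_lt_insert fun e => h0 (UD 1 one_mem_RR e))).1
    obtain ⟨r, hr, d, hd0, rfl⟩ := mem_DD_insert.1 hd
    rw [DD_insert, perp_sup] at hd'
    have e : r w = 0 := hU _ (RR_mem_DD hr) (mem_perp'.1 ((Submodule.add_mem_iff_left _
      (mem_perp_DD_singleton.2 fun s hs => mem_perp'.1 (RR_perp_DD hs hD) d hd0)).1 hd'.1))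
    rw [e, zero_add] at hd' ⊢
    exact hb.rad d hd0 hd'.2
  obtain ⟨x, hx, a, ha, ea⟩ := hw.inv
  obtain ⟨a', ha', aa⟩ := exists_adj ha
  have hh : ∀ y ∈ Kl X w, a y + a' y = y := fun y hy => Blk.half hc hx ha ha' ea aa hs hy
  have ti : w ∈ perp Q (DD X {w}) := by
    by_contra hn
    refine hU fun u hu hu' => by_contra fun u0 => hn ?_
    obtain ⟨s, hs, rfl⟩ := mem_DD_singleton.1 hu
    obtain ⟨t, ht, e⟩ := exists_adj hs
    exact hw.ideal hc hb.odd (fun _ hr _ hv => RR_perp_DD hr hv) hs ht e (mem_perp'.2 hu')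
      (hγ' s hs t e ▸ K_perp hγ (mem_perp'.2 hu')) u0
  have hx' := mem_RR hx
  have hx'' := mem_RR (inv_mem hx)
  obtain ⟨v, hv, hv'⟩ := exists_orth_not_orth (Q := Q) (DD X T) (u := x.1 w + x⁻¹.1 w) (by
    rw [ker_polarBilin_eq_bot hQ, sup_bot_eq]
    intro e
    have e1 : x.1 w + x⁻¹.1 w = 0 := UD _ (add_mem hx' hx'') e
    have e2 := congrArg x.1 e1
    rw [map_add, O_apply_inv, map_zero] at e2
    have e3 : w + x.1 w = 0 := eq_zero_of_sq hc hb.odd (add_mem one_mem_RR hx') (by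
      change w + x.1 w + x.1 (w + x.1 w) = 0
      rw [map_add]
      linear_combination (norm := skip) e2 + add_self' F (x.1 w)
      abel)
    rw [e3, map_zero] at ea
    exact h0 ea.symm)
  obtain ⟨e, he, ew, eK⟩ := exists_eps hc hb.odd w
  obtain ⟨e', he', ee⟩ := exists_adj he
  have ew' : e' w = w := sub_eq_zero.1 (hs _ (sub_mem he one_mem_RR) _ (sub_mem he' one_mem_RR)
    (ee.sub adj_one) (sub_eq_zero.2 ew))
  have φ : ∀ r ∈ RR X, ∀ s, Adj Q r s →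
      polar Q (r w) (e (v + γ.1⁻¹.1 v)) = polar Q (r w + s w) v := fun r hr s rs => by
    rw [← ee.symm, hc.app he' hr, ew', polar_add_right, ← O_polar_inv, hγ' r hr s rs, polar_add_left]
  have sym : ∀ r ∈ RR X, polar Q (r w) (e (v + γ.1⁻¹.1 v)) = polar Q w (r (e (v + γ.1⁻¹.1 v))) :=
    fun r hr => by
      obtain ⟨s, hs, rs⟩ := exists_adj hr
      rw [← rs.symm, φ r hr s rs, φ s hs r rs.symm, add_comm]
  have h : Frame X T w (e (v + γ.1⁻¹.1 v)) :=
    { w0 := h0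
      wD := hD
      wD' := RR_perp_DD he (add_mem (mem_perp.2 hv)
        (gam_perp_DD (inv_mem hγ) (Set.subset_insert _ _) (mem_perp.2 hv)))
      sing := fun r hr => by
        rw [← hh _ (RR_Kl hc hr (self_mem_Kl w)), Q_add, aa.Q_eq hQ hc ha, CharTwo.add_self_eq_zero,
          zero_add]
        exact mem_perp.1 (RR_perp_DD ha' (RR_perp_DD hr ti)) _ (RR_DD ha (RR_mem_DD hr))
      ann := eK _
      sym := sym
      nd := fun s hs hs' => by_contra fun s0 => hv' (by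
        obtain ⟨t, ht, st⟩ := exists_adj hs
        have := hw.ideal hc hb.odd (C := perp Q (DD X {e (v + γ.1⁻¹.1 v)}))
          (fun _ hr _ hv => RR_perp_DD hr hv) hs ht st
          (mem_perp_DD_singleton.2 fun r hr => (polar_comm _ _ _).trans (hs' r hr))
          (mem_perp_DD_singleton.2 fun r hr => by
            obtain ⟨r', hr', rr⟩ := exists_adj hr
            rw [polar_comm, st.symm, ← End.mul_apply, ← sym _ (mul_mem_RR hs hr), End.mul_apply,
              hc.app hs hr, rr, hs' r' hr']) s0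
        exact (φ _ hx' _ (adj_O x)).symm.trans
          ((adj_O x _ _).trans (mem_perp'.1 this _ (RR_mem_DD hx'')))) }
  obtain ⟨t, t1, t2, t3, t4⟩ := h.exists_x hQ hb hw hx ha ea
  have hb' := h.base hc hb
  refine ph _ _ _ _ _ t (h.shape hQ hc) (fun g hg hg' z hz => h.camina hQ hb hw ha ha' aa hh hg hg' hz)
    t1 t2 t3 t4 (ih _ hb' h.lt).1 fun lam M hl hM => ?_
  obtain ⟨y, ⟨y1, y2⟩, hy⟩ := h.stab hQ hc hb.odd (fun y hy => h.surj hQ hb ha ha' aa hh hy) lam hl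
  have y3 : y ∈ perp Q (DD X T ⊓ perp Q (DD X T)) := mem_perp'.2 fun d hd =>
    (hw.of_Kl y2).perp_Fx (hb.rad d hd.1 hd.2).1
  rw [perp_inf hQ, perp_perp hQ] at y3
  obtain ⟨p, hp, d, hd, rfl⟩ := Submodule.mem_sup.1 y3
  have e1 : e p = p + d - e d := by rw [eq_sub_iff_add_eq, ← map_add, Kl_fix he ew y2]
  have hed := RR_DD he hd
  rw [DD_insert, perp_sup] at y1
  have hY : e p ∈ YY X T w (e (v + γ.1⁻¹.1 v)) := mem_YY.2
    ⟨e1 ▸ sub_mem y1.2 (h.DU' hed), e1 ▸ sub_mem y1.1 (h.DU hed), RR_perp_DD he hp, eK p⟩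
  have hM' : M = Gam X (insert (e p) (insert (e (v + γ.1⁻¹.1 v)) (insert w T))) := by
    ext l
    rw [hM, mem_Gam_insert (w := e p)]
    refine and_congr_right fun hL => (hy l hL).trans ?_
    have hLT := (mem_Gam_insert.1 (L_K hL)).1
    have e2 : l.1.1 (p + d) - (p + d) = l.1.1 (e p) - e p + (l.1.1 (e d) - e d) := by
      rw [e1, map_sub]
      abel
    rw [e2, Submodule.add_mem_iff_left _ (sub_mem (gam_DD hLT subset_rfl hed) hed)]
    refine ⟨fun a => sub_eq_zero.1 (hw.rad hb (sub_mem (h.K_Kl hQ hc hLT (eK p)) (eK p)) a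
      (sub_mem (gam_perp_DD hLT subset_rfl (RR_perp_DD he hp)) (RR_perp_DD he hp))), fun a => ?_⟩
    rw [a, sub_self]
    exact zero_mem _
  rw [hM']
  exact (ih _ hb' h.lt).2 _ ⟨hY.1, Or.inr (hw.of_Kl hY.2)⟩

end Cfsg.Agent.H71.FS2
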