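import Cfsg.Agent.H71.FSLin

/-!
# Project FS2: the frame theorem
-/

set_option autoImplicit false

namespace Cfsg.Agent.H71.FS2

open Subgroup H30 QuadraticMap Module
open scoped commutatorElement

universe u

variable {F V : Type u} [Field F] [AddCommGroup V] [Module F V] {Q : QuadraticForm F V}
  {X : Subgroup (O Q)} {T : Set V} {w w' : V}

theorem mem_YY {y : V} : y ∈ YY X T w w' ↔ y ∈ perp Q (DD X {w'}) ∧ y ∈ perp Q (DD X {w}) ∧
    y ∈ perp Q (DD X T) ∧ y ∈ Kl X w := by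
  rw [YY, DD_insert w', DD_insert w, perp_sup, perp_sup]
  simp only [Submodule.mem_inf, and_assoc]

theorem NN_even {n : O Q × ℤˣ} (hn : n ∈ NN X T w) : n.2 = 1 := hn.1.2

theorem NN_gam {n : O Q × ℤˣ} (hn : n ∈ NN X T w) : n ∈ Gam X (insert w T) := hn.1.1

theorem NN_app {n : O Q × ℤˣ} (hn : n ∈ NN X T w) {r : End F V} (hr : r ∈ RR X) (v : V) :
    n.1.1 (r v) = r (n.1.1 v) := gam_even (NN_gam hn) (NN_even hn) hr v

theorem sub_mem_perp_of_fix (g : O Q) {C : Submodule F V} (h : ∀ c ∈ C, g.1 c = c) (v : V) :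
    g.1 v - v ∈ perp Q C := mem_perp.2 fun c hc => by
  rw [polar_sub_right]
  nth_rewrite 1 [← h c hc]
  rw [O_polar, sub_self]

theorem L_w' {l : O Q × ℤˣ} (hl : l ∈ Gam X (insert w' (insert w T))) : l.1.1 w' = w' :=
  (mem_Gam_insert.1 hl).2

theorem L_K {l : O Q × ℤˣ} (hl : l ∈ Gam X (insert w' (insert w T))) : l ∈ Gam X (insert w T) :=
  (mem_Gam_insert.1 hl).1

theorem K_U {k : O Q × ℤˣ} (hk : k ∈ Gam X (insert w T)) {u : V} (hu : u ∈ DD X {w}) :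
    k.1.1 u ∈ DD X {w} := gam_DD hk (Set.singleton_subset_iff.2 (Set.mem_insert _ _)) hu

theorem K_perp {k : O Q × ℤˣ} (hk : k ∈ Gam X (insert w T)) {u : V} (hu : u ∈ perp Q (DD X {w})) :
    k.1.1 u ∈ perp Q (DD X {w}) :=
  gam_perp_DD hk (Set.singleton_subset_iff.2 (Set.mem_insert _ _)) hu

theorem conj_mem_NN {k n : O Q × ℤˣ} (hk : k ∈ Gam X (insert w T)) (hn : n ∈ NN X T w) :
    k * n * k⁻¹ ∈ NN X T w := by
  have hk' := (Gam X (insert w T)).inv_mem hk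
  refine ⟨conj_mem_ev hk hn.1, fun u hu => ?_, fun v hv => ?_⟩
  · change k.1.1 (n.1.1 (k⁻¹.1.1 u)) = u
    rw [hn.2.1 _ (K_U hk' hu), Prod.fst_inv, O_apply_inv]
  · have := K_U hk (hn.2.2 _ (K_perp hk' hv))
    rwa [map_sub, Prod.fst_inv, O_apply_inv] at this

theorem finite_O [Finite F] [FiniteDimensional F V] (Q : QuadraticForm F V) : Finite (O Q) :=
  haveI := Module.finite_of_finite F (M := V)
  Finite.of_injective (fun g : O Q => (g.1 : V → V)) fun _ _ e => O_ext (congrFun e)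

theorem mem_perp_of_addChar {χ : AddChar F ℂ} (hχ : χ 1 ≠ 1) {Y : Submodule F V} {v : V}
    (h : ∀ y ∈ Y, χ (polar Q v y) = 1) : v ∈ perp Q Y := mem_perp'.2 fun y hy => by
  by_contra h0
  have := h _ (Y.smul_mem (polar Q v y)⁻¹ hy)
  rw [polar_smul_right', inv_mul_cancel₀ h0] at this
  exact hχ this

theorem exists_addChar_rep [Finite F] [FiniteDimensional F V] (hQ : (polarBilin Q).Nondegenerate)
    {χ : AddChar F ℂ} (hχ : χ 1 ≠ 1) (ψ : AddChar V ℂ) : ∃ y, ∀ v, ψ v = χ (polar Q y v) := by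
  haveI := Module.finite_of_finite F (M := V)
  haveI := Fintype.ofFinite V
  let Φ : V → AddChar V ℂ := fun y => χ.compAddMonoidHom (polarBilin Q y).toAddMonoidHom
  have hinj : Function.Injective Φ := fun a b e => sub_eq_zero.1 (by
    have : a - b ∈ perp Q ⊤ := mem_perp_of_addChar hχ fun y _ => by
      have e' : χ (polar Q a y) = χ (polar Q b y) := DFunLike.congr_fun e y
      rw [polar_sub_left, AddChar.map_sub_eq_div, e', div_self (AddChar.val_isUnit _ _).ne_zero]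
    rwa [perp_top hQ] at this)
  obtain ⟨y, rfl⟩ := ((Fintype.bijective_iff_injective_and_card Φ).2 ⟨hinj, AddChar.card_eq.symm⟩).2 ψ
  exact ⟨y, fun _ => rfl⟩

namespace Frame

variable (hQ : (polarBilin Q).Nondegenerate) (hc : Comm X) (h : Frame X T w w')
include hQ hc h

omit hQ in
theorem ann_adj {r s : End F V} (hr : r ∈ RR X) (hs : s ∈ RR X) (e : Adj Q r s) (h0 : r w = 0) :
    s w = 0 := h.nd s hs fun t ht => by
  rw [e.symm, hc.app hr ht, h.ann r hr h0, map_zero, polar_zero_right]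

omit hQ in
theorem ann' {r : End F V} (hr : r ∈ RR X) (h0 : r w' = 0) : r w = 0 := h.nd r hr fun t ht => by
  obtain ⟨s, hs, e⟩ := exists_adj ht
  rw [← e.symm, ← End.mul_apply, h.sym _ (mul_mem_RR hs hr), End.mul_apply, h0, map_zero,
    polar_zero_right]

omit hQ hc in
theorem QU {u : V} (hu : u ∈ DD X {w}) : Q u = 0 := by
  obtain ⟨r, hr, rfl⟩ := mem_DD_singleton.1 hu
  exact h.sing r hr

omit hQ hc in
theorem ti {u : V} (hu : u ∈ DD X {w}) : u ∈ perp Q (DD X {w}) := mem_perp.2 fun v hv => by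
  have := Q_add Q v u
  rwa [h.QU (add_mem hv hu), h.QU hu, h.QU hv, zero_add, zero_add, eq_comm] at this

omit hQ hc in
theorem nd1 {u : V} (hu : u ∈ DD X {w}) (hu' : u ∈ perp Q (DD X {w'})) : u = 0 := by
  obtain ⟨s, hs, rfl⟩ := mem_DD_singleton.1 hu
  exact h.nd s hs fun r hr => mem_perp'.1 hu' _ (RR_mem_DD hr)

omit hQ in
theorem nd2 {u : V} (hu : u ∈ DD X {w'}) (hu' : u ∈ perp Q (DD X {w})) : u = 0 := by
  obtain ⟨r, hr, rfl⟩ := mem_DD_singleton.1 hu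
  obtain ⟨s, hs, e⟩ := exists_adj hr
  refine h.ann r hr (h.ann_adj hc hs hr e.symm (h.nd s hs fun t ht => ?_))
  rw [e.symm, hc.app hr ht]
  exact mem_perp.1 (RR_perp_DD ht hu') _ (mem_DD rfl)

omit hQ hc in
theorem UD {u : V} (hu : u ∈ DD X {w}) : u ∈ perp Q (DD X T) := by
  obtain ⟨r, hr, rfl⟩ := mem_DD_singleton.1 hu
  exact RR_perp_DD hr h.wD

omit hQ hc in
theorem UD' {u : V} (hu : u ∈ DD X {w'}) : u ∈ perp Q (DD X T) := by
  obtain ⟨r, hr, rfl⟩ := mem_DD_singleton.1 hu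
  exact RR_perp_DD hr h.wD'

omit hQ hc in
theorem DU {d : V} (hd : d ∈ DD X T) : d ∈ perp Q (DD X {w}) :=
  le_perp_comm.1 (fun _ hu => h.UD hu) hd

omit hQ hc in
theorem DU' {d : V} (hd : d ∈ DD X T) : d ∈ perp Q (DD X {w'}) :=
  le_perp_comm.1 (fun _ hu => h.UD' hu) hd

omit hQ in
theorem eq_zero_of_perp {u u' : V} (hu : u ∈ DD X {w}) (hu' : u' ∈ DD X {w'})
    (h1 : u' + u ∈ perp Q (DD X {w})) (h2 : u' + u ∈ perp Q (DD X {w'})) : u' = 0 ∧ u = 0 := by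
  have e := h.nd2 hc hu' ((Submodule.add_mem_iff_left _ (h.ti hu)).1 h1)
  rw [e, zero_add] at h2
  exact ⟨e, h.nd1 hu h2⟩

omit hQ in
theorem mem_D {v : V} (hv : v ∈ DD X (insert w' (insert w T))) (h1 : v ∈ perp Q (DD X {w}))
    (h2 : v ∈ perp Q (DD X {w'})) : v ∈ DD X T := by
  obtain ⟨r, hr, _, hd0, rfl⟩ := mem_DD_insert.1 hv
  obtain ⟨s, hs, d, hd, rfl⟩ := mem_DD_insert.1 hd0
  rw [← add_assoc] at h1 h2 ⊢
  obtain ⟨a, b⟩ := h.eq_zero_of_perp hc (RR_mem_DD hs) (RR_mem_DD hr)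
    ((Submodule.add_mem_iff_left _ (h.DU hd)).1 h1) ((Submodule.add_mem_iff_left _ (h.DU' hd)).1 h2)
  rwa [a, b, zero_add, zero_add]

theorem K_Kl {k : O Q × ℤˣ} (hk : k ∈ Gam X T) {y : V} (hy : y ∈ Kl X w) : k.1.1 y ∈ Kl X w :=
  fun r hr h0 => by
    obtain ⟨s, hs, e, e'⟩ := gam_apply hQ ((Gam X T).inv_mem hk) hr
    have h1 := e' (k.1.1 y)
    rw [Prod.fst_inv, O_inv_apply, hy s hs (e.elim (fun e => e ▸ h0) fun e => h.ann_adj hc hr hs e h0)]
      at h1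
    exact O_apply_eq_zero.1 h1

omit hQ in
theorem base (hb : Base X T) : Base X (insert w' (insert w T)) := ⟨hb.comm, hb.odd, fun d hd hd' =>
  hb.rad d (h.mem_D hc hd (perp_anti (DD_mono (by simp)) hd') (perp_anti (DD_mono (by simp)) hd'))
    (perp_anti (DD_mono fun _ ht => Or.inr (Or.inr ht)) hd')⟩

omit hQ hc in
theorem lt : DD X T < DD X (insert w' (insert w T)) :=
  (DD_lt_insert fun hw => h.w0 (h.nd1 (mem_DD rfl) (h.DU' hw))).trans_le
    (DD_mono (Set.subset_insert _ _))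

omit hQ hc in
theorem eq_one {n : O Q × ℤˣ} (hn : n ∈ NN X T w) (e : n.1.1 w' = w') {v : V}
    (hv : v ∈ perp Q (DD X {w})) : n.1.1 v = v :=
  sub_eq_zero.1 (h.nd1 (hn.2.2 v hv) (sub_mem_perp_of_fix _ (fun c hc => by
    obtain ⟨r, hr, rfl⟩ := mem_DD_singleton.1 hc
    rw [NN_app hn hr, e]) v))

variable [FiniteDimensional F V]

omit hc in
theorem dec1 (v : V) : ∃ r ∈ RR X, ∃ z ∈ perp Q (DD X {w}), v = r w' + z := by
  have h1 : DD X {w} ⊓ perp Q (DD X {w'}) = ⊥ := eq_bot_iff.2 fun u hu => h.nd1 hu.1 hu.2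
  have h2 := perp_inf hQ (DD X {w}) (perp Q (DD X {w'}))
  rw [h1, perp_bot, perp_perp hQ] at h2
  obtain ⟨z, hz, u, hu, rfl⟩ := Submodule.mem_sup.1 (h2.le (Submodule.mem_top (x := v)))
  obtain ⟨r, hr, rfl⟩ := mem_DD_singleton.1 hu
  exact ⟨r, hr, z, hz, add_comm _ _⟩

theorem dec2 (v : V) : ∃ u ∈ DD X {w}, ∃ z ∈ perp Q (DD X {w'}), v = z + u := by
  have h1 : DD X {w'} ⊓ perp Q (DD X {w}) = ⊥ := eq_bot_iff.2 fun u hu => h.nd2 hc hu.1 hu.2
  have h2 := perp_inf hQ (DD X {w'}) (perp Q (DD X {w}))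
  rw [h1, perp_bot, perp_perp hQ] at h2
  obtain ⟨z, hz, u, hu, rfl⟩ := Submodule.mem_sup.1 (h2.le (Submodule.mem_top (x := v)))
  exact ⟨u, hu, z, hz, rfl⟩

theorem rep (f : End F V →ₗ[F] F) (hf : ∀ r ∈ RR X, r w = 0 → f r = 0) :
    ∃ u ∈ DD X {w}, ∀ r ∈ RR X, polar Q (r w') u = f r := by
  obtain ⟨v, -, hv⟩ := exists_rep_RR (X := X) hQ w' f ⊥ fun r hr e => hf r hr (h.ann' hc hr e)
  obtain ⟨u, hu, z, hz, rfl⟩ := h.dec2 hQ hc v
  refine ⟨u, hu, fun r hr => ?_⟩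
  rw [← hv r hr, polar_add_right, mem_perp.1 hz _ (RR_mem_DD hr), zero_add]

omit hc in
theorem ext {n : O Q × ℤˣ} (hn : n ∈ NN X T w) (e : n.1.1 w' = w') : n = 1 :=
  Prod.ext (O_ext fun v => by
    obtain ⟨r, hr, z, hz, rfl⟩ := h.dec1 hQ v
    rw [map_add, NN_app hn hr, e, h.eq_one hn e hz]
    rfl) (NN_even hn)

omit hc in
theorem ext' {n m : O Q × ℤˣ} (hn : n ∈ NN X T w) (hm : m ∈ NN X T w)
    (e : n.1.1 w' = m.1.1 w') : n = m := by
  refine (inv_mul_eq_one.1 (h.ext hQ (mul_mem (inv_mem hm) hn) ?_)).symm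
  change m.1⁻¹.1 (n.1.1 w') = w'
  rw [e, O_inv_apply]

omit hc h in
theorem Z_sub {z : O Q × ℤˣ} (hz : z ∈ ZZ X T w) (v : V) : z.1.1 v - v ∈ DD X {w} :=
  perp_perp hQ (DD X {w}) ▸ sub_mem_perp_of_fix _ hz.2 v

theorem yex {n : O Q × ℤˣ} (hn : n ∈ NN X T w) : ∃ y, Yv X T w w' n y := by
  obtain ⟨u, hu, z, hz, e⟩ := h.dec2 hQ hc (n.1.1 w' - w')
  have e' : z = n.1.1 w' - w' - u := eq_sub_of_add_eq e.symm
  refine ⟨z, mem_YY.2 ⟨hz, ?_, ?_, ?_⟩, by rw [e, add_sub_cancel_left]; exact hu⟩ <;> rw [e']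
  · exact sub_mem (sub_mem_perp_of_fix _ hn.2.1 _) (h.ti hu)
  · exact sub_mem (sub_mem (gam_perp_DD (NN_gam hn) (Set.subset_insert _ _) h.wD') h.wD') (h.UD hu)
  · obtain ⟨r, hr, rfl⟩ := mem_DD_singleton.1 hu
    exact sub_mem (sub_mem (h.K_Kl hQ hc (mem_Gam_insert.1 (NN_gam hn)).1 h.ann) h.ann)
      (RR_Kl hc hr (self_mem_Kl w))

omit hQ hc [FiniteDimensional F V] in
theorem yuniq (n : O Q × ℤˣ) (y y' : V) (a : Yv X T w w' n y) (b : Yv X T w w' n y') : y = y' := by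
  refine sub_eq_zero.1 (h.nd1 ?_ (sub_mem (mem_YY.1 a.1).1 (mem_YY.1 b.1).1))
  convert sub_mem b.2 a.2 using 1
  abel

omit hQ hc h [FiniteDimensional F V] in
theorem ymul {n n' : O Q × ℤˣ} (hn : n ∈ NN X T w) {y y' : V} (a : Yv X T w w' n y)
    (b : Yv X T w w' n' y') : Yv X T w w' (n * n') (y + y') := by
  refine ⟨add_mem a.1 b.1, ?_⟩
  have h1 := hn.2.1 _ b.2
  have h2 := add_mem (add_mem a.2 b.2) (hn.2.2 _ (mem_YY.1 b.1).2.1)
  rw [← h1, map_sub, map_sub] at h2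
  convert h2 using 1
  rw [Prod.fst_mul, O_mul_apply]
  abel

omit hc in
theorem yzero {n : O Q × ℤˣ} (hn : n ∈ NN X T w) : Yv X T w w' n 0 ↔ n ∈ ZZ X T w := by
  refine ⟨fun a => ⟨hn, fun v hv => sub_eq_zero.1 (h.nd1 (hn.2.2 v hv)
    (mem_perp_DD_singleton.2 fun r hr => ?_))⟩, fun a => ⟨zero_mem _, by
      rw [sub_zero]; exact Z_sub hQ a w'⟩⟩
  have h1 := RR_DD hr a.2
  rw [sub_zero, map_sub, ← NN_app hn hr] at h1
  have h2 : n.1.1 v ∈ perp Q (DD X {w}) := K_perp (NN_gam hn) hv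
  have h3 := mem_perp.1 h2 _ h1
  rw [polar_sub_left, O_polar] at h3
  rw [polar_sub_right, ← neg_sub, h3, neg_zero]

omit [FiniteDimensional F V] in
theorem yconj {n l : O Q × ℤˣ} (hl : l ∈ Gam X (insert w' (insert w T))) {y : V}
    (a : Yv X T w w' n y) : Yv X T w w' (l * n * l⁻¹) (l.1.1 y) := by
  refine ⟨⟨gam_perp_DD hl subset_rfl a.1.1, h.K_Kl hQ hc (mem_Gam_insert.1 (L_K hl)).1 a.1.2⟩, ?_⟩
  have h1 := K_U (L_K hl) a.2
  rw [map_sub, map_sub, L_w' hl] at h1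
  change l.1.1 (n.1.1 (l⁻¹.1.1 w')) - w' - l.1.1 y ∈ _
  rwa [L_w' ((Gam X _).inv_mem hl)]

omit hQ hc [FiniteDimensional F V] in
theorem comm_mem {a b : O Q × ℤˣ} (ha : a ∈ NN X T w) (hb : b ∈ NN X T w) : ⁅a, b⁆ ∈ ZZ X T w := by
  refine ⟨mul_mem (mul_mem (mul_mem ha hb) (inv_mem ha)) (inv_mem hb), fun v hv => ?_⟩
  have key : ∀ v ∈ perp Q (DD X {w}), a.1.1 (b.1.1 v) = b.1.1 (a.1.1 v) := fun v hv => by
    have h1 := ha.2.1 _ (hb.2.2 v hv)
    have h2 := hb.2.1 _ (ha.2.2 v hv)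
    rw [map_sub, sub_eq_iff_eq_add] at h1 h2
    rw [h1, h2]
    abel
  change a.1.1 (b.1.1 (a⁻¹.1.1 (b⁻¹.1.1 v))) = v
  rw [key _ (K_perp (NN_gam (inv_mem ha)) (K_perp (NN_gam (inv_mem hb)) hv)), Prod.fst_inv,
    Prod.fst_inv, O_apply_inv, O_apply_inv]

variable [CharP F 2]

omit hQ hc [FiniteDimensional F V] in
theorem tau {n : O Q × ℤˣ} (hn : n ∈ NN X T w) {y y' : V} (a : Yv X T w w' n y)
    (b : y' ∈ YY X T w w') {r : End F V} (hr : r ∈ RR X) :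
    polar Q (n.1.1 y' - y') (r w') = polar Q y' (r y) := by
  obtain ⟨b1, b2, -, -⟩ := mem_YY.1 b
  have h0 := hn.2.2 _ b2
  have h1 := O_polar n.1 y' (r w')
  have h2 := RR_DD hr a.2
  have h3 := RR_perp_DD hr (mem_YY.1 a.1).2.1
  rw [NN_app hn hr, show n.1.1 w' = w' + y + (n.1.1 w' - w' - y) by abel, map_add, map_add,
    show n.1.1 y' = y' + (n.1.1 y' - y') by abel] at h1
  simp only [polar_add_left, polar_add_right] at h1
  rw [mem_perp'.1 b2 _ h2, mem_perp.1 h3 _ h0, mem_perp.1 (h.ti h2) _ h0] at h1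
  linear_combination (norm := skip) h1 - CharTwo.add_self_eq_zero (polar Q y' (r y))
  ring

omit hQ hc [FiniteDimensional F V] in
theorem ycomm {n n' : O Q × ℤˣ} (hn : n ∈ NN X T w) (hn' : n' ∈ NN X T w) {y y' : V}
    (a : Yv X T w w' n y) (b : Yv X T w w' n' y') {r : End F V} (hr : r ∈ RR X) :
    polar Q ((⁅n, n'⁆).1.1 w' - w') (r w') = polar Q y' (r y) + polar Q y (r y') := by
  have hz := h.comm_mem hn hn'
  have h1 : (⁅n, n'⁆).1.1 (n'.1.1 (n.1.1 w')) = n.1.1 (n'.1.1 w') := by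
    change n.1.1 (n'.1.1 (n.1⁻¹.1 (n'.1⁻¹.1 _))) = _
    rw [O_inv_apply, O_inv_apply]
  have h2 := hz.2 _ (sub_mem_perp_of_fix (n' * n).1 (mul_mem hn' hn).2.1 w')
  rw [map_sub, Prod.fst_mul, O_mul_apply, h1] at h2
  have h3 := hn.2.1 _ b.2
  have h4 := hn'.2.1 _ a.2
  rw [map_sub, map_sub] at h3 h4
  have h5 : (⁅n, n'⁆).1.1 w' - w' = (n.1.1 y' - y') - (n'.1.1 y - y) := by
    linear_combination (norm := skip) h3 - h4 - h2
    abel
  rw [h5, polar_sub_left, h.tau hn a b.1 hr, h.tau hn' b a.1 hr, CharTwo.sub_eq_add]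

theorem con {w'' : V} (h1 : w'' ∈ perp Q (DD X T) ⊓ Kl X w)
    (h2 : ∀ r ∈ RR X, polar Q (r w) w'' = polar Q (r w) w')
    (h4 : ∀ r ∈ RR X, Q (r w'') = Q (r w')) : ∃ n ∈ NN X T w, n.1.1 w' = w'' := by
  have h2' : ∀ u ∈ DD X {w}, ∀ r ∈ RR X, polar Q u (r w'') = polar Q u (r w') := fun u hu r hr => by
    obtain ⟨s, hs, e⟩ := exists_adj hr
    obtain ⟨t, ht, e'⟩ := mem_DD_singleton.1 (RR_DD hs hu)
    rw [← e.symm, ← e.symm, ← e', h2 t ht]
  let G : Submodule F (V × V) :=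
    { carrier := {p | ∃ r ∈ RR X, ∃ y ∈ perp Q (DD X {w}), ∃ u ∈ DD X {w},
        (∀ s ∈ RR X, polar Q (s w') u = polar Q y (s (w' + w''))) ∧ p = (r w' + y, r w'' + y + u)}
      zero_mem' := ⟨0, zero_mem _, 0, zero_mem _, 0, zero_mem _, by simp, Prod.ext (by simp) (by simp)⟩
      add_mem' := by
        rintro _ _ ⟨r, a, y, b, u, c, d, rfl⟩ ⟨r', a', y', b', u', c', d', rfl⟩
        refine ⟨_, add_mem a a', _, add_mem b b', _, add_mem c c', fun s hs => by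
          rw [polar_add_left, polar_add_right, d s hs, d' s hs], Prod.ext ?_ ?_⟩ <;>
        simp only [Prod.fst_add, Prod.snd_add, LinearMap.add_apply] <;> abel
      smul_mem' := by
        rintro e _ ⟨r, a, y, b, u, c, d, rfl⟩
        refine ⟨_, Submodule.smul_mem _ e a, _, Submodule.smul_mem _ e b, _,
          Submodule.smul_mem _ e c, fun s hs => by
          rw [polar_smul_left', polar_smul_right', d s hs], by simp⟩ }
  have hτ : ∀ y, ∃ u ∈ DD X {w}, ∀ s ∈ RR X, polar Q (s w') u = polar Q y (s (w' + w'')) := fun y =>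
    h.rep hQ hc (polarBilin Q y ∘ₗ LinearMap.applyₗ (w' + w'')) fun r hr e => by
      change polar Q y (r (w' + w'')) = 0
      rw [map_add, h.ann r hr e, h1.2 r hr e, add_zero, polar_zero_right]
  obtain ⟨g, hg⟩ := exists_O_of_graph hQ G (fun v => by
      obtain ⟨r, hr, z, hz, rfl⟩ := h.dec1 hQ v
      obtain ⟨u, a, b⟩ := hτ z
      exact ⟨_, r, hr, z, hz, u, a, b, rfl⟩)
    (by
      rintro v' ⟨r, a, y, b, u, c, d, e⟩
      have e1 : r w' = -y := eq_neg_of_add_eq_zero_left (congrArg Prod.fst e).symm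
      have e2 : r w' = 0 := h.nd2 hc (RR_mem_DD a) (e1 ▸ neg_mem b)
      have e3 : y = 0 := neg_eq_zero.1 (e1.symm.trans e2)
      have e4 : u = 0 := h.nd1 c (mem_perp_DD_singleton.2 fun s hs => by
        rw [d s hs, e3, polar_zero_left])
      rw [show v' = r w'' + y + u from congrArg Prod.snd e, h1.2 r a (h.ann' hc a e2), e3, e4]
      simp)
    (by
      rintro _ ⟨r, a, y, b, u, c, d, rfl⟩
      have e := d r a
      rw [map_add, polar_add_right, polar_comm _ _ u, polar_comm _ y, polar_comm _ y] at e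
      change Q (r w'' + y + u) = Q (r w' + y)
      rw [Q_add, Q_add, Q_add, h4 r a, h.QU c, polar_add_left, mem_perp'.1 b u c, polar_comm _ _ u,
        h2' u c r a, e]
      linear_combination CharTwo.add_self_eq_zero (polar Q (r w'') y))
  have hfix : ∀ y ∈ perp Q (DD X {w}), (∀ s ∈ RR X, polar Q y (s (w' + w'')) = 0) → g.1 y = y :=
    fun y hy e => by
      simpa using hg (_, _) ⟨0, zero_mem _, y, hy, 0, zero_mem _, fun s hs => by
        rw [e s hs, polar_zero_right], rfl⟩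
  have hU : ∀ u ∈ DD X {w}, g.1 u = u := fun u hu => hfix u (h.ti hu) fun s hs => by
    rw [map_add, polar_add_right, h2' u hu s hs, CharTwo.add_self_eq_zero]
  refine ⟨(g, 1), ⟨mem_Gam_even (fun x hx v => ?_) (fun t ht => ?_), hU, fun v hv => ?_⟩, ?_⟩
  · obtain ⟨r, hr, z, hz, rfl⟩ := h.dec1 hQ v
    obtain ⟨u, a, b⟩ := hτ z
    have hx' := mem_RR hx
    have e1 := hg (_, _) ⟨r, hr, z, hz, u, a, b, rfl⟩
    have e2 := hg (_, _) ⟨_, mul_mem_RR hx' hr, _, RR_perp_DD hx' hz, _, RR_DD hx' a, fun s hs => by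
      have hi := mem_RR (X.inv_mem hx)
      rw [← (adj_O x).symm, adj_O x, ← End.mul_apply, ← End.mul_apply, b _ (mul_mem_RR hi hs)], rfl⟩
    dsimp only at e1 e2
    rw [e1, map_add x.1, map_add x.1, map_add x.1]
    exact e2
  · rcases ht with rfl | ht
    · exact hU _ (mem_DD rfl)
    · exact hfix t (h.DU (mem_DD ht)) fun s hs =>
        mem_perp.1 (RR_perp_DD hs (add_mem h.wD' h1.1)) _ (mem_DD ht)
  · obtain ⟨u, a, b⟩ := hτ v
    have e1 := hg (_, _) ⟨0, zero_mem _, v, hv, u, a, b, rfl⟩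
    simp only [LinearMap.zero_apply, zero_add] at e1
    rw [e1, add_sub_cancel_left]
    exact a
  · simpa using hg (_, _) ⟨1, one_mem_RR, 0, zero_mem _, 0, zero_mem _, by simp, rfl⟩

theorem fac {k : O Q × ℤˣ} (hk : k ∈ Gam X (insert w T)) :
    ∃ n ∈ NN X T w, ∃ l ∈ Gam X (insert w' (insert w T)), k = n * l := by
  obtain ⟨hk1, hk2⟩ := mem_Gam_insert.1 hk
  have hi := (Gam X T).inv_mem hk1
  obtain ⟨n, hn, e⟩ := h.con hQ hc (w'' := k.1.1 w')
    ⟨gam_perp_DD hk1 subset_rfl h.wD', h.K_Kl hQ hc hk1 h.ann⟩ (fun r hr => by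
      obtain ⟨s, hs, e, e'⟩ := gam_apply hQ hi hr
      rw [polar_comm, O_polar_inv, ← Prod.fst_inv, e', (mem_Gam_insert.1 (inv_mem hk)).2, polar_comm]
      rcases e with rfl | e
      · rfl
      · rw [e.symm, h.sym r hr])
    (fun r hr => by
      obtain ⟨s, hs, e, e'⟩ := gam_apply hQ hi hr
      rw [← O_map k⁻¹.1, e', Prod.fst_inv, O_inv_apply]
      rcases e with rfl | e
      · rfl
      · exact e.Q_eq hQ hc hr _)
  refine ⟨n, hn, n⁻¹ * k, mem_Gam_insert.2 ⟨mul_mem (inv_mem (NN_gam hn)) hk, ?_⟩, by group⟩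
  change n.1⁻¹.1 (k.1.1 w') = w'
  rw [← e, O_inv_apply]

omit hc h in
theorem Z_sq {z : O Q × ℤˣ} (hz : z ∈ ZZ X T w) : z * z = 1 :=
  Prod.ext (O_ext fun v => by
    have := hz.1.2.1 _ (Z_sub hQ hz v)
    rw [map_sub, sub_eq_iff_eq_add, sub_eq_add' F, add_right_comm, add_self' F, zero_add] at this
    exact this) (Int.units_mul_self _)

theorem Z_cent {z k : O Q × ℤˣ} (hz : z ∈ ZZ X T w) (hk : k ∈ Gam X (insert w T)) :
    k * z = z * k := by
  refine mul_inv_eq_iff_eq_mul.1 (h.ext' hQ (conj_mem_NN hk hz.1) hz.1 ?_)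
  obtain ⟨s, hs, e⟩ := mem_DD_singleton.1 (Z_sub hQ hz w')
  obtain ⟨n, hn, l, hl, rfl⟩ := h.fac hQ hc hk
  have h1 : l.1.1 (s w) = s w := by
    obtain ⟨t, ht, e1, e2⟩ := gam_apply hQ hl hs
    rw [e2, (mem_Gam_insert.1 (L_K hl)).2]
    rcases e1 with rfl | e1
    · rfl
    refine sub_eq_zero.1 (h.nd1 (sub_mem (RR_mem_DD ht) (RR_mem_DD hs))
      (mem_perp_DD_singleton.2 fun r hr => ?_))
    obtain ⟨r', hr', e3⟩ := exists_adj hr
    have h2 := O_polar z.1 (r w') w'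
    rw [NN_app hz.1 hr, ← sub_add_cancel (z.1.1 w') w', ← e, map_add, polar_add_left,
      polar_add_right, polar_add_right,
      mem_perp.1 (h.ti (RR_mem_DD hs)) _ (RR_DD hr (RR_mem_DD hs)), ← End.mul_apply,
      h.sym _ (mul_mem_RR hr hs), End.mul_apply, hc.app hr hs, ← e1.symm, polar_comm] at h2
    rw [polar_sub_right, CharTwo.sub_eq_add]
    linear_combination h2
  have h2 := hz.2 _ (sub_mem_perp_of_fix n⁻¹.1 (inv_mem hn).2.1 w')
  have h3 : ∀ v ∈ perp Q (DD X {w}), l.1.1 (z.1.1 (l⁻¹.1.1 v)) = v := fun v hv => by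
    rw [hz.2 _ (K_perp (inv_mem (L_K hl)) hv), Prod.fst_inv, O_apply_inv]
  have h4 := h3 _ (sub_mem_perp_of_fix n⁻¹.1 (inv_mem hn).2.1 w')
  rw [map_sub, map_sub, map_sub, L_w' (inv_mem hl), ← sub_add_cancel (z.1.1 w') w', ← e, map_add,
    h1, L_w' hl, sub_eq_iff_eq_add] at h4
  rw [mul_inv_rev]
  change n.1.1 (l.1.1 (z.1.1 (l⁻¹.1.1 (n⁻¹.1.1 w')))) = _
  rw [h4, map_add, map_add, map_sub, Prod.fst_inv, O_apply_inv, hn.2.1 _ (RR_mem_DD hs),
    ← sub_add_cancel (z.1.1 w') w', ← e]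
  abel

theorem shape [Finite F] : Shape (pr Q) (Gam X (insert w T)) (NN X T w)
    (Gam X (insert w' (insert w T))) (ZZ X T w) where
  NK := fun _ hn => hn.1
  nN := by
    haveI := finite_O Q
    exact H23.le_normalizer_of_conj_mem fun _ hk _ hn => conj_mem_NN hk hn
  LK := fun _ hl => L_K hl
  fac := fun _ hk => h.fac hQ hc hk
  NL := eq_bot_iff.2 fun _ hn => h.ext hQ hn.1 (L_w' hn.2)
  pN := fun n => ⟨2, Subtype.ext (by
    obtain ⟨y, hy⟩ := h.yex hQ hc n.2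
    have := ymul n.2 hy hy
    rw [add_self' F, h.yzero hQ (mul_mem n.2 n.2)] at this
    have := Z_sq hQ this
    simpa [pow_succ, mul_assoc] using this)⟩
  ZN := fun _ hz => hz.1
  Z2 := fun _ hz => Z_sq hQ hz
  Zc := fun _ hz _ hk => h.Z_cent hQ hc hz hk
  ab := fun _ ha _ hb => h.comm_mem ha hb

omit hc in
theorem lam_mul {lam : NN X T w →* ℂˣ} (hl : ∀ z : NN X T w, (z : O Q × ℤˣ) ∈ ZZ X T w → lam z = 1)
    {a b : NN X T w} {y : V} (ha : Yv X T w w' a y) (hb : Yv X T w w' b y) : lam a * lam b = 1 := by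
  have := ymul a.2 ha hb
  rw [add_self' F, h.yzero hQ (mul_mem a.2 b.2)] at this
  rw [← map_mul]
  exact hl _ this

omit hc in
theorem lam_eq {lam : NN X T w →* ℂˣ} (hl : ∀ z : NN X T w, (z : O Q × ℤˣ) ∈ ZZ X T w → lam z = 1)
    {a b : NN X T w} {y : V} (ha : Yv X T w w' a y) (hb : Yv X T w w' b y) : lam a = lam b :=
  mul_left_cancel ((h.lam_mul hQ hl ha ha).trans (h.lam_mul hQ hl ha hb).symm)

theorem stab [Finite F] (ho : Odd (Nat.card X))
    (hs : ∀ y ∈ YY X T w w', ∃ n ∈ NN X T w, Yv X T w w' n y) (lam : NN X T w →* ℂˣ)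
    (hl : ∀ z : NN X T w, (z : O Q × ℤˣ) ∈ ZZ X T w → lam z = 1) :
    ∃ y ∈ perp Q (DD X {w, w'}) ⊓ Kl X w, ∀ l ∈ Gam X (insert w' (insert w T)),
      (TS (pr Q) (NN X T w) lam l ↔ l.1.1 y - y ∈ DD X T) := by
  choose nn hn hy using hs
  obtain ⟨p, hp⟩ := LinearMap.exists_leftInverse_of_injective (YY X T w w').subtype
    (Submodule.ker_subtype _)
  have hp' : ∀ y (hy : y ∈ YY X T w w'), p y = ⟨y, hy⟩ := fun y hy =>
    LinearMap.congr_fun hp ⟨y, hy⟩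
  let ψ : AddChar V ℂ :=
    { toFun := fun v => lam ⟨nn (p v) (p v).2, hn _ _⟩
      map_zero_eq_one' := by
        rw [Units.val_eq_one]
        refine hl _ ((h.yzero hQ (hn _ _)).1 ?_)
        exact (congrArg (Yv X T w w' _) (show ((p 0 : YY X T w w') : V) = 0 by
          rw [map_zero]; rfl)).mp (hy _ (p 0).2)
      map_add_eq_mul' := fun a b => by
        rw [← Units.val_mul, ← map_mul]
        refine congrArg _ (h.lam_eq hQ hl (hy _ _) ?_)
        rw [map_add]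
        exact ymul (hn _ _) (hy _ _) (hy _ _) }
  obtain ⟨χ, hχ⟩ := (AddChar.exists_apply_ne_zero (α := F) (a := 1)).2 one_ne_zero
  obtain ⟨y₀, e₀⟩ := exists_addChar_rep hQ hχ ψ
  obtain ⟨e, he, ew, eK⟩ := exists_eps hc ho w
  obtain ⟨e', he', ea⟩ := exists_adj he
  have eK' : ∀ v ∈ Kl X w, e' v = v := fun v hv => (sub_eq_zero.1 (hv _ (sub_mem one_mem_RR he')
    (h.ann_adj hc (sub_mem one_mem_RR he) (sub_mem one_mem_RR he') (adj_one.sub ea)
      (sub_eq_zero.2 ew.symm)))).symm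
  obtain ⟨r, hr, z, hz, rfl⟩ := h.dec1 hQ y₀
  obtain ⟨u, hu, m, hm, rfl⟩ := h.dec2 hQ hc z
  have hm' : m ∈ perp Q (DD X {w}) := (Submodule.add_mem_iff_left _ (h.ti hu)).1 hz
  have y1 := RR_perp_DD he hm
  have y2 := RR_perp_DD he hm'
  have key : ∀ (n : NN X T w) y, Yv X T w w' n y → (lam n : ℂ) = χ (polar Q (e m) y) :=
    fun n y a => by
      obtain ⟨b1, b2, -, b4⟩ := mem_YY.1 a.1
      have := e₀ y
      rw [polar_add_left, polar_add_left, mem_perp.1 b1 _ (RR_mem_DD hr), mem_perp.1 b2 _ hu,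
        zero_add, add_zero] at this
      rw [ea, eK' y b4, ← this]
      refine congrArg _ (h.lam_eq hQ hl a ?_)
      exact (congrArg (Yv X T w w' _) (show ((p y : YY X T w w') : V) = y by
        rw [hp' y a.1])).mp (hy _ (p y).2)
  refine ⟨e m, ⟨?_, eK m⟩, fun l hL => ?_⟩
  · rw [DD_insert, perp_sup]
    exact ⟨y2, y1⟩
  have hLi := inv_mem hL
  have hLT := (mem_Gam_insert.1 (L_K hL)).1
  have pw : ∀ (n : NN X T w) y, Yv X T w w' n y → lam n ^ ((pr Q l : ℤˣ) : ℤ) = lam n :=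
    fun n y a => by
      rcases Int.units_eq_one_or (pr Q l) with e | e <;> rw [e]
      · simp
      · simpa using inv_eq_of_mul_eq_one_right (h.lam_mul hQ hl a a)
  have sw : l.1.1 (e m) - e m ∈ DD X T ↔ l⁻¹.1.1 (e m) - e m ∈ DD X T := ⟨fun a => by
      have := neg_mem (gam_DD (inv_mem hLT) subset_rfl a)
      rwa [map_sub, Prod.fst_inv, O_inv_apply, neg_sub] at this, fun a => by
      have := neg_mem (gam_DD hLT subset_rfl a)
      rwa [map_sub, Prod.fst_inv, O_apply_inv, neg_sub] at this⟩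
  rw [sw]
  refine ⟨fun a => h.mem_D hc ?_ (sub_mem (K_perp (L_K hLi) y2) y2)
    (sub_mem (gam_perp_DD hLi (by simp) y1) y1), fun a n n' e1 => ?_⟩
  · have h1 : l⁻¹.1.1 (e m) - e m ∈ perp Q (YY X T w w') := mem_perp_of_addChar hχ fun y b => by
      have c := hy y b
      have d := congrArg Units.val (a ⟨_, hn y b⟩ ⟨_, conj_mem_NN (L_K hL) (hn y b)⟩ rfl)
      rw [pw ⟨_, hn y b⟩ _ c, key ⟨_, hn y b⟩ _ c, 
        key ⟨_, conj_mem_NN (L_K hL) (hn y b)⟩ _ (h.yconj hQ hc hL c), polar_comm, O_polar_inv,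
        polar_comm] at d
      rw [polar_sub_left, AddChar.map_sub_eq_div, Prod.fst_inv, d,
        div_self (AddChar.val_isUnit _ _).ne_zero]
    rw [← perp_perp hQ (DD X _)]
    refine mem_perp.2 fun v hv => ?_
    rw [← eK' _ (sub_mem (h.K_Kl hQ hc (inv_mem hLT) (eK m)) (eK m)), ← ea]
    exact mem_perp.1 h1 _ ⟨RR_perp_DD he hv, eK v⟩
  · obtain ⟨y, c⟩ := h.yex hQ hc n.2
    have d := h.yconj hQ hc hL c
    rw [← e1] at d
    rw [pw _ _ c]
    refine Units.ext ?_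
    have := mem_perp.1 (mem_YY.1 c.1).2.2.1 _ a
    rw [polar_sub_left, sub_eq_zero] at this
    rw [key _ _ c, key _ _ d, polar_comm, O_polar_inv, polar_comm, ← this, Prod.fst_inv]

end Frame

theorem fr : FR.{u} := fun hQ _ _ _ _ hb h =>
  { base := h.base hb.comm hb
    lt := h.lt
    shape := h.shape hQ hb.comm
    con := fun _ a b _ d => h.con hQ hb.comm a b d
    yex := fun _ hn => h.yex hQ hb.comm hn
    yuniq := h.yuniq
    ymul := fun _ hn _ _ _ _ a b => Frame.ymul hn a b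
    yzero := fun _ hn => h.yzero hQ hn
    yconj := fun _ _ _ hl _ a => h.yconj hQ hb.comm hl a
    ycomm := fun _ hn _ hn' _ _ a b _ hr => h.ycomm hn hn' a b hr
    stab := h.stab hQ hb.comm hb.odd }

end Cfsg.Agent.H71.FS2
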