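import Cfsg.Agent.H71.FSDefs

/-!
# Project FS2: linear algebra kit
-/

set_option autoImplicit false

namespace Cfsg.Agent.H71.FS2

open Subgroup H30 QuadraticMap Module

universe u

variable {F V : Type u} [Field F] [AddCommGroup V] [Module F V] {Q : QuadraticForm F V}
  {X : Subgroup (O Q)} {T : Set V}

/-! ### The algebra spanned by `X` -/

theorem mem_RR {x : O Q} (hx : x ∈ X) : (x.1 : V →ₗ[F] V) ∈ RR X := Submodule.subset_span ⟨x, hx, rfl⟩

theorem one_mem_RR : (1 : End F V) ∈ RR X := mem_RR (X := X) X.one_mem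

theorem RR_induction {P : End F V → Prop} (hx : ∀ x ∈ X, P (x.1 : V →ₗ[F] V)) (h0 : P 0)
    (hadd : ∀ r ∈ RR X, ∀ s ∈ RR X, P r → P s → P (r + s))
    (hsmul : ∀ (c : F), ∀ r ∈ RR X, P r → P (c • r)) {r : End F V} (hr : r ∈ RR X) : P r := by
  induction hr using Submodule.span_induction with
  | mem r h => obtain ⟨x, h, rfl⟩ := h; exact hx x h
  | zero => exact h0
  | add r s hr hs a b => exact hadd r hr s hs a b
  | smul c r hr a => exact hsmul c r hr a

theorem mul_mem_RR {r s : End F V} (hr : r ∈ RR X) (hs : s ∈ RR X) : r * s ∈ RR X := by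
  refine RR_induction (P := fun r => r * s ∈ RR X) (fun x hx => ?_) (by simp)
    (fun _ _ _ _ a b => by rw [add_mul]; exact add_mem a b)
    (fun c _ _ a => by rw [smul_mul_assoc]; exact Submodule.smul_mem _ c a) hr
  refine RR_induction (P := fun s => (x.1 : End F V) * s ∈ RR X) (fun y hy => ?_) (by simp)
    (fun _ _ _ _ a b => by rw [mul_add]; exact add_mem a b)
    (fun c _ _ a => by rw [mul_smul_comm]; exact Submodule.smul_mem _ c a) hs
  exact mem_RR (X.mul_mem hx hy)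

theorem pow_mem_RR {r : End F V} (hr : r ∈ RR X) (n : ℕ) : r ^ n ∈ RR X := by
  induction n with
  | zero => exact one_mem_RR
  | succ n ih => rw [pow_succ]; exact mul_mem_RR ih hr

theorem Comm.RR (hc : Comm X) {r s : End F V} (hr : r ∈ RR X) (hs : s ∈ RR X) :
    r * s = s * r := by
  refine RR_induction (P := fun r => r * s = s * r) (fun x hx => ?_) (by simp)
    (fun _ _ _ _ a b => by rw [add_mul, mul_add, a, b])
    (fun c _ _ a => by rw [smul_mul_assoc, mul_smul_comm, a]) hr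
  refine RR_induction (P := fun s => (x.1 : End F V) * s = s * (x.1 : End F V)) (fun y hy => ?_)
    (by simp) (fun _ _ _ _ a b => by rw [add_mul, mul_add, a, b])
    (fun c _ _ a => by rw [smul_mul_assoc, mul_smul_comm, a]) hs
  exact LinearMap.ext fun v => congrArg (fun g : O Q => g.1 v) (hc x hx y hy)

theorem Comm.app (hc : Comm X) {r s : End F V} (hr : r ∈ FS2.RR X) (hs : s ∈ FS2.RR X) (v : V) :
    r (s v) = s (r v) := LinearMap.congr_fun (hc.RR hr hs) v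

theorem comm_zpowers (g : O Q) : Comm (zpowers g) := by
  rintro _ ⟨a, rfl⟩ _ ⟨b, rfl⟩
  exact zpow_mul_comm g a b

/-! ### Adjoints -/

theorem Adj.symm {r s : End F V} (h : Adj Q r s) : Adj Q s r := fun u v => by
  rw [polar_comm, ← h, polar_comm]

theorem Adj.unique (hQ : (polarBilin Q).Nondegenerate) {r s s' : End F V} (h : Adj Q r s)
    (h' : Adj Q r s') : s = s' :=
  LinearMap.ext fun v => eq_of_polar hQ fun y => by rw [h.symm, h'.symm]

theorem adj_one : Adj Q 1 1 := fun _ _ => rfl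

theorem adj_zero : Adj Q 0 0 := fun _ _ => by simp

theorem Adj.add {r s r' s' : End F V} (h : Adj Q r s) (h' : Adj Q r' s') :
    Adj Q (r + r') (s + s') := fun u v => by
  rw [LinearMap.add_apply, LinearMap.add_apply, polar_add_left, polar_add_right, h, h']

theorem Adj.sub {r s r' s' : End F V} (h : Adj Q r s) (h' : Adj Q r' s') :
    Adj Q (r - r') (s - s') := fun u v => by
  rw [LinearMap.sub_apply, LinearMap.sub_apply, polar_sub_left, polar_sub_right, h, h']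

theorem Adj.smul {r s : End F V} (c : F) (h : Adj Q r s) : Adj Q (c • r) (c • s) := fun u v => by
  rw [LinearMap.smul_apply, LinearMap.smul_apply, polar_smul_left', polar_smul_right', h]

theorem Adj.mul {r s r' s' : End F V} (h : Adj Q r s) (h' : Adj Q r' s') :
    Adj Q (r * r') (s' * s) := fun u v => by
  rw [End.mul_apply, End.mul_apply, h, h']

theorem Adj.pow {r s : End F V} (h : Adj Q r s) (n : ℕ) : Adj Q (r ^ n) (s ^ n) := by
  induction n with
  | zero => exact adj_one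
  | succ n ih => rw [pow_succ, pow_succ']; exact ih.mul h

theorem adj_O (x : O Q) : Adj Q (x.1 : V →ₗ[F] V) ((x⁻¹).1 : V →ₗ[F] V) := O_polar_inv x

theorem coe_O_pow (x : O Q) (n : ℕ) : ((x ^ n).1 : End F V) = (x.1 : End F V) ^ n := by
  induction n with
  | zero => rfl
  | succ n ih => rw [pow_succ, pow_succ, ← ih]; rfl

theorem exists_adj {r : End F V} (hr : r ∈ RR X) : ∃ s ∈ RR X, Adj Q r s :=
  RR_induction (P := fun r => ∃ s ∈ RR X, Adj Q r s)
    (fun x hx => ⟨_, mem_RR (X.inv_mem hx), adj_O x⟩) ⟨0, zero_mem _, adj_zero⟩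
    (fun _ _ _ _ ⟨_, a, b⟩ ⟨_, c, d⟩ => ⟨_, add_mem a c, b.add d⟩)
    (fun c _ _ ⟨_, a, b⟩ => ⟨_, Submodule.smul_mem _ c a, b.smul c⟩) hr

theorem Adj.mem_RR (hQ : (polarBilin Q).Nondegenerate) {r s : End F V} (h : Adj Q r s)
    (hr : r ∈ RR X) : s ∈ RR X := by
  obtain ⟨s', a, b⟩ := exists_adj hr
  exact b.unique hQ h ▸ a

theorem Adj.Q_eq (hQ : (polarBilin Q).Nondegenerate) (hc : Comm X) {r s : End F V} (h : Adj Q r s)
    (hr : r ∈ RR X) (v : V) : Q (s v) = Q (r v) := by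
  refine RR_induction (P := fun r => ∀ s, Adj Q r s → Q (s v) = Q (r v)) (fun x _ s h => ?_)
    (fun s h => by rw [h.unique hQ adj_zero]) (fun r hr r' hr' a b s h => ?_)
    (fun c r hr a s h => ?_) hr s h
  · rw [h.unique hQ (adj_O x)]
    exact (O_map _ _).trans (O_map _ _).symm
  · obtain ⟨t, ht, e⟩ := exists_adj hr
    obtain ⟨t', -, e'⟩ := exists_adj hr'
    rw [h.unique hQ (e.add e'), LinearMap.add_apply, LinearMap.add_apply, Q_add, Q_add, a t e,
      b t' e', ← e', ← hc.app ht hr', e.symm, polar_comm]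
  · obtain ⟨t, -, e⟩ := exists_adj hr
    rw [h.unique hQ (e.smul c), LinearMap.smul_apply, LinearMap.smul_apply, Q_smul, Q_smul, a t e]

/-! ### The graded groups -/

theorem Gam_anti {T T' : Set V} (h : T ⊆ T') : Gam X T' ≤ Gam X T :=
  fun _ hk => ⟨hk.1, fun t ht => hk.2 t (h ht)⟩

theorem mem_Gam_insert {w : V} {k : O Q × ℤˣ} :
    k ∈ Gam X (insert w T) ↔ k ∈ Gam X T ∧ k.1.1 w = w :=
  ⟨fun h => ⟨Gam_anti (Set.subset_insert _ _) h, h.2 w (Set.mem_insert _ _)⟩, fun h =>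
    ⟨h.1.1, fun t ht => ht.elim (fun e => e ▸ h.2) (h.1.2 t)⟩⟩

theorem gam_even {k : O Q × ℤˣ} (hk : k ∈ Gam X T) (e : k.2 = 1) {r : End F V} (hr : r ∈ RR X)
    (v : V) : k.1.1 (r v) = r (k.1.1 v) := by
  refine RR_induction (P := fun r => k.1.1 (r v) = r (k.1.1 v)) (fun x hx => ?_) (by simp)
    (fun _ _ _ _ a b => by rw [LinearMap.add_apply, LinearMap.add_apply, map_add, a, b])
    (fun c _ _ a => by rw [LinearMap.smul_apply, LinearMap.smul_apply, map_smul, a]) hr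
  have := hk.1 x hx
  rw [e, Units.val_one, zpow_one, mul_inv_eq_iff_eq_mul] at this
  exact congrArg (fun g : O Q => g.1 v) this

theorem gam_odd (hQ : (polarBilin Q).Nondegenerate) {k : O Q × ℤˣ} (hk : k ∈ Gam X T)
    (e : k.2 = -1) {r s : End F V} (hr : r ∈ RR X) (h : Adj Q r s) (v : V) :
    k.1.1 (r v) = s (k.1.1 v) := by
  refine RR_induction (P := fun r => ∀ s, Adj Q r s → k.1.1 (r v) = s (k.1.1 v))
    (fun x hx s h => ?_) (fun s h => by rw [h.unique hQ adj_zero]; simp)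
    (fun r hr r' hr' a b s h => ?_) (fun c r hr a s h => ?_) hr s h
  · have := hk.1 x hx
    rw [e, Units.val_neg, Units.val_one, zpow_neg_one, mul_inv_eq_iff_eq_mul] at this
    rw [h.unique hQ (adj_O x)]
    exact congrArg (fun g : O Q => g.1 v) this
  · obtain ⟨t, -, e⟩ := exists_adj hr
    obtain ⟨t', -, e'⟩ := exists_adj hr'
    rw [h.unique hQ (e.add e'), LinearMap.add_apply, LinearMap.add_apply, map_add, a t e, b t' e']
  · obtain ⟨t, -, e⟩ := exists_adj hr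
    rw [h.unique hQ (e.smul c), LinearMap.smul_apply, LinearMap.smul_apply, map_smul, a t e]

theorem gam_apply (hQ : (polarBilin Q).Nondegenerate) {k : O Q × ℤˣ} (hk : k ∈ Gam X T)
    {r : End F V} (hr : r ∈ RR X) :
    ∃ s ∈ RR X, (s = r ∨ Adj Q r s) ∧ ∀ v, k.1.1 (r v) = s (k.1.1 v) := by
  rcases Int.units_eq_one_or k.2 with e | e
  · exact ⟨r, hr, Or.inl rfl, gam_even hk e hr⟩
  · obtain ⟨s, hs, h⟩ := exists_adj hr
    exact ⟨s, hs, Or.inr h, gam_odd hQ hk e hr h⟩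

theorem gam_x {k : O Q × ℤˣ} (hk : k ∈ Gam X T) {x : O Q} (hx : x ∈ X) :
    ∃ y ∈ X, ∀ v, k.1.1 (x.1 v) = y.1 (k.1.1 v) :=
  ⟨_, zpow_mem hx _, fun v => congrArg (fun g : O Q => g.1 v) (mul_inv_eq_iff_eq_mul.1 (hk.1 x hx))⟩

theorem mem_Gam_even {g : O Q} (h : ∀ x ∈ X, ∀ v, g.1 (x.1 v) = x.1 (g.1 v))
    (hT : ∀ t ∈ T, g.1 t = t) : (g, 1) ∈ ev (pr Q) (Gam X T) :=
  ⟨⟨fun x hx => by
    rw [Units.val_one, zpow_one, mul_inv_eq_iff_eq_mul]
    exact O_ext (h x hx), hT⟩, rfl⟩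

/-! ### Spans of orbits -/

theorem mem_DD {t : V} (ht : t ∈ T) : t ∈ DD X T := Submodule.subset_span ⟨1, X.one_mem, t, ht, rfl⟩

theorem DD_induction {P : V → Prop} (hx : ∀ x ∈ X, ∀ t ∈ T, P (x.1 t)) (h0 : P 0)
    (hadd : ∀ a b, P a → P b → P (a + b)) (hsmul : ∀ (c : F) a, P a → P (c • a)) {d : V}
    (hd : d ∈ DD X T) : P d := by
  induction hd using Submodule.span_induction with
  | mem r h => obtain ⟨x, h, t, h', rfl⟩ := h; exact hx x h t h'
  | zero => exact h0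
  | add r s _ _ a b => exact hadd r s a b
  | smul c r _ a => exact hsmul c r a

theorem x_DD {x : O Q} (hx : x ∈ X) {d : V} (hd : d ∈ DD X T) : x.1 d ∈ DD X T :=
  DD_induction (P := fun d => x.1 d ∈ DD X T)
    (fun y hy t ht => Submodule.subset_span ⟨x * y, X.mul_mem hx hy, t, ht, rfl⟩) (by simp)
    (fun _ _ a b => by rw [map_add]; exact add_mem a b)
    (fun c _ a => by rw [map_smul]; exact Submodule.smul_mem _ c a) hd

/-- An `X`-stable subspace is stable under the algebra. -/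
theorem RR_stable {W : Submodule F V} (hW : ∀ x ∈ X, ∀ v ∈ W, x.1 v ∈ W) {r : End F V}
    (hr : r ∈ RR X) {v : V} (hv : v ∈ W) : r v ∈ W :=
  RR_induction (P := fun r => r v ∈ W) (fun x hx => hW x hx v hv) (by simp)
    (fun _ _ _ _ a b => add_mem a b) (fun c _ _ a => W.smul_mem c a) hr

theorem RR_DD {r : End F V} (hr : r ∈ RR X) {d : V} (hd : d ∈ DD X T) : r d ∈ DD X T :=
  RR_stable (fun _ hx _ hv => x_DD hx hv) hr hd

theorem RR_perp {W : Submodule F V} (hW : ∀ r ∈ RR X, ∀ v ∈ W, r v ∈ W) {r : End F V}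
    (hr : r ∈ RR X) {v : V} (hv : v ∈ perp Q W) : r v ∈ perp Q W := by
  obtain ⟨s, hs, h⟩ := exists_adj hr
  exact mem_perp.2 fun w hw => by rw [← h.symm]; exact mem_perp.1 hv _ (hW s hs w hw)

theorem RR_perp_DD {r : End F V} (hr : r ∈ RR X) {v : V} (hv : v ∈ perp Q (DD X T)) :
    r v ∈ perp Q (DD X T) := RR_perp (fun _ hr _ hv => RR_DD hr hv) hr hv

theorem DD_le {W : Submodule F V} (hW : ∀ x ∈ X, ∀ v ∈ W, x.1 v ∈ W) (hT : ∀ t ∈ T, t ∈ W) :
    DD X T ≤ W := Submodule.span_le.2 fun _ ⟨x, hx, t, ht, e⟩ => e ▸ hW x hx t (hT t ht)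

theorem DD_mono {T T' : Set V} (h : T ⊆ T') : DD X T ≤ DD X T' :=
  DD_le (fun _ hx _ hv => x_DD hx hv) fun _ ht => mem_DD (h ht)

theorem mem_DD_singleton {w v : V} : v ∈ DD X {w} ↔ ∃ r ∈ RR X, r w = v := by
  refine ⟨fun h => ?_, fun ⟨r, hr, e⟩ => e ▸ RR_DD hr (mem_DD rfl)⟩
  exact DD_induction (P := fun v => ∃ r ∈ RR X, r w = v)
    (fun x hx t ht => ⟨_, mem_RR hx, by rw [ht]; rfl⟩) ⟨0, zero_mem _, rfl⟩
    (fun _ _ ⟨r, a, b⟩ ⟨s, c, d⟩ => ⟨r + s, add_mem a c, by rw [← b, ← d]; rfl⟩)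
    (fun c _ ⟨r, a, b⟩ => ⟨c • r, Submodule.smul_mem _ c a, by rw [← b]; rfl⟩) h

theorem RR_mem_DD {w : V} {r : End F V} (hr : r ∈ RR X) : r w ∈ DD X {w} :=
  mem_DD_singleton.2 ⟨r, hr, rfl⟩

theorem mem_perp_DD_singleton {w v : V} :
    v ∈ perp Q (DD X {w}) ↔ ∀ r ∈ RR X, polar Q (r w) v = 0 :=
  mem_perp.trans ⟨fun h _ hr => h _ (RR_mem_DD hr), fun h u hu => by
    obtain ⟨r, hr, rfl⟩ := mem_DD_singleton.1 hu
    exact h r hr⟩

theorem DD_insert (w : V) : DD X (insert w T) = DD X {w} ⊔ DD X T :=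
  le_antisymm (Submodule.span_le.2 fun _ ⟨_, hx, _, ht, e⟩ => e ▸ ht.elim
    (fun e => Submodule.mem_sup_left (x_DD hx (mem_DD e)))
    (fun h => Submodule.mem_sup_right (x_DD hx (mem_DD h))))
    (sup_le (DD_mono (Set.singleton_subset_iff.2 (Set.mem_insert _ _)))
      (DD_mono (Set.subset_insert _ _)))

theorem mem_DD_insert {w v : V} :
    v ∈ DD X (insert w T) ↔ ∃ r ∈ RR X, ∃ d ∈ DD X T, r w + d = v := by
  rw [DD_insert, Submodule.mem_sup]
  exact ⟨fun ⟨_, a, d, b, c⟩ => by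
    obtain ⟨r, hr, rfl⟩ := mem_DD_singleton.1 a
    exact ⟨r, hr, d, b, c⟩, fun ⟨r, hr, d, b, c⟩ => ⟨_, RR_mem_DD hr, d, b, c⟩⟩

theorem DD_lt_insert {w : V} (h : w ∉ DD X T) : DD X T < DD X (insert w T) :=
  lt_of_le_of_ne (DD_mono (Set.subset_insert _ _)) fun e => h (e ▸ mem_DD (Set.mem_insert _ _))

theorem gam_DD {k : O Q × ℤˣ} (hk : k ∈ Gam X T) {T' : Set V} (h : T' ⊆ T) {d : V}
    (hd : d ∈ DD X T') : k.1.1 d ∈ DD X T' :=
  DD_induction (P := fun d => k.1.1 d ∈ DD X T') (fun x hx t ht => by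
      obtain ⟨y, hy, e⟩ := gam_x hk hx
      rw [e, hk.2 t (h ht)]
      exact x_DD hy (mem_DD ht)) (by simp)
    (fun _ _ a b => by rw [map_add]; exact add_mem a b)
    (fun c _ a => by rw [map_smul]; exact Submodule.smul_mem _ c a) hd

theorem gam_perp_DD {k : O Q × ℤˣ} (hk : k ∈ Gam X T) {T' : Set V} (h : T' ⊆ T) {v : V}
    (hv : v ∈ perp Q (DD X T')) : k.1.1 v ∈ perp Q (DD X T') := mem_perp.2 fun d hd => by
  rw [polar_comm, O_polar_inv, polar_comm]
  exact mem_perp.1 hv _ (gam_DD ((Gam X T).inv_mem hk) h hd)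

theorem gam_even_DD {k : O Q × ℤˣ} (hk : k ∈ Gam X T) (e : k.2 = 1) {d : V} (hd : d ∈ DD X T) :
    k.1.1 d = d :=
  DD_induction (P := fun d => k.1.1 d = d)
    (fun x hx t ht => (gam_even hk e (mem_RR hx) t).trans (by rw [hk.2 t ht]; rfl)) (by simp)
    (fun _ _ a b => by rw [map_add, a, b]) (fun c _ a => by rw [map_smul, a]) hd

theorem gam_Fx {k : O Q × ℤˣ} (hk : k ∈ Gam X T) {v : V} (hv : v ∈ Fx X) : k.1.1 v ∈ Fx X :=
  fun x hx => by
    obtain ⟨y, hy, e⟩ := gam_x ((Gam X T).inv_mem hk) hx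
    have := e (k.1.1 v)
    rw [Prod.fst_inv, O_inv_apply, hv y hy, O_inv_apply_eq] at this
    exact this

theorem exists_aug (hQ : (polarBilin Q).Nondegenerate) {r : End F V} (hr : r ∈ RR X) :
    ∃ c : F, (∀ v ∈ Fx X, r v = c • v) ∧ ∀ s, Adj Q r s → ∀ v ∈ Fx X, s v = c • v := by
  refine RR_induction (P := fun r => ∃ c : F, (∀ v ∈ Fx X, r v = c • v) ∧
    ∀ s, Adj Q r s → ∀ v ∈ Fx X, s v = c • v)
    (fun x hx => ⟨1, fun v hv => by rw [one_smul]; exact hv x hx, fun s h v hv => by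
      rw [one_smul, h.unique hQ (adj_O x)]; exact hv _ (X.inv_mem hx)⟩)
    ⟨0, by simp, fun s h v _ => by rw [h.unique hQ adj_zero]; simp⟩
    (fun r hr r' hr' ⟨c, a, b⟩ ⟨c', a', b'⟩ => ⟨c + c', fun v hv => by
      rw [LinearMap.add_apply, a v hv, a' v hv, add_smul], fun s h v hv => ?_⟩)
    (fun e r hr ⟨c, a, b⟩ => ⟨e * c, fun v hv => by
      rw [LinearMap.smul_apply, a v hv, mul_smul], fun s h v hv => ?_⟩) hr
  · obtain ⟨t, -, e⟩ := exists_adj hr
    obtain ⟨t', -, e'⟩ := exists_adj hr'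
    rw [h.unique hQ (e.add e'), LinearMap.add_apply, b t e v hv, b' t' e' v hv, add_smul]
  · obtain ⟨t, -, e'⟩ := exists_adj hr
    rw [h.unique hQ (e'.smul e), LinearMap.smul_apply, b t e' v hv, mul_smul]

theorem RR_Fx {r : End F V} (hr : r ∈ RR X) {v : V} (hv : v ∈ Fx X) : r v ∈ Fx X :=
  RR_stable (fun x hx v hv => by rw [hv x hx]; exact hv) hr hv

theorem mem_DD_singleton_Fx (hQ : (polarBilin Q).Nondegenerate) {w v : V} (hw : w ∈ Fx X) :
    v ∈ DD X {w} ↔ ∃ c : F, c • w = v := by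
  refine ⟨fun h => ?_, fun ⟨c, e⟩ => e ▸ Submodule.smul_mem _ c (mem_DD rfl)⟩
  obtain ⟨r, hr, rfl⟩ := mem_DD_singleton.1 h
  obtain ⟨c, a, -⟩ := exists_aug hQ hr
  exact ⟨c, (a w hw).symm⟩

theorem RR_Kl (hc : Comm X) {w : V} {r : End F V} (hr : r ∈ RR X) {y : V} (hy : y ∈ Kl X w) :
    r y ∈ Kl X w := fun s hs h => by rw [hc.app hs hr, hy s hs h, map_zero]

theorem self_mem_Kl (w : V) : w ∈ Kl X w := fun _ _ h => h

theorem Kl_eq_Fx (hQ : (polarBilin Q).Nondegenerate) {w : V} (hw : w ∈ Fx X) (h0 : w ≠ 0) :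
    Kl X w = Fx X := by
  ext y
  refine ⟨fun h x hx => sub_eq_zero.1 (h (x.1 - 1) (sub_mem (mem_RR hx) one_mem_RR)
    (sub_eq_zero.2 (hw x hx))), fun h r hr e => ?_⟩
  obtain ⟨c, a, -⟩ := exists_aug hQ hr
  rw [a w hw] at e
  rw [a y h, (smul_eq_zero.1 e).resolve_right h0, zero_smul]

/-! ### Constructions of vectors and isometries -/

section Fin

variable [FiniteDimensional F V]

/-- A vector with prescribed pairings. -/
theorem exists_rep (hQ : (polarBilin Q).Nondegenerate) {A : Type*} [AddCommGroup A] [Module F A]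
    (g : A →ₗ[F] V) (f : A →ₗ[F] F) (C : Submodule F V) (h : ∀ a, g a ∈ C → f a = 0) :
    ∃ v ∈ perp Q C, ∀ a, polar Q (g a) v = f a := by
  have h1 : f ∈ LinearMap.range (C.mkQ ∘ₗ g).dualMap := by
    rw [LinearMap.range_dualMap_eq_dualAnnihilator_ker, Submodule.mem_dualAnnihilator]
    exact fun a ha => h a ((Submodule.Quotient.mk_eq_zero C).1 ha)
  obtain ⟨φ, rfl⟩ := h1
  have h2 := LinearMap.BilinForm.apply_toDual_symm_apply (hB := hQ) (φ ∘ₗ C.mkQ)
  refine ⟨_, mem_perp'.2 fun c hc => (h2 c).trans ?_, fun a => (polar_comm _ _ _).trans (h2 _)⟩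
  rw [LinearMap.comp_apply, Submodule.mkQ_apply, (Submodule.Quotient.mk_eq_zero C).2 hc, map_zero]

/-- A vector with prescribed pairings with `R w`. -/
theorem exists_rep_RR (hQ : (polarBilin Q).Nondegenerate) (w : V) (f : End F V →ₗ[F] F)
    (C : Submodule F V) (h : ∀ r ∈ RR X, r w ∈ C → f r = 0) :
    ∃ v ∈ perp Q C, ∀ r ∈ RR X, polar Q (r w) v = f r := by
  obtain ⟨v, a, b⟩ := exists_rep hQ (LinearMap.applyₗ w ∘ₗ (RR X).subtype) (f ∘ₗ (RR X).subtype) C
    fun r => h r r.2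
  exact ⟨v, a, fun r hr => b ⟨r, hr⟩⟩

/-- An isometry from its graph. -/
theorem exists_O_of_graph (hQ : (polarBilin Q).Nondegenerate) (G : Submodule F (V × V))
    (htot : ∀ v, ∃ v', (v, v') ∈ G) (hfun : ∀ v', (0, v') ∈ G → v' = 0)
    (hiso : ∀ p ∈ G, Q p.2 = Q p.1) : ∃ g : O Q, ∀ p ∈ G, g.1 p.1 = p.2 := by
  choose f hf using htot
  have key : ∀ p ∈ G, f p.1 = p.2 := fun p hp => sub_eq_zero.1 (hfun _ (by
    have := G.sub_mem (hf p.1) hp
    rwa [show (p.1, f p.1) - p = (0, f p.1 - p.2) from Prod.ext (sub_self _) rfl] at this))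
  let φ : V →ₗ[F] V :=
    { toFun := f
      map_add' := fun a b => key _ (G.add_mem (hf a) (hf b))
      map_smul' := fun c a => key _ (G.smul_mem c (hf a)) }
  have hQ' : ∀ v, Q (φ v) = Q v := fun v => hiso _ (hf v)
  have hinj : Function.Injective φ := (injective_iff_map_eq_zero φ).2 fun v hv =>
    eq_zero_of_polar hQ fun y => by
      have := hQ' (v + y)
      rw [map_add, hv, zero_add, hQ', Q_add, ← hQ' v, hv, map_zero, zero_add] at this
      exact left_eq_add.1 this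
  exact ⟨⟨LinearEquiv.ofInjectiveEndo φ hinj, hQ'⟩, key⟩

/-- An isometry given on a non-degenerate subspace by a graph, the identity on the complement. -/
theorem exists_O_of_graph_on (hQ : (polarBilin Q).Nondegenerate) {U : Submodule F V}
    (hU : NondegOn Q U) (G : Submodule F (V × V)) (hG : ∀ p ∈ G, p.1 ∈ U ∧ p.2 ∈ U)
    (htot : ∀ v ∈ U, ∃ v', (v, v') ∈ G) (hfun : ∀ v', (0, v') ∈ G → v' = 0)
    (hiso : ∀ p ∈ G, Q p.2 = Q p.1) :
    ∃ g : O Q, (∀ p ∈ G, g.1 p.1 = p.2) ∧ ∀ z ∈ perp Q U, g.1 z = z := by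
  let Δ : Submodule F (V × V) := (perp Q U).map (LinearMap.id.prod LinearMap.id)
  have hm : ∀ p ∈ G ⊔ Δ, ∃ q ∈ G, ∃ z ∈ perp Q U, p = (q.1 + z, q.2 + z) := fun p hp => by
    obtain ⟨q, hq, _, ⟨z, hz, rfl⟩, rfl⟩ := Submodule.mem_sup.1 hp
    exact ⟨q, hq, z, hz, rfl⟩
  obtain ⟨g, hg⟩ := exists_O_of_graph hQ (G ⊔ Δ) (fun v => by
      obtain ⟨u, hu, z, hz, rfl⟩ := hU.orthDec.exists_add v
      obtain ⟨u', h⟩ := htot u hu
      exact ⟨u' + z, Submodule.add_mem_sup h (show (z, z) ∈ Δ from ⟨z, hz, rfl⟩)⟩)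
    (fun v' hv => by
      obtain ⟨q, hq, z, hz, e⟩ := hm _ hv
      have e1 : q.1 = -z := eq_neg_of_add_eq_zero_left (congrArg Prod.fst e).symm
      have e2 : q.1 = 0 := hU _ (hG q hq).1 (mem_perp'.1 (e1 ▸ neg_mem hz))
      have e3 : z = 0 := neg_eq_zero.1 (e1.symm.trans e2)
      have := hfun q.2 (e2 ▸ hq)
      simpa [this, e3] using congrArg Prod.snd e)
    (fun p hp => by
      obtain ⟨q, hq, z, hz, rfl⟩ := hm _ hp
      rw [hU.orthDec.Q_add (hG q hq).1 hz, hU.orthDec.Q_add (hG q hq).2 hz, hiso q hq])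
  exact ⟨g, fun p hp => hg p (Submodule.mem_sup_left hp),
    fun z hz => hg (z, z) (Submodule.mem_sup_right ⟨z, hz, rfl⟩)⟩

/-- Cutting an isometry down to a non-degenerate invariant subspace. -/
theorem exists_patch (hQ : (polarBilin Q).Nondegenerate) {U : Submodule F V} (hU : NondegOn Q U)
    (g : O Q) (hg : ∀ u ∈ U, g.1 u ∈ U) :
    ∃ h : O Q, (∀ u ∈ U, h.1 u = g.1 u) ∧ ∀ z ∈ perp Q U, h.1 z = z := by
  obtain ⟨h, a, b⟩ := exists_O_of_graph_on hQ hU (U.map (LinearMap.id.prod (g.1 : V →ₗ[F] V)))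
    (by rintro _ ⟨u, hu, rfl⟩; exact ⟨hu, hg u hu⟩) (fun v hv => ⟨_, v, hv, rfl⟩)
    (by
      rintro v' ⟨u, -, e⟩
      have e1 : u = 0 := congrArg Prod.fst e
      rw [← show g.1 u = v' from congrArg Prod.snd e, e1, map_zero])
    (by rintro _ ⟨u, -, rfl⟩; exact O_map g u)
  exact ⟨h, fun u hu => a _ ⟨u, hu, rfl⟩, b⟩

omit [FiniteDimensional F V] in
theorem adj_ann_of_nondeg (hQ : (polarBilin Q).Nondegenerate) (hc : Comm X) {v : V}
    (hU : NondegOn Q (DD X {v})) {r s : End F V} (hr : r ∈ RR X) (h : Adj Q r s) (e : r v = 0) :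
    s v = 0 := hU _ (RR_mem_DD (h.mem_RR hQ hr)) fun u hu => by
  obtain ⟨t, ht, rfl⟩ := mem_DD_singleton.1 hu
  rw [h.symm, hc.app hr ht, e, map_zero, polar_zero_right]

/-- The inverting involution of a non-degenerate cyclic subspace. -/
theorem exists_cyc_inv (hQ : (polarBilin Q).Nondegenerate) (hc : Comm X) {v : V}
    (hU : NondegOn Q (DD X {v})) : ∃ γ : O Q, (∀ r ∈ RR X, ∀ s, Adj Q r s → γ.1 (r v) = s v) ∧
      ∀ z ∈ perp Q (DD X {v}), γ.1 z = z := by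
  let G : Submodule F (V × V) :=
    { carrier := {p | ∃ r ∈ RR X, ∃ s, Adj Q r s ∧ p = (r v, s v)}
      zero_mem' := ⟨0, zero_mem _, 0, adj_zero, rfl⟩
      add_mem' := by
        rintro _ _ ⟨r, a, s, b, rfl⟩ ⟨r', a', s', b', rfl⟩
        exact ⟨_, add_mem a a', _, b.add b', rfl⟩
      smul_mem' := by
        rintro c _ ⟨r, a, s, b, rfl⟩
        exact ⟨_, Submodule.smul_mem _ c a, _, b.smul c, rfl⟩ }
  obtain ⟨γ, a, b⟩ := exists_O_of_graph_on hQ hU G
    (by rintro _ ⟨r, a, s, b, rfl⟩; exact ⟨RR_mem_DD a, RR_mem_DD (b.mem_RR hQ a)⟩)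
    (fun u hu => by
      obtain ⟨r, hr, rfl⟩ := mem_DD_singleton.1 hu
      obtain ⟨s, -, h⟩ := exists_adj hr
      exact ⟨_, r, hr, s, h, rfl⟩)
    (by
      rintro v' ⟨r, a, s, b, e⟩
      rw [show v' = s v from congrArg Prod.snd e]
      exact adj_ann_of_nondeg hQ hc hU a b (congrArg Prod.fst e).symm)
    (by rintro _ ⟨r, a, s, b, rfl⟩; exact b.Q_eq hQ hc a v)
  exact ⟨γ, fun r hr s h => a _ ⟨r, hr, s, h, rfl⟩, b⟩

end Fin

/-! ### Characteristic two -/

section Two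

variable [CharP F 2]

variable (F) in
include F in
theorem add_self' (v : V) : v + v = 0 := by
  rw [← two_smul F, show (2 : F) = 0 from CharP.cast_eq_zero F 2, zero_smul]

variable (F) in
include F in
theorem neg_eq' (v : V) : -v = v := neg_eq_of_add_eq_zero_left (add_self' F v)

variable (F) in
include F in
theorem sub_eq_add' (u v : V) : u - v = u + v := by rw [sub_eq_add_neg, neg_eq' F]

variable (F) in
include F in
theorem add_eq_zero' {u v : V} : u + v = 0 ↔ u = v := by rw [← sub_eq_add' F, sub_eq_zero]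

theorem polar_self_two (v : V) : polar Q v v = 0 := by
  rw [polar_self', show (2 : F) = 0 from CharP.cast_eq_zero F 2, zero_mul]

theorem Base.eq_of_sub (h : Base X T) {v v' : V} (hv : v ∈ perp Q (DD X T))
    (hd : v' - v ∈ DD X T) (hd' : v' - v ∈ perp Q (DD X T)) (e : Q v' = Q v) : v' = v := by
  refine sub_eq_zero.1 ((h.rad _ hd hd').2 ?_)
  have := Q_add Q (v' - v) v
  rw [sub_add_cancel, e, mem_perp.1 hv _ hd, add_zero] at this
  exact right_eq_add.1 this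

theorem Base.gam_rad (h : Base X T) {k : O Q × ℤˣ} (hk : k ∈ Gam X T) {d : V} (hd : d ∈ DD X T)
    (hd' : d ∈ perp Q (DD X T)) : k.1.1 d = d :=
  h.eq_of_sub hd' (sub_mem (gam_DD hk subset_rfl hd) hd) (sub_mem (gam_perp_DD hk subset_rfl hd') hd')
    (O_map _ _)

theorem Base.gam_insert_rad (h : Base X T) {d : V} (hd : d ∈ DD X T) (hd' : d ∈ perp Q (DD X T)) :
    Gam X (insert d T) = Gam X T :=
  Subgroup.ext fun _ => mem_Gam_insert.trans ⟨fun a => a.1, fun a => ⟨a, h.gam_rad a hd hd'⟩⟩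

variable [Finite F]

theorem Base.rad_line (h : Base X T) {w d : V} (hw : w ∈ DD X T) (hw' : w ∈ perp Q (DD X T))
    (h0 : w ≠ 0) (hd : d ∈ DD X T) (hd' : d ∈ perp Q (DD X T)) : ∃ c : F, d = c • w := by
  have h1 : Q w ≠ 0 := fun e => h0 ((h.rad w hw hw').2 e)
  obtain ⟨c, hc⟩ := isSquare_of_two_eq_zero (CharP.cast_eq_zero F 2) (Q d / Q w)
  refine ⟨c, sub_eq_zero.1 ((h.rad _ (sub_mem hd (Submodule.smul_mem _ c hw))
    (sub_mem hd' (Submodule.smul_mem _ c hw'))).2 ?_)⟩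
  rw [Q_sub, Q_smul, ← hc, div_mul_cancel₀ _ h1, polar_smul_right', mem_perp.1 hw' d hd, mul_zero,
    sub_zero, CharTwo.add_self_eq_zero]

theorem exists_pow_eq (hc : Comm X) (ho : Odd (Nat.card X)) :
    ∃ n : ℕ, ∀ r ∈ RR X, r ^ (n + 2) = r := by
  rcases subsingleton_or_nontrivial V with hV | hV
  · exact ⟨0, fun _ _ => Subsingleton.elim _ _⟩
  haveI := Fintype.ofFinite F
  haveI : CharP (End F V) 2 := charP_of_injective_algebraMap' F 2
  haveI := Fact.mk Nat.prime_two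
  obtain ⟨f, -, hf⟩ := FiniteField.card F 2
  let N := f * (Nat.card X).totient
  have hN : N ≠ 0 := Nat.mul_ne_zero f.ne_zero (Nat.totient_pos.2 ho.pos).ne'
  obtain ⟨n, hn⟩ : ∃ n, 2 ^ N = n + 2 :=
    Nat.exists_eq_add_of_le' (Nat.le_self_pow hN 2)
  refine ⟨n, fun r hr => ?_⟩
  rw [← hn]
  refine RR_induction (P := fun r => r ^ 2 ^ N = r) (fun x hx => ?_) (zero_pow (by positivity))
    (fun r hr s hs a b => by rw [add_pow_char_pow_of_commute 2 N (hc.RR hr hs), a, b])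
    (fun c r _ a => by
      rw [smul_pow, a, pow_mul, ← hf, FiniteField.pow_card_pow]) hr
  have h1 : 2 ^ N ≡ 1 [MOD Nat.card X] := by
    rw [show N = (Nat.card X).totient * f from mul_comm _ _, pow_mul]
    simpa using (Nat.ModEq.pow_totient (Nat.coprime_two_left.2 ho)).pow f
  have h2 : x ^ 2 ^ N = x ^ 1 := pow_eq_pow_iff_modEq.2
    (h1.of_dvd (orderOf_mk x hx ▸ orderOf_dvd_natCard (⟨x, hx⟩ : X)))
  rw [← coe_O_pow, h2, pow_one]

theorem eq_zero_of_sq (hc : Comm X) (ho : Odd (Nat.card X)) {r : End F V} (hr : r ∈ RR X) {v : V}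
    (h : r (r v) = 0) : r v = 0 := by
  obtain ⟨n, hn⟩ := exists_pow_eq hc ho
  rw [← hn r hr, pow_add, pow_two, End.mul_apply, End.mul_apply, h, map_zero]

/-- The support element of a vector. -/
theorem exists_eps [FiniteDimensional F V] (hc : Comm X) (ho : Odd (Nat.card X)) (w : V) :
    ∃ e ∈ RR X, e w = w ∧ ∀ v, e v ∈ Kl X w := by
  obtain ⟨n, hn⟩ := exists_pow_eq hc ho
  obtain ⟨e, ⟨he, hw⟩, hmin⟩ := (wellFounded_lt (α := Submodule F V)).onFun
    (f := fun e : End F V => LinearMap.range e) |>.has_min {e | e ∈ RR X ∧ e w = w}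
    ⟨1, one_mem_RR, rfl⟩
  refine ⟨e, he, hw, fun v r hr h => ?_⟩
  have h1 : LinearMap.range (e * (1 - r ^ (n + 1))) ≤ LinearMap.range e :=
    LinearMap.range_comp_le_range _ _
  have hm : 1 - r ^ (n + 1) ∈ RR X := sub_mem one_mem_RR (pow_mem_RR hr _)
  have h2 := eq_of_le_of_not_lt h1 (hmin _ ⟨mul_mem_RR he hm, by
    rw [End.mul_apply, LinearMap.sub_apply, pow_succ, End.mul_apply, h, map_zero, sub_zero]
    exact hw⟩)
  obtain ⟨u, hu⟩ := h2.ge (LinearMap.mem_range_self e v)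
  rw [← hu, ← hc.RR hm he, End.mul_apply, ← End.mul_apply, mul_sub, ← pow_succ', hn r hr, mul_one,
    sub_self, LinearMap.zero_apply]

theorem Fx_nondeg [FiniteDimensional F V] (hQ : (polarBilin Q).Nondegenerate) (hc : Comm X)
    (ho : Odd (Nat.card X)) {w : V} (hw : w ∈ Fx X) (h0 : w ≠ 0) :
    ∃ v ∈ Fx X, polar Q v w ≠ 0 := by
  obtain ⟨e, he, a, b⟩ := exists_eps hc ho w
  obtain ⟨s, -, hs⟩ := exists_adj he
  obtain ⟨c, h1, h2⟩ := exists_aug hQ he
  obtain ⟨y, hy⟩ := exists_polar_ne_zero hQ h0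
  refine ⟨e y, Kl_eq_Fx hQ hw h0 ▸ b y, ?_⟩
  rwa [hs, h2 s hs w hw, ← h1 w hw, a, polar_comm]

end Two

end Cfsg.Agent.H71.FS2
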