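import Cfsg.Agent.H78.G40B
import Cfsg.Agent.H26.SLBasic

/-! Project L40G, piece MO1: the linear model. -/

set_option autoImplicit false

namespace Cfsg.Agent.H71.G40Mo1

open Subgroup Matrix Cfsg.Agent.H46.L40 Cfsg.Agent.H78.G40
open Cfsg.Agent.H46.S94 (Inn)
open scoped commutatorElement

def s4 : SL4 := ⟨!![1, 0, 0, 0; 0, 1, 0, 0; 0, 0, 0, 1; 0, 0, 2, 0], by decide +kernel⟩

theorem σ1_eq : σ1 = mk1 s4 := rfl

theorem e1_eq (m : S3) : e1 m = mk1 (E1 m) := rfl

theorem b4_tv : ∀ (i j : Fin 3) (c : ZMod 3),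
    b4 (transvection i j c) = transvection i.castSucc j.castSucc c := by decide +kernel

theorem s_tv : ∀ (i : Fin 4) (c : ZMod 3), i ≠ 2 → i ≠ 3 →
    transvection i 3 c * s4.1 = s4.1 * transvection i 2 (-c) ∧
      transvection 3 i c * s4.1 = s4.1 * transvection 2 i (-c) := by decide +kernel

theorem cj_mem {Y : Type} [Group Y] {H : Subgroup Y} {a b s : Y} (e : a * s = s * b) (hs : s ∈ H)
    (hb : b ∈ H) : a ∈ H := by
  rw [eq_mul_inv_of_mul_eq e]
  exact mul_mem (mul_mem hs hb) (inv_mem hs)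

theorem cube (A : SL4) (h : A ^ 3 = 1) : A.1 ^ 3 = 1 :=
  (Matrix.SpecialLinearGroup.coe_pow A 3).symm.trans (congrArg Subtype.val h)

theorem gen : Gn e1 {σ1} = ⊤ := by
  have key : (Gn e1 {σ1}).comap mk1 = ⊤ := by
    set H := (Gn e1 {σ1}).comap mk1
    have hs : s4 ∈ H := subset_closure (Or.inr rfl)
    have h1 : ∀ (i j : Fin 4) (h : i ≠ j) c, i ≠ 3 → j ≠ 3 →
        SpecialLinearGroup.transvection h c ∈ H := fun i j h c hi hj => by
      obtain ⟨i, rfl⟩ := Fin.exists_castSucc_eq.2 hi
      obtain ⟨j, rfl⟩ := Fin.exists_castSucc_eq.2 hj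
      have : SpecialLinearGroup.transvection h c =
          E1 (SpecialLinearGroup.transvection (fun e => h (congrArg _ e)) c) :=
        Subtype.ext (b4_tv i j c).symm
      rw [this]
      exact subset_closure (Or.inl ⟨_, rfl⟩)
    have h2 : ∀ (i : Fin 4) (h : i ≠ 3) c, i ≠ 2 → SpecialLinearGroup.transvection h c ∈ H :=
      fun i h c hi => cj_mem (b := SpecialLinearGroup.transvection hi (-c))
        (Subtype.ext (s_tv i c hi h).1) hs (h1 _ _ _ _ h (by decide))
    have h3 : ∀ (i : Fin 4) (h : 3 ≠ i) c, i ≠ 2 → SpecialLinearGroup.transvection h c ∈ H :=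
      fun i h c hi => cj_mem (b := SpecialLinearGroup.transvection hi.symm (-c))
        (Subtype.ext (s_tv i c hi h.symm).2) hs (h1 _ _ _ _ (by decide) h.symm)
    have cm : ∀ {a b : SL4}, a ∈ H → b ∈ H → ⁅a, b⁆ ∈ H := fun ha hb =>
      mul_mem (mul_mem (mul_mem ha hb) (inv_mem ha)) (inv_mem hb)
    refine H26.sl_eq_top_of_transvection_mem H fun i j h c => ?_
    by_cases hi : i = 3
    · subst hi
      by_cases hj : j = 2
      · subst hj
        rw [← mul_one c, ← H26.commutator_transvection (k := 0) h (by decide) (by decide)]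
        exact cm (h3 _ _ _ (by decide)) (h1 _ _ _ _ (by decide) (by decide))
      · exact h3 _ _ _ hj
    · by_cases hj : j = 3
      · subst hj
        by_cases hi' : i = 2
        · subst hi'
          rw [← mul_one c, ← H26.commutator_transvection (k := 0) h (by decide) (by decide)]
          exact cm (h1 _ _ _ _ (by decide) (by decide)) (h2 _ _ _ (by decide))
        · exact h2 _ _ _ hi'
      · exact h1 _ _ _ _ hi hj
  refine eq_top_iff.2 fun x _ => ?_
  obtain ⟨g, rfl⟩ := QuotientGroup.mk'_surjective _ x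
  exact (key ▸ mem_top g : g ∈ (Gn e1 {σ1}).comap mk1)

theorem outer : ¬ Inn τ1 := by
  rintro ⟨c, hc⟩
  obtain ⟨c, rfl⟩ := QuotientGroup.mk'_surjective _ c
  have h1 : ∀ t : TransvectionStruct (Fin 4) (ZMod 3), Commute t.toMatrix ((c⁻¹).1 * d4) := fun t => by
    let g : SL4 := SpecialLinearGroup.transvection t.hij t.c
    have g3 : g ^ 3 = 1 := by
      rw [pow_succ, sq, ← SpecialLinearGroup.transvection_add, ← SpecialLinearGroup.transvection_add,
        show t.c + t.c + t.c = 0 by generalize t.c = x; revert x; decide,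
        SpecialLinearGroup.transvection_coeff_zero]
    have e : mk1 (T1 g) = mk1 (c * g * c⁻¹) := DFunLike.congr_fun hc (mk1 g)
    rcases (mk1_eq _ _).1 e with e | e
    · change d4 * t.toMatrix * d4 = c.1 * t.toMatrix * (c⁻¹).1 at e
      have k : (c⁻¹).1 * c.1 = 1 := congrArg Subtype.val (inv_mul_cancel c)
      calc t.toMatrix * ((c⁻¹).1 * d4) = (c⁻¹).1 * (c.1 * t.toMatrix * (c⁻¹).1) * d4 := by
            rw [← mul_assoc, ← mul_assoc, ← mul_assoc, k, one_mul]
        _ = _ := by rw [← e, mul_assoc, mul_assoc, d4_sq, mul_one, mul_assoc]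
    · have k1 := cube (T1 g) (by rw [← map_pow, g3, map_one])
      have k2 := cube (c * g * c⁻¹) (by rw [conj_pow, g3, mul_one, mul_inv_cancel])
      rw [e, Odd.neg_pow (by decide), k2] at k1
      exact absurd k1 (by decide)
  obtain ⟨r, hr⟩ := mem_range_scalar_of_commute_transvectionStruct h1
  have h2 := congrArg det hr
  rw [det_mul, (c⁻¹).2, one_mul, scalar_apply, det_diagonal, show d4.det = 2 by decide +kernel,
    Finset.prod_const, Finset.card_univ, Fintype.card_fin] at h2
  clear hr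
  revert r
  decide

theorem mo1 : Mo1S := fun _ h =>
  { fin := inferInstance
    simple := h.1
    nc := h.2.1
    gen := gen
    ss := (mk1_eq (s4 * s4) (E1 z0)).2 (Or.inr (by decide +kernel))
    sa := mul_inv_eq_of_eq_mul ((mk1_eq (s4 * E1 a0) (E1 (a0 * z0) * s4)).2 (by decide +kernel))
    s12 := by
      rw [one_mul, inv_one, mul_one]
      exact mul_inv_eq_of_eq_mul ((mk1_eq (s4 * E1 x12) (E1 x12 * s4)).2 (by decide +kernel))
    s21 := by
      rw [one_mul, inv_one, mul_one]
      exact mul_inv_eq_of_eq_mul ((mk1_eq (s4 * E1 x21) (E1 x21 * s4)).2 (by decide +kernel))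
    br := (mk1_eq (s4 * E1 n23 * s4) (E1 n23 * s4 * E1 n23)).2 (by decide +kernel)
    τe := fun m => congrArg mk1 (show T1 (E1 m) = E1 m from Subtype.ext (by
      change d4 * b4 m.1 * d4 = b4 m.1
      ext i j
      fin_cases i <;> fin_cases j <;> simp [b4, d4, mul_apply, Fin.sum_univ_four]
      decide))
    τs := eq_inv_of_mul_eq_one_left ((mk1_eq (T1 s4 * s4) 1).2 (by decide +kernel))
    τo := outer
    θe := fun m => congrArg mk1 (show itr (Fin 4) (ZMod 3) (E1 m) = E1 (tr m) from Subtype.ext (by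
      change ((E1 m)⁻¹).1ᵀ = b4 (m⁻¹).1ᵀ
      rw [← map_inv]
      change (b4 (m⁻¹).1)ᵀ = _
      generalize (m⁻¹).1 = A
      ext i j
      fin_cases i <;> fin_cases j <;> rfl))
    θs := congrArg mk1 (show itr (Fin 4) (ZMod 3) s4 = s4 from Subtype.ext (by
      change (s4⁻¹).1ᵀ = s4.1
      rw [show s4⁻¹ = SpecialLinearGroup.transpose s4 from
        inv_eq_of_mul_eq_one_right (by decide +kernel)]
      rfl)) }

end Cfsg.Agent.H71.G40Mo1
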