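import Cfsg.Agent.H78.G40A
import Cfsg.Agent.H69.L40Fr2

/-! Project L40G, piece NK: elements fusing `t` to `t z` normalise `O` and `K12`. -/

set_option autoImplicit false

namespace Cfsg.Agent.H71.G40Nk

open Subgroup Cfsg.Agent.H83 Cfsg.Agent.H46.L40 Cfsg.Agent.H78.G40
open Cfsg.Agent.H46.S94 (Cx)
open Cfsg.Agent.H69.L40Fr2 (ent ctr tr_mul tr_tr tr_inv cjcj two_eq)

universe u

theorem cw (m : S3) (h : m * w0 = w0 * m) : m ^ 8 = 1 := by
  have hd := m.2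
  rw [Matrix.det_fin_three] at hd
  have k2 : ∀ x y : ZMod 3, x = y → (y * 2 = x ∨ 2 * y = x ∨ x = y * 2 ∨ x = 2 * y ∨
    x * 2 = y ∨ 2 * x = y ∨ y = x * 2 ∨ y = 2 * x) → x = 0 ∧ y = 0 := by decide
  have a10 : m.1 0 1 * 2 = m.1 1 0 := by simpa [w0] using ent h 0 0
  have a11 : m.1 0 0 = m.1 1 1 := by simpa [w0] using ent h 0 1
  have a12 : m.1 0 2 = m.1 1 2 := by simpa [w0] using ent h 0 2
  have a21 : m.1 2 0 = m.1 2 1 := by simpa [w0] using ent h 2 1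
  have b1 : m.1 1 2 = 2 * m.1 0 2 := by simpa [w0] using ent h 1 2
  have b2 : m.1 2 1 * 2 = m.1 2 0 := by simpa [w0] using ent h 2 0
  obtain ⟨c1, c2⟩ := k2 _ _ a12 (by tauto)
  obtain ⟨c3, c4⟩ := k2 _ _ a21 (by tauto)
  have key : ∀ a b d : ZMod 3, a * a * d - b * (b * 2) * d = 1 →
      (!![a, b, 0; b * 2, a, 0; 0, 0, d] : Matrix (Fin 3) (Fin 3) (ZMod 3)) ^ 8 = 1 := by
    decide +kernel
  have e : m.1 = !![m.1 0 0, m.1 0 1, 0; m.1 0 1 * 2, m.1 0 0, 0; 0, 0, m.1 2 2] := by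
    ext i j
    fin_cases i <;> fin_cases j <;> simp [a10, ← a11, c1, c2, c3, c4]
  rw [← a10, ← a11, c1, c2, c3, c4] at hd
  refine Subtype.ext ?_
  rw [Matrix.SpecialLinearGroup.coe_pow, e]
  exact key _ _ _ (by simpa using hd)

theorem facts : a0 * x12 * a0⁻¹ = x12⁻¹ ∧ a0 * x21 * a0⁻¹ = x21⁻¹ ∧ a0 * a0 = 1 ∧
    w0 = x12 * x21⁻¹ * x12 ∧ x12 ^ 3 = 1 ∧ x21 ^ 3 = 1 ∧ w0 ^ 4 = 1 ∧ z0 * z0 = 1 ∧
    x12 * z0 = z0 * x12 ∧ x21 * z0 = z0 * x21 ∧ a0 * z0 = z0 * a0 := by decide +kernel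

theorem m12 : x12 ∈ K12 := subset_closure (by simp)
theorem m21 : x21 ∈ K12 := subset_closure (by simp)

theorem a0_conj {m : S3} (hm : m ∈ K12) : a0 * m * a0⁻¹ ∈ K12 := by
  induction hm using closure_induction with
  | mem x hx =>
    rcases hx with rfl | rfl
    · rw [facts.1]; exact inv_mem m12
    · rw [facts.2.1]; exact inv_mem m21
  | one => simp
  | mul x y _ _ hx hy => convert mul_mem hx hy using 1; group
  | inv x _ hx => convert inv_mem hx using 1; group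

theorem cover {m : S3} (hm : m ∈ Subgroup.closure ({x12, x21, a0} : Set S3)) : m ∈ K12 ∨ m * a0 ∈ K12 := by
  have ha : a0⁻¹ = a0 := inv_eq_of_mul_eq_one_right facts.2.2.1
  induction hm using closure_induction with
  | mem x hx =>
    rcases hx with rfl | rfl | rfl
    exacts [Or.inl m12, Or.inl m21, Or.inr (facts.2.2.1 ▸ one_mem _)]
  | one => exact Or.inl (one_mem _)
  | mul x y _ _ hx hy =>
    rcases hx with hx | hx <;> rcases hy with hy | hy
    · exact Or.inl (mul_mem hx hy)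
    · exact Or.inr (mul_assoc x y a0 ▸ mul_mem hx hy)
    · right
      have := mul_mem hx (a0_conj hy)
      rwa [ha, ← mul_assoc, ← mul_assoc, mul_assoc x, facts.2.2.1, mul_one] at this
    · left
      have := mul_mem hx (a0_conj hy)
      rwa [mul_assoc a0, mul_inv_cancel_right, ← mul_assoc, mul_assoc x, facts.2.2.1,
        mul_one] at this
  | inv x _ hx =>
    rcases hx with hx | hx
    · exact Or.inl (inv_mem hx)
    · right
      have := a0_conj (inv_mem hx)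
      rwa [mul_inv_rev, mul_inv_cancel_left, ha] at this

theorem odd_root {H : Type*} [Group H] {x : H} {N : ℕ} (hN : Odd N) (h : x ^ N = 1) :
    ∃ k : ℕ, x = x ^ k * x ^ k := by
  obtain ⟨k, rfl⟩ := hN
  exact ⟨k + 1, by rw [← pow_add, show k + 1 + (k + 1) = 2 * k + 1 + 1 by ring, pow_succ, h, one_mul]⟩

theorem odd_K {m : S3} (hm : m ∈ Subgroup.closure ({x12, x21, a0} : Set S3)) {N : ℕ} (hN : Odd N)
    (h : m ^ N = 1) : m ∈ K12 := by
  rcases cover hm with h1 | h1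
  · exact h1
  · have h2 : m * m ∈ K12 := by
      have := mul_mem h1 (a0_conj h1)
      rwa [mul_assoc a0, mul_inv_cancel_right, ← mul_assoc, mul_assoc m, facts.2.2.1,
        mul_one] at this
    obtain ⟨k, hk⟩ := odd_root hN h
    rw [hk, ← (Commute.refl m).mul_pow]
    exact pow_mem h2 k

section
variable {G : Type u} [Group G] [Finite G] {φ : S3 →* G} {t : G} {O : Subgroup G} (cx : Cx φ t O)
include cx

omit [Finite G] in
theorem oc {o : G} (ho : o ∈ O) (m : S3) : Commute (φ m) o := cx.OC ho _ ⟨m, rfl⟩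

omit [Finite G] in
theorem split {m : S3} {k : G} (hk : ∀ x, Commute (φ x) k) {N : ℕ} (h : (φ m * k) ^ N = 1) :
    m ^ N = 1 ∧ k ^ N = 1 := by
  rw [(hk m).mul_pow, ← map_pow] at h
  have h2 : m ^ N = 1 := ctr _ fun x => cx.inj (by
    rw [map_mul, map_mul, eq_inv_of_mul_eq_one_left h]
    exact ((hk x).pow_right N).inv_right.symm.eq)
  rw [h2, map_one, one_mul] at h
  exact ⟨h2, h⟩

omit [Finite G] in
theorem o_two {o : G} (ho : o ∈ O) {n : ℕ} (h : o ^ 2 ^ n = 1) : o = 1 := by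
  have h1 : orderOf o ∣ Nat.card O := orderOf_dvd_natCard O ho
  have h2 : orderOf o ∣ 2 ^ n := orderOf_dvd_of_pow_eq_one h
  exact orderOf_eq_one_iff.1 (Nat.eq_one_of_dvd_coprimes
    (Nat.Coprime.pow_right n (Nat.coprime_two_right.2 cx.odd)) h1 h2)

omit [Finite G] in
theorem sq_inn (au : AutS) {c : G} (hc : c * t = t * c) :
    ∃ m, ∀ x, c * c * φ x * (c * c)⁻¹ = φ (m * x * m⁻¹) := by
  let ψ : S3 ≃* S3 := (MonoidHom.ofInjective cx.inj).trans
    ((φ.range.normalizerMonoidHom ⟨c, cx.NJ c hc⟩).trans (MonoidHom.ofInjective cx.inj).symm)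
  have hψ : ∀ x, c * φ x * c⁻¹ = φ (ψ x) := fun x =>
    (MonoidHom.apply_ofInjective_symm cx.inj
      (φ.range.normalizerMonoidHom ⟨c, cx.NJ c hc⟩ (MonoidHom.ofInjective cx.inj x))).symm
  have e : ∀ x, c * c * φ x * (c * c)⁻¹ = c * (c * φ x * c⁻¹) * c⁻¹ := fun x => by group
  obtain ⟨m, h | h⟩ := au ψ
  · exact ⟨m * m, fun x => by rw [e, hψ, hψ, h, h, cjcj]⟩
  · exact ⟨m * tr m, fun x => by rw [e, hψ, hψ, h, h, tr_mul, tr_mul, tr_tr, tr_inv, cjcj]⟩

omit [Finite G] in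
theorem odd_el (kit : Kit) {c : G} (hc : c * t = t * c) (hz : c * φ z0 = φ z0 * c) {N : ℕ}
    (hN : Odd N) (h : c ^ N = 1) : ∃ m ∈ K12, ∃ o ∈ O, c = φ m * o := by
  obtain ⟨k, hk⟩ := odd_root hN h
  obtain ⟨m, hm⟩ := sq_inn cx kit.aut ((show Commute c t from hc).pow_left k).eq
  rw [← hk] at hm
  obtain ⟨d, hd⟩ : ∃ d, d = (φ m)⁻¹ * c := ⟨_, rfl⟩
  have ec : c = φ m * d := by rw [hd]; group
  have dc : ∀ x, Commute (φ x) d := fun x => by
    have := hm x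
    rw [map_mul, map_mul, map_inv, ec] at this
    calc φ x * d = (φ m)⁻¹ * (φ m * φ x * (φ m)⁻¹) * φ m * d := by group
      _ = d * φ x := by rw [← this]; group
  have dt : d * t = t * d := by
    rw [hd, mul_assoc, hc, ← mul_assoc, ← mul_assoc, ← map_inv, cx.AC]
  obtain ⟨h1, h2⟩ := split cx dc (ec ▸ h)
  have hmz : m * z0 = z0 * m := cx.inj (by
    rw [ec, mul_assoc, ← (dc z0).eq, ← mul_assoc, ← mul_assoc, mul_left_inj] at hz
    rwa [map_mul, map_mul])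
  refine ⟨m, odd_K (kit.cz m hmz) hN h1, d, ?_, ec⟩
  rcases cx.tr d dt (mem_centralizer_iff.2 (by rintro _ ⟨x, rfl⟩; exact dc x)) with h3 | h3
  · exact h3
  · have h4 := pow_mem h3 N
    obtain ⟨j, rfl⟩ := hN
    rw [(show Commute d t from dt).mul_pow, h2, one_mul, pow_succ, pow_mul, sq, cx.tt, one_pow,
      one_mul] at h4
    exact absurd (o_two cx h4 (n := 1) (by rw [pow_one, sq, cx.tt])) cx.t1

omit [Finite G] cx in
theorem conj_C {g : G} (h1 : g * t * g⁻¹ = t * φ z0) (h2 : g * φ z0 = φ z0 * g) {c : G}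
    (hc : c * t = t * c) (hz : c * φ z0 = φ z0 * c) :
    g * c * g⁻¹ * t = t * (g * c * g⁻¹) ∧ g * c * g⁻¹ * φ z0 = φ z0 * (g * c * g⁻¹) := by
  have k1 : Commute (g * c * g⁻¹) (φ z0) :=
    ((show Commute g (φ z0) from h2).mul_left hz).mul_left (show Commute g (φ z0) from h2).inv_left
  have k2 : Commute (g * c * g⁻¹) (t * φ z0) := by
    rw [← h1]
    exact (show Commute c t from hc).map (MulAut.conj g)
  exact ⟨by simpa using (k2.mul_right k1.inv_right).eq, k1⟩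

omit [Finite G] in
theorem conj_K (kit : Kit) {g : G} (h1 : g * t * g⁻¹ = t * φ z0) (h2 : g * φ z0 = φ z0 * g)
    {m : S3} (hm : m ∈ K12) : ∃ k ∈ K12, ∃ o ∈ O, g * φ m * g⁻¹ = φ k * o := by
  have key : ∀ x : S3, x ^ 3 = 1 → x * z0 = z0 * x → ∃ k ∈ K12, ∃ o ∈ O, g * φ x * g⁻¹ = φ k * o :=
    fun x h3 hz => by
      obtain ⟨k1, k2⟩ := conj_C h1 h2 (cx.AC x) (by rw [← map_mul, hz, map_mul])
      exact odd_el cx kit k1 k2 (N := 3) (by decide) (by rw [conj_pow, ← map_pow, h3]; simp)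
  induction hm using closure_induction with
  | mem x hx =>
    rcases hx with rfl | rfl
    · exact key _ facts.2.2.2.2.1 facts.2.2.2.2.2.2.2.2.1
    · exact key _ facts.2.2.2.2.2.1 facts.2.2.2.2.2.2.2.2.2.1
  | one => exact ⟨1, one_mem _, 1, one_mem _, by simp⟩
  | mul x y _ _ hx hy =>
    obtain ⟨k, hk, o, ho, e⟩ := hx
    obtain ⟨k', hk', o', ho', e'⟩ := hy
    refine ⟨k * k', mul_mem hk hk', o * o', mul_mem ho ho', ?_⟩
    rw [map_mul, ← conj_mul, e, e', map_mul, mul_assoc, ← mul_assoc o, ← (oc cx ho k').eq]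
    group
  | inv x _ hx =>
    obtain ⟨k, hk, o, ho, e⟩ := hx
    refine ⟨k⁻¹, inv_mem hk, o⁻¹, inv_mem ho, ?_⟩
    rw [map_inv, ← conj_inv, e, (oc cx ho k).eq, mul_inv_rev, map_inv]

theorem nO (kit : Kit) {g : G} (h1 : g * t * g⁻¹ = t * φ z0) (h2 : g * φ z0 = φ z0 * g) :
    g ∈ normalizer (O : Set G) := by
  have hzz : φ z0 * φ z0 = 1 := by rw [← map_mul, facts.2.2.2.2.2.2.2.1, map_one]
  have h2' : g⁻¹ * φ z0 = φ z0 * g⁻¹ := (show Commute g (φ z0) from h2).inv_left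
  have h1' : g⁻¹ * t * g⁻¹⁻¹ = t * φ z0 := by
    calc g⁻¹ * t * g⁻¹⁻¹ = g⁻¹ * (t * φ z0) * (φ z0 * g) := by
          rw [mul_assoc g⁻¹ (t * φ z0), mul_assoc t, ← mul_assoc (φ z0), hzz]; group
      _ = g⁻¹ * (g * t * g⁻¹) * (g * φ z0) := by rw [h1, h2]
      _ = t * φ z0 := by group
  obtain ⟨k, -, o', ho', e⟩ := conj_K cx kit h1' h2' (m := w0)
    (facts.2.2.2.1 ▸ mul_mem (mul_mem m12 (inv_mem m21)) m12)
  have h3 : o' = 1 := o_two cx ho' (n := 2) (split cx (oc cx ho') (m := k) (by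
    rw [← e, conj_pow, ← map_pow, show (2 : ℕ) ^ 2 = 4 from rfl, facts.2.2.2.2.2.2.1]; simp)).2
  rw [h3, mul_one] at e
  refine mem_normalizer_fintype fun o ho => ?_
  obtain ⟨k1, k2⟩ := conj_C h1 h2 (cx.Ot o ho) (oc cx ho z0).symm.eq
  have hN : (g * o * g⁻¹) ^ Nat.card O = 1 := by
    rw [conj_pow, show o ^ Nat.card O = 1 from
      orderOf_dvd_iff_pow_eq_one.1 (orderOf_dvd_natCard O ho)]
    simp
  obtain ⟨m, -, o'', ho'', e'⟩ := odd_el cx kit k1 k2 cx.odd hN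
  have h4 : Commute (φ w0) (g * o * g⁻¹) := by
    have := (oc cx ho k).map (MulAut.conj g)
    rw [← e] at this
    simpa [mul_assoc] using this
  have h5 : m * w0 = w0 * m := cx.inj (by
    have := h4.eq
    rw [e', mul_assoc, ← (oc cx ho'' w0).eq, ← mul_assoc, ← mul_assoc, mul_left_inj] at this
    rw [map_mul, map_mul, this])
  have h6 := (split cx (oc cx ho'') (e' ▸ hN)).1
  have h7 : m = 1 := orderOf_eq_one_iff.1 (Nat.eq_one_of_dvd_coprimes
    (Nat.Coprime.pow_right 3 (Nat.coprime_two_right.2 cx.odd)) (orderOf_dvd_of_pow_eq_one h6)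
    (orderOf_dvd_of_pow_eq_one (cw m h5)))
  rw [e', h7, map_one, one_mul]
  exact ho''

theorem nK (kit : Kit) {g : G} (h1 : g * t * g⁻¹ = t * φ z0) (h2 : g * φ z0 = φ z0 * g) :
    g ∈ normalizer (K12.map φ : Set G) := by
  have hO := nO cx kit h1 h2
  obtain ⟨ha, -⟩ := conj_C h1 h2 (cx.AC a0) (by rw [← map_mul, facts.2.2.2.2.2.2.2.2.2.2, map_mul])
  have key : ∀ x ∈ K12, a0 * x * a0⁻¹ = x⁻¹ → g * φ x * g⁻¹ ∈ K12.map φ := fun x hx hi => by
    obtain ⟨k, hk, o, ho, e⟩ := conj_K cx kit h1 h2 hx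
    have h3 : Commute (g * φ a0 * g⁻¹) o := by
      have := (oc cx ((mem_normalizer_iff''.1 hO o).1 ho) a0).map (MulAut.conj g)
      simpa [mul_assoc] using this
    obtain ⟨n, hn⟩ := (mem_normalizer_iff.1 (cx.NJ _ ha) (φ k)).1 ⟨k, rfl⟩
    have h4 : g * φ a0 * g⁻¹ * (φ k * o) * (g * φ a0 * g⁻¹)⁻¹ = (φ k * o)⁻¹ := by
      rw [← e, conj_inv, conj_inv, conj_mul, conj_mul, ← map_inv, ← map_mul, ← map_mul, hi, map_inv]
    have h5 : (φ (k * n) * (o * o)) ^ 1 = 1 := by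
      rw [← mul_assoc, mul_assoc _ o, h3.inv_left.symm.eq, ← mul_assoc, ← hn] at h4
      rw [pow_one, map_mul, mul_assoc, ← mul_assoc (φ n), h4, (oc cx ho k).eq]
      group
    have h6 := (split cx (oc cx (mul_mem ho ho)) h5).2
    rw [e, o_two cx ho (n := 1) (by simpa [sq] using h6), mul_one]
    exact mem_map_of_mem _ hk
  refine mem_normalizer_fintype ?_
  rintro _ ⟨m, hm, rfl⟩
  induction hm using closure_induction with
  | mem x hx =>
    rcases hx with rfl | rfl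
    exacts [key _ m12 facts.1, key _ m21 facts.2.1]
  | one => rw [map_one, mul_one, mul_inv_cancel]; exact one_mem _
  | mul x y _ _ hx hy => rw [map_mul, ← conj_mul]; exact mul_mem hx hy
  | inv x _ hx => rw [map_inv, ← conj_inv]; exact inv_mem hx

end

theorem nk : NkS.{u} := fun kit _ _ _ _ _ _ cx _ h1 h2 => ⟨nO cx kit h1 h2, nK cx kit h1 h2⟩

end Cfsg.Agent.H71.G40Nk
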