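import Mathlib
import Cfsg.Agent.H76.K4Defs

/-! Arithmetic of four squares under a lattice inequality. -/

set_option autoImplicit false

namespace Cfsg.Agent.H71.K4Ar

def HH (x y z : ℤ) : Prop := ∀ a b c : ℤ, (a * x + b * y + c * z) * (a * x + b * y + c * z + 1) ≤
  (1 + x ^ 2 + y ^ 2 + z ^ 2) * (a ^ 2 + b ^ 2 + c ^ 2)

theorem key {x y z : ℤ} (H : HH x y z) (j a b c e f g : ℤ) (ha : 8 * a = j * x + e)
    (hb : 8 * b = j * y + f) (hc : 8 * c = j * z + g) :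
    (x ^ 2 + y ^ 2 + z ^ 2) * (8 * j - j ^ 2 - (e ^ 2 + f ^ 2 + g ^ 2)) ≤
      e ^ 2 + f ^ 2 + g ^ 2 + (4 - j) ^ 2 := by
  have h := H a b c
  have h1 : ((8 * a) * x + (8 * b) * y + (8 * c) * z) * ((8 * a) * x + (8 * b) * y + (8 * c) * z + 8) ≤
      (1 + x ^ 2 + y ^ 2 + z ^ 2) * ((8 * a) ^ 2 + (8 * b) ^ 2 + (8 * c) ^ 2) := by linarith
  rw [ha, hb, hc] at h1
  nlinarith [sq_nonneg (e * x + f * y + g * z + (4 - j))]

theorem fin {x y z : ℤ} (hx : x % 2 = 1) (hy : y % 2 = 1) (hz : z % 2 = 0)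
    (h : x ^ 2 + y ^ 2 + z ^ 2 ≤ 15) (h4 : z % 4 = 0 → x ^ 2 + y ^ 2 + z ^ 2 ≤ 3) :
    x ^ 2 + y ^ 2 + z ^ 2 = 2 ∨ x ^ 2 + y ^ 2 + z ^ 2 = 6 ∨ x ^ 2 + y ^ 2 + z ^ 2 = 14 := by
  have x1 : x ≤ 3 := by nlinarith [sq_nonneg y, sq_nonneg z]
  have x2 : -3 ≤ x := by nlinarith [sq_nonneg y, sq_nonneg z]
  have y1 : y ≤ 3 := by nlinarith [sq_nonneg x, sq_nonneg z]
  have y2 : -3 ≤ y := by nlinarith [sq_nonneg x, sq_nonneg z]
  have z1 : z ≤ 3 := by nlinarith [sq_nonneg y, sq_nonneg x]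
  have z2 : -3 ≤ z := by nlinarith [sq_nonneg y, sq_nonneg x]
  interval_cases x <;> interval_cases y <;> interval_cases z <;> simp_all

theorem two {x y z : ℤ} (H : HH x y z) (hx : x % 2 = 1) (hy : y % 2 = 1) (hz : z % 2 = 0) :
    x ^ 2 + y ^ 2 + z ^ 2 = 2 ∨ x ^ 2 + y ^ 2 + z ^ 2 = 6 ∨ x ^ 2 + y ^ 2 + z ^ 2 = 14 := by
  have hD : 0 ≤ x ^ 2 + y ^ 2 + z ^ 2 := by positivity
  have k : ∀ j : ℤ, ∃ e f g : ℤ, e = 8 * ((j * x + 4) / 8) - j * x ∧ f = 8 * ((j * y + 4) / 8) - j * y ∧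
      g = 8 * ((j * z + 4) / 8) - j * z ∧
      (x ^ 2 + y ^ 2 + z ^ 2) * (8 * j - j ^ 2 - (e ^ 2 + f ^ 2 + g ^ 2)) ≤
        e ^ 2 + f ^ 2 + g ^ 2 + (4 - j) ^ 2 := fun j =>
    ⟨_, _, _, rfl, rfl, rfl, key H j ((j * x + 4) / 8) ((j * y + 4) / 8) ((j * z + 4) / 8) _ _ _
      (by ring) (by ring) (by ring)⟩
  have h4 : z % 4 = 0 → x ^ 2 + y ^ 2 + z ^ 2 ≤ 3 := by
    intro h
    obtain ⟨e, f, g, he, hf, hg, k2⟩ := k 2
    have e1 : e = 2 ∨ e = -2 := by omega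
    have f1 : f = 2 ∨ f = -2 := by omega
    have g1 : g = 0 := by omega
    generalize x ^ 2 + y ^ 2 + z ^ 2 = D at *
    rcases e1 with e1 | e1 <;> rcases f1 with f1 | f1 <;> rw [e1, f1, g1] at k2 <;> linarith
  refine fin hx hy hz ?_ h4
  by_cases h : z % 4 = 0
  · linarith [h4 h]
  by_cases h1 : (x % 8 = 1 ∨ x % 8 = 7) ∧ (y % 8 = 1 ∨ y % 8 = 7)
  · obtain ⟨e, f, g, he, hf, hg, k2⟩ := k 1
    have e1 : e = 1 ∨ e = -1 := by omega
    have f1 : f = 1 ∨ f = -1 := by omega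
    have g1 : g = 2 ∨ g = -2 := by omega
    generalize x ^ 2 + y ^ 2 + z ^ 2 = D at *
    rcases e1 with e1 | e1 <;> rcases f1 with f1 | f1 <;> rcases g1 with g1 | g1 <;>
      rw [e1, f1, g1] at k2 <;> linarith
  · obtain ⟨e, f, g, he, hf, hg, k2⟩ := k 3
    have e1 : ((e = 1 ∨ e = -1) ∧ (f = 1 ∨ f = -1 ∨ f = 3 ∨ f = -3)) ∨
        ((e = 3 ∨ e = -3) ∧ (f = 1 ∨ f = -1)) := by omega
    have g1 : g = 2 ∨ g = -2 := by omega
    generalize x ^ 2 + y ^ 2 + z ^ 2 = D at *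
    rcases e1 with ⟨e1 | e1, f1 | f1 | f1 | f1⟩ | ⟨e1 | e1, f1 | f1⟩ <;> rcases g1 with g1 | g1 <;>
      rw [e1, f1, g1] at k2 <;> linarith

theorem hh (q x y z : ℤ) (hq : q = 1 + x ^ 2 + y ^ 2 + z ^ 2)
    (H : ∀ a b c d : ℤ, q ∣ b - a * x → q ∣ c - a * y → q ∣ d - a * z →
      q * a ≤ a ^ 2 + b ^ 2 + c ^ 2 + d ^ 2) : HH x y z := by
  intro a b c
  have hpos : 0 < q := by rw [hq]; positivity
  have h := H (q - (1 + (a * x + b * y + c * z))) (q * a - (1 + (a * x + b * y + c * z)) * x)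
    (q * b - (1 + (a * x + b * y + c * z)) * y) (q * c - (1 + (a * x + b * y + c * z)) * z)
    ⟨a - x, by ring⟩ ⟨b - y, by ring⟩ ⟨c - z, by ring⟩
  rw [← hq]
  refine le_of_mul_le_mul_left ?_ hpos
  have e : (q - (1 + (a * x + b * y + c * z))) ^ 2 + (q * a - (1 + (a * x + b * y + c * z)) * x) ^ 2 +
      (q * b - (1 + (a * x + b * y + c * z)) * y) ^ 2 + (q * c - (1 + (a * x + b * y + c * z)) * z) ^ 2 =
      q * (q + q * (a ^ 2 + b ^ 2 + c ^ 2) - (1 + (a * x + b * y + c * z)) ^ 2) := by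
    linear_combination (-(1 + (a * x + b * y + c * z)) ^ 2) * hq
  rw [e] at h
  linarith

theorem arH (q x y z : ℤ) (hq : q = 1 + x ^ 2 + y ^ 2 + z ^ 2) (ho : Odd q) (h : HH x y z) :
    q = 1 ∨ q = 3 ∨ q = 7 ∨ q = 15 := by
  have sq : ∀ t : ℤ, t ^ 2 % 2 = t % 2 := fun t => by
    rcases Int.emod_two_eq_zero_or_one t with h | h <;> simp [pow_two, Int.mul_emod, h]
  have hq2 : q % 2 = 1 := Int.odd_iff.1 ho
  have sx := sq x
  have sy := sq y
  have sz := sq z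
  rcases Int.emod_two_eq_zero_or_one x with hx | hx <;>
    rcases Int.emod_two_eq_zero_or_one y with hy | hy <;>
    rcases Int.emod_two_eq_zero_or_one z with hz | hz
  · have k := key h 4 (x / 2) (y / 2) (z / 2) 0 0 0 (by omega) (by omega) (by omega)
    have : 0 ≤ x ^ 2 + y ^ 2 + z ^ 2 := by positivity
    left
    linarith
  · omega
  · omega
  · have := two (x := y) (y := z) (z := x) (fun a b c => by linarith [h c a b]) hy hz hx
    omega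
  · omega
  · have := two (x := x) (y := z) (z := y) (fun a b c => by linarith [h a c b]) hx hz hy
    omega
  · have := two h hx hy hz
    omega
  · omega

/-- the even case: a sum `1 + x² + y² + z²` divisible by `4` is `4` modulo `8` -/
theorem ev (q x y z : ℤ) (hq : q = 1 + x ^ 2 + y ^ 2 + z ^ 2) : q % 8 ≠ 0 := by
  have sq : ∀ t : ℤ, t ^ 2 % 8 = 0 ∨ t ^ 2 % 8 = 1 ∨ t ^ 2 % 8 = 4 := fun t => by
    have h : t % 8 = 0 ∨ t % 8 = 1 ∨ t % 8 = 2 ∨ t % 8 = 3 ∨ t % 8 = 4 ∨ t % 8 = 5 ∨ t % 8 = 6 ∨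
      t % 8 = 7 := by omega
    rcases h with h | h | h | h | h | h | h | h <;> simp [pow_two, Int.mul_emod, h]
  have sx := sq x
  have sy := sq y
  have sz := sq z
  omega

theorem ar (q x y z : ℤ) (hq : q = 1 + x ^ 2 + y ^ 2 + z ^ 2) (ho : Odd q)
    (H : ∀ a b c d : ℤ, q ∣ b - a * x → q ∣ c - a * y → q ∣ d - a * z →
      q * a ≤ a ^ 2 + b ^ 2 + c ^ 2 + d ^ 2) : q = 1 ∨ q = 3 ∨ q = 7 ∨ q = 15 :=
  arH q x y z hq ho (hh q x y z hq H)

theorem ar4 : H76.K4.Ar4Stmt := by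
  rintro p n hp ⟨x, y, z, mx, my, mz, hq, hm, H, -⟩
  have h1 : p ^ n ≠ 1 := by
    intro h
    rw [h, Nat.cast_one] at hq
    have hx : x = 0 := (pow_eq_zero_iff two_ne_zero).1 (le_antisymm
      (by linarith [sq_nonneg x, sq_nonneg y, sq_nonneg z]) (sq_nonneg x))
    have hy : y = 0 := (pow_eq_zero_iff two_ne_zero).1 (le_antisymm
      (by linarith [sq_nonneg x, sq_nonneg y, sq_nonneg z]) (sq_nonneg y))
    have hz : z = 0 := (pow_eq_zero_iff two_ne_zero).1 (le_antisymm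
      (by linarith [sq_nonneg x, sq_nonneg y, sq_nonneg z]) (sq_nonneg z))
    rw [hx, hy, hz] at hm
    simp at hm
  rcases hp.eq_two_or_odd' with rfl | ho
  · have h8 := ev _ x y z hq
    rcases n with _ | _ | _ | n
    · exact absurd rfl h1
    · left; rfl
    · right; right; left; rfl
    · exfalso
      apply h8
      have : 2 ^ (n + 1 + 1 + 1) = 8 * 2 ^ n := by ring
      rw [this]
      omega
  · have h := arH _ x y z hq (by exact_mod_cast ho.pow (n := n)) (fun a b c => by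
      have := H a b c
      rw [hq] at this
      linarith)
    have h15 : p ^ n ≠ 15 := by
      intro h
      have h3 : 3 ∣ p := Nat.prime_three.dvd_of_dvd_pow (n := n) (by rw [h]; norm_num)
      have h5 : 5 ∣ p := Nat.prime_five.dvd_of_dvd_pow (n := n) (by rw [h]; norm_num)
      have e3 := (Nat.prime_dvd_prime_iff_eq Nat.prime_three hp).1 h3
      have e5 := (Nat.prime_dvd_prime_iff_eq Nat.prime_five hp).1 h5
      omega
    omega

end Cfsg.Agent.H71.K4Ar
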