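import Mathlib
import Cfsg.Agent.H14.RkDefs
import Cfsg.Agent.H15.CS4
import Cfsg.Agent.H15.Even3
import Cfsg.Agent.H51.Constraint
import Cfsg.Agent.H90.Basic
import Cfsg.Agent.H11.GroupUtil
import Cfsg.Agent.S0143
import Cfsg.Agent.S0205

/-! The configuration `OddH`: basic facts and `OCCStmt`. -/

set_option autoImplicit false

namespace Cfsg.Agent.H71.Rk

open Subgroup Cfsg.Agent.H92 Cfsg.Agent.H14.Rk
open scoped Pointwise

universe u

section General

variable {G : Type*} [Group G] [Finite G]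

/-- A normal `r'`-subgroup of `C_M(y)`, `y` an `r`-element of the solvable group `M`,
lies in `O_{r'}(M)`. -/
theorem le_core {M H : Subgroup G} {r : ℕ} (hr : r.Prime) (hM : Group.IsSolvable M) {y : G}
    (hyM : y ∈ M) (hy : ∃ k, orderOf y = r ^ k) (hH : (Nat.card H).Coprime r)
    (hHM : H ≤ M) (hHy : H ≤ Ce[y]) (hn : M ⊓ Ce[y] ≤ normalizer (H : Set G)) :
    H ≤ (pPrimeCore r M).map M.subtype := by
  have : Fact r.Prime := ⟨hr⟩
  have hc : IsPConstrained r M :=
    H51.isPConstrained_iff.mpr (H3.centralizer_pCore_le (H3.pPrimeCore_quotient_pPrimeCore r M))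
  set y' : M := ⟨y, hyM⟩ with hy'
  have hP : IsPGroup r (zpowers y') := by
    obtain ⟨k, hk⟩ := hy
    refine IsPGroup.of_card (n := k) ?_
    rw [Nat.card_zpowers, ← hk, ← Subgroup.orderOf_coe]
  have h1 := H51.IsPConstrained.map_pPrimeCore_centralizer hc hP
  rw [H15.C_zpowers] at h1
  have h2 : H.subgroupOf M ≤ (pPrimeCore r Ce[y']).map (Ce[y']).subtype := by
    refine H3.le_map_pPrimeCore ?_ ?_ ?_
    · rw [H3.card_subgroupOf, inf_of_le_left hHM]; exact hH
    · rw [C_subgroup]; exact comap_mono hHy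
    · intro g hg
      rw [C_subgroup] at hg
      have := hn ⟨g.2, hg⟩
      rw [mem_normalizer_iff] at this ⊢
      intro h
      exact this h
  rw [h1] at h2
  intro h hh
  exact ⟨⟨h, hHM hh⟩, (h2 hh).1, rfl⟩

theorem exists_pow_prime {g : G} {s : ℕ} (hs : s.Prime) (h : s ∣ orderOf g) :
    ∃ k : ℕ, orderOf (g ^ k) = s :=
  ⟨orderOf g / s, orderOf_pow_orderOf_div (orderOf_pos g).ne' h⟩

theorem exists_pow_prime' {g : G} (hg : g ≠ 1) :
    ∃ (k s : ℕ), s.Prime ∧ orderOf (g ^ k) = s := by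
  obtain ⟨s, hs, h⟩ := Nat.exists_prime_and_dvd (n := orderOf g) (by rwa [Ne, orderOf_eq_one_iff])
  obtain ⟨k, hk⟩ := exists_pow_prime hs h
  exact ⟨k, s, hs, hk⟩

/-- central elements of prime order in a nilpotent subgroup -/
theorem nil_central {B : Subgroup G} (hB : Group.IsNilpotent B) {q : ℕ} (hq : q.Prime)
    (h : q ∣ Nat.card B) : ∃ z ∈ B, orderOf z = q ∧ B ≤ Ce[z] := by
  have : Fact q.Prime := ⟨hq⟩
  obtain ⟨P⟩ : Nonempty (Sylow q B) := inferInstance
  have hn : (P : Subgroup B).Normal := inferInstance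
  obtain ⟨z, hz, hzc, hz1⟩ := H11.exists_mem_center_of_normal (P : Subgroup B)
    (P.ne_bot_of_dvd_card h)
  have h1 : q ∣ orderOf z := by
    have := P.isPGroup'.dvd_orderOf (g := ⟨z, hz⟩) (fun e => hz1 (congrArg Subtype.val e))
    rwa [← Subgroup.orderOf_coe] at this
  obtain ⟨k, hk⟩ := exists_pow_prime hq h1
  refine ⟨((z ^ k : B) : G), (z ^ k).2, by rw [Subgroup.orderOf_coe, hk], fun b hb => ?_⟩
  have := mem_center_iff.1 (pow_mem hzc k) ⟨b, hb⟩
  exact mem_C.2 (congrArg Subtype.val this)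

/-- an involution without fixed points inverts -/
theorem inv_of_fpf {A : Subgroup G} {z : G} (hn : z ∈ normalizer (A : Set G)) (h2 : z * z = 1)
    (h : ∀ a ∈ A, z * a = a * z → a = 1) {a : G} (ha : a ∈ A) : z * a * z⁻¹ = a⁻¹ := by
  have := MonoidHom.FixedPointFree.coe_eq_inv_of_involutive
    (φ := (A.normalizerMonoidHom ⟨z, hn⟩).toMonoidHom)
    (fun x hx => Subtype.ext (h x x.2 (mul_inv_eq_iff_eq_mul.1 (congrArg Subtype.val hx))))
    fun x => Subtype.ext (by
      change z * (z * x * z⁻¹) * z⁻¹ = x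
      calc z * (z * x * z⁻¹) * z⁻¹ = (z * z) * x * (z * z)⁻¹ := by group
        _ = x := by rw [h2]; group)
  exact congrArg Subtype.val (congrFun this ⟨a, ha⟩)

omit [Finite G] in
theorem mem_normalizer_C_of_conj {m h : G} (e : Ce[m * h * m⁻¹] = Ce[h]) :
    m ∈ normalizer (Ce[h] : Set G) := by
  rw [mem_normalizer_iff]
  intro x
  conv_rhs => rw [← e, mem_C_conj]
  rw [show m⁻¹ * (m * x * m⁻¹) * m = x by group]

omit [Finite G] in
theorem card_C_sub (B : Subgroup G) (g : B) : Nat.card Ce[g] = Nat.card ↥(Ce[(g : G)] ⊓ B) := by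
  rw [C_subgroup, H3.card_subgroupOf]

end General

section Odd

variable {G : Type u} [Group G] [Finite G] {a c β : ℕ}

theorem a_pos (T : OddH G a c β) : 0 < a := T.odd.pos

theorem c_pos (T : OddH G a c β) : 0 < c := by
  have h := Nat.card_pos (α := G)
  rw [T.card] at h
  exact Nat.pos_of_mul_pos_left h

theorem β_lt (T : OddH G a c β) : β < a := lt_of_le_of_ne (Nat.le_of_dvd (a_pos T) T.dvd) T.ne

omit [Finite G] in
theorem cop_of_mem (T : OddH G a c β) {K : Subgroup G} (hK : Nat.card K ∣ a) {w : G}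
    (hw : w ∈ K) : (orderOf w).Coprime c :=
  Nat.Coprime.coprime_dvd_left ((orderOf_dvd_natCard K hw).trans hK) T.cop

omit [Finite G] in
theorem sub_dvd (T : OddH G a c β) {K : Subgroup G} (hK : (Nat.card K).Coprime c) :
    Nat.card K ∣ a :=
  hK.dvd_of_dvd_mul_right (T.card ▸ card_subgroup_dvd_card K)

omit [Finite G] in
theorem pi (T : OddH G a c β) {g w : G} (hg : g ≠ 1) (hw : w ∈ Ce[g]) (hw1 : w ≠ 1)
    (hc : (orderOf w).Coprime c) : Nat.card Ce[g] = a ∨ Nat.card Ce[g] = β := by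
  rcases T.tri g hg with h | h
  · exact absurd (orderOf_eq_one_iff.1
      (hc.eq_one_of_dvd ((orderOf_dvd_natCard _ hw).trans h))) hw1
  · exact h

omit [Finite G] in
theorem pi_dvd (T : OddH G a c β) {g w : G} (hg : g ≠ 1) (hw : w ∈ Ce[g]) (hw1 : w ≠ 1)
    (hc : (orderOf w).Coprime c) : Nat.card Ce[g] ∣ a := by
  rcases pi T hg hw hw1 hc with h | h
  · rw [h]
  · rw [h]; exact T.dvd

omit [Finite G] in
theorem pi' (T : OddH G a c β) {g : G} (hg : g ≠ 1) (hc : (orderOf g).Coprime c) :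
    Nat.card Ce[g] = a ∨ Nat.card Ce[g] = β := pi T hg (self_mem_C g) hg hc

omit [Finite G] in
theorem pi_dvd' (T : OddH G a c β) {g : G} (hg : g ≠ 1) (hc : (orderOf g).Coprime c) :
    Nat.card Ce[g] ∣ a := pi_dvd T hg (self_mem_C g) hg hc

theorem big_of_le (T : OddH G a c β) {g v : G} (hg : g ≠ 1) (hb : Nat.card Ce[g] = a)
    (hv : v ≠ 1) (h : Ce[g] ≤ Ce[v]) : Ce[g] = Ce[v] := by
  have h1 := pi_dvd T hv (h (self_mem_C g)) hg (cop_of_mem T hb.dvd (self_mem_C g))
  exact eq_of_le_of_card_ge h (by rw [hb]; exact Nat.le_of_dvd (a_pos T) h1)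

theorem cs_big (T : OddH G a c β) {g : G} (hb : Nat.card Ce[g] = a) : cs[g] = c := by
  have h := cs_mul_card g
  rw [hb, T.card, mul_comm] at h
  exact Nat.eq_of_mul_eq_mul_left (a_pos T) h

theorem solv (T : OddH G a c β) {K : Subgroup G} (hK : Nat.card K ∣ a) : Group.IsSolvable K :=
  S0205.result (T.odd.of_dvd_nat hK)

omit [Finite G] in
theorem not_dvd_c (T : OddH G a c β) {s : ℕ} (hs : s.Prime) (h : s ∣ a) : ¬ s ∣ c := fun h' =>
  hs.one_lt.ne' (Nat.eq_one_of_dvd_coprimes T.cop h h')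

theorem not_pow [IsSimpleGroup G] (hG : ¬ IsMulCommutative G) (T : OddH G a c β) {p : ℕ}
    (hp : p.Prime) (k : ℕ) : a ≠ p ^ k := by
  intro h
  obtain ⟨x, hx, hxa⟩ := T.ex
  have h1 := S0143.result p k hp x hx (hxa.trans h)
  have : Fact (Nat.card G).Prime := ⟨h1⟩
  have := isCyclic_of_prime_card (α := G) rfl
  exact hG IsCyclic.isMulCommutative

theorem exists_other [IsSimpleGroup G] (hG : ¬ IsMulCommutative G) (T : OddH G a c β) {p : ℕ}
    (hp : p.Prime) : ∃ q : ℕ, q.Prime ∧ q ∣ a ∧ q ≠ p := by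
  by_contra h
  push Not at h
  obtain ⟨k, hk⟩ := (eq_pow_iff_forall hp (a_pos T).ne').2 h
  exact not_pow hG T hp k hk

theorem occ_prime [IsSimpleGroup G] (hG : ¬ IsMulCommutative G) (T : OddH G a c β) {y : G}
    (hy : y ≠ 1) (hb : Nat.card Ce[y] = a) (hN : Group.IsNilpotent Ce[y]) {v : G}
    (hv : v ∈ Ce[y]) {r : ℕ} (hr : r.Prime) (hvo : orderOf v = r) : Ce[v] ≤ Ce[y] := by
  have : Fact r.Prime := ⟨hr⟩
  set B := Ce[y] with hB
  set M := Ce[v] with hM
  have hv1 : v ≠ 1 := H15.ne_one_of_ord hr hvo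
  have hra : r ∣ a := hb ▸ hvo ▸ orderOf_dvd_natCard B hv
  have hMa : Nat.card M ∣ a := pi_dvd' T hv1 (cop_of_mem T hb.dvd hv)
  obtain ⟨y', hy'B, hy'o, hy'c⟩ := nil_central hN hr (hb ▸ hra)
  have hy'e : B = Ce[y'] := big_of_le T hy hb (H15.ne_one_of_ord hr hy'o) hy'c
  set H := (pPrimeCore r B).map B.subtype with hH
  set R := (pCore r B).map B.subtype with hR
  have hHB : H ≤ B := map_subtype_le _
  have hHc : (Nat.card H).Coprime r := H3.map_pPrimeCore_coprime B
  have hRH : R ⊔ H = B := by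
    have h1 := H3.fitting_le_pCore_sup_pPrimeCore (p := r) (G := B)
    rw [H3.fitting_eq_top_iff.2 hN, top_le_iff] at h1
    rw [hR, hH, ← Subgroup.map_sup, h1, ← MonoidHom.range_eq_map, range_subtype]
  have hcomm : ∀ b ∈ B, (∃ k, orderOf b = r ^ k) → H ≤ Ce[b] := by
    intro b hbB hbo h hh
    have h1 : (orderOf (⟨h, hHB hh⟩ : B)).Coprime (orderOf (⟨b, hbB⟩ : B)) := by
      rw [← Subgroup.orderOf_coe, ← Subgroup.orderOf_coe]
      obtain ⟨k, hk⟩ := hbo
      change (orderOf h).Coprime (orderOf b)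
      rw [hk]
      exact (Nat.Coprime.coprime_dvd_left (orderOf_dvd_natCard H hh) hHc).pow_right k
    exact mem_C.2 (congrArg Subtype.val (H90.commute_of_coprime_of_isNilpotent h1))
  have hHM : H ≤ M := hcomm v hv ⟨1, by rw [hvo, pow_one]⟩
  have hBN : B ≤ normalizer (H : Set G) :=
    le_normalizer.trans (H3.normalizer_le_normalizer_map_pPrimeCore B)
  have hRp : IsPGroup r R := (H3.pCore_isPGroup r B).map _
  have hRo : ∀ b ∈ R, ∃ k, orderOf b = r ^ k := fun b hb => by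
    obtain ⟨k, hk⟩ := IsPGroup.iff_orderOf.1 hRp ⟨b, hb⟩
    exact ⟨k, by rw [← hk, ← Subgroup.orderOf_coe]⟩
  have h1 : H ≤ (pPrimeCore r M).map M.subtype :=
    le_core hr (solv T hMa) (mem_C_comm.1 (hy'c hv)) ⟨1, by rw [hy'o, pow_one]⟩ hHc hHM
      (hy'e ▸ hHB) (hy'e ▸ inf_le_right.trans hBN)
  have h2 : H = (pPrimeCore r M).map M.subtype := by
    refine eq_of_le_of_card_ge h1 (Nat.le_of_dvd Nat.card_pos ?_)
    obtain ⟨k, hk⟩ := IsPGroup.iff_card.1 hRp
    have h3 : Nat.card B ∣ r ^ k * Nat.card H := by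
      have := H3.card_sup_dvd_of_le_normalizer (H := R) (N := H)
        ((map_subtype_le _).trans hBN)
      rwa [hRH, hk] at this
    have h4 : Nat.card ((pPrimeCore r M).map M.subtype) ∣ r ^ k * Nat.card H :=
      ((card_dvd_of_le (map_subtype_le _)).trans (hMa.trans hb.symm.dvd)).trans h3
    exact ((H3.map_pPrimeCore_coprime M).pow_right k).dvd_of_dvd_mul_left h4
  have hMN : M ≤ normalizer (H : Set G) := by
    rw [h2]; exact le_normalizer.trans (H3.normalizer_le_normalizer_map_pPrimeCore M)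
  obtain ⟨q, hq, hqa, hqr⟩ := exists_other hG T hr
  obtain ⟨h, hhB, hho, hhc⟩ := nil_central hN hq (hb ▸ hqa)
  have hh1 : h ≠ 1 := H15.ne_one_of_ord hq hho
  have hhe : B = Ce[h] := big_of_le T hy hb hh1 hhc
  have hhH : h ∈ H := by
    have h3 : zpowers h ≤ H := by
      refine H3.le_map_pPrimeCore ?_ (zpowers_le.2 hhB) ?_
      · rw [Nat.card_zpowers, hho]; exact (Nat.coprime_primes hq hr).2 hqr
      · rw [hhe, ← H15.C_zpowers]; exact centralizer_le_normalizer _
    exact h3 (mem_zpowers h)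
  have hMB : M ≤ normalizer (B : Set G) := by
    intro m hm
    have hmN := hMN hm
    have h3 : m * h * m⁻¹ ∈ H := (mem_normalizer_iff.1 hmN h).1 hhH
    have h4 : B ≤ Ce[m * h * m⁻¹] := by
      rw [← hRH]
      refine sup_le (fun b hb => mem_C_comm.1 (hcomm b (map_subtype_le _ hb) (hRo b hb) h3)) ?_
      intro b hb
      rw [mem_C_conj]
      refine hhc (hHB ?_)
      have := (mem_normalizer_iff.1 (inv_mem hmN) b).1 hb
      rwa [inv_inv] at this
    have h5 : B = Ce[m * h * m⁻¹] := big_of_le T hy hb (by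
      intro e; apply hh1
      rw [← orderOf_eq_one_iff, ← orderOf_conj m h, e, orderOf_one]) h4
    rw [hhe]
    exact mem_normalizer_C_of_conj (h5.symm.trans hhe)
  have h6 : Nat.card ↥(M ⊔ B) ∣ a := sub_dvd T (H3.coprime_card_sup_of_le_normalizer hMB
    (Nat.Coprime.coprime_dvd_left hMa T.cop) (hb ▸ T.cop))
  have h7 : B = M ⊔ B := eq_of_le_of_card_ge le_sup_right
    (by rw [hb]; exact Nat.le_of_dvd (a_pos T) h6)
  exact h7 ▸ le_sup_left

end Odd

theorem occ (hR : RegStmt.{u}) : OCCStmt.{u} := by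
  intro G _ _ _ hG a c β T y hy hb hN
  obtain ⟨x, hx, hxa⟩ := T.ex
  refine hR G hG Ce[y] x hN (fun v hv hv1 => ?_) hx (hxa.trans hb.symm)
  obtain ⟨k, r, hr, hk⟩ := exists_pow_prime' hv1
  exact (C_le_C_pow v k).trans (occ_prime hG T hy hb hN (pow_mem hv k) hr hk)

end Cfsg.Agent.H71.Rk
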