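import Mathlib
import Cfsg.Agent.H71.RkOcc
import Cfsg.Agent.H8.SylowIn
import Cfsg.Agent.S4034

/-! The configuration `OddH`: the local structure `OddS`. -/

set_option autoImplicit false
set_option linter.unusedSectionVars false

namespace Cfsg.Agent.H71.Rk

open Subgroup Cfsg.Agent.H92 Cfsg.Agent.H14.Rk
open scoped Pointwise

universe u

variable {G : Type u} [Group G] [Finite G] [IsSimpleGroup G] {a c β : ℕ}

/-- no big element has a nilpotent centralizer -/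
def NoNil (G : Type u) [Group G] (a : ℕ) : Prop :=
  ∀ y : G, y ≠ 1 → Nat.card Ce[y] = a → ¬ Group.IsNilpotent Ce[y]

theorem card_inf (T : OddH G a c β) {g w : G} (hw : w ≠ 1) (hb : Nat.card Ce[w] = a)
    (hg : g ∈ Ce[w]) (hco : (orderOf g).Coprime (orderOf w)) (hn : ¬ Ce[w] ≤ Ce[g]) :
    Nat.card ↥(Ce[g] ⊓ Ce[w]) = β := by
  have hc : Commute g w := mem_C.1 hg
  have h1 : g * w ≠ 1 := by rw [hc.eq]; exact H15.mul_ne_one_of_coprime hco.symm hw
  rw [← C_mul_of_coprime hc hco]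
  refine (pi' T h1 (cop_of_mem T hb.dvd (mul_mem hg (self_mem_C w)))).resolve_left fun h => hn ?_
  rw [C_mul_of_coprime hc hco] at h
  have := eq_of_le_of_card_ge (inf_le_right : Ce[g] ⊓ Ce[w] ≤ Ce[w]) (by rw [h, hb])
  exact this ▸ inf_le_left

theorem no_two (hNil : NilStmt.{u}) (T : OddH G a c β) (hO : NoNil G a) {y z : G} {p q : ℕ}
    (hp : p.Prime) (hq : q.Prime) (hyo : orderOf y = p) (hzo : orderOf z = q)
    (hb : Nat.card Ce[y] = a) (h : Ce[y] ≤ Ce[z]) : q = p := by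
  by_contra hne
  have hy : y ≠ 1 := H15.ne_one_of_ord hp hyo
  have hz : z ≠ 1 := H15.ne_one_of_ord hq hzo
  have he : Ce[y] = Ce[z] := big_of_le T hy hb hz h
  refine hO y hy hb (hNil Ce[y] β (solv T hb.dvd) fun r g hr hg hgc => ?_)
  rw [card_C_sub]
  have hn : ¬ Ce[y] ≤ Ce[(g : G)] := fun hle => hgc (mem_center_iff.2 fun b =>
    Subtype.ext (mem_C.1 (hle b.2)))
  have hg' : ∃ k, orderOf (g : G) = r ^ k := by rwa [Subgroup.orderOf_coe]
  by_cases hrp : r = p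
  · have hg2 : (g : G) ∈ Ce[z] := he ▸ g.2
    have := card_inf T hz (he ▸ hb) hg2
      (coprime_of_pow_of_pow hr hq (fun e => hne (e.symm.trans hrp)) hg' ⟨1, by rw [hzo, pow_one]⟩)
      (he ▸ hn)
    rwa [← he] at this
  · exact card_inf T hy hb g.2 (coprime_of_pow_of_pow hr hp hrp hg' ⟨1, by rw [hyo, pow_one]⟩) hn

theorem small_in (hNil : NilStmt.{u}) (T : OddH G a c β) (hO : NoNil G a) {y h : G} {p : ℕ}
    (hp : p.Prime) (hyo : orderOf y = p) (hb : Nat.card Ce[y] = a) (hh : h ∈ Ce[y]) (h1 : h ≠ 1)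
    (hph : ¬ p ∣ orderOf h) : Nat.card ↥(Ce[h] ⊓ Ce[y]) = β := by
  refine card_inf T (H15.ne_one_of_ord hp hyo) hb hh
    (hyo ▸ ((Nat.Prime.coprime_iff_not_dvd hp).2 hph).symm) fun hle => ?_
  obtain ⟨k, q, hq, hk⟩ := exists_pow_prime' h1
  have := no_two hNil T hO hp hq hyo hk hb (hle.trans (C_le_C_pow h k))
  exact hph (this ▸ hk ▸ orderOf_pow_dvd k)

theorem index_small (T : OddH G a c β) {l : ℕ} (hl : a = β * l) {K : Subgroup G}
    (hK : Nat.card K = β) : K.index = l * c := by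
  have h := K.card_mul_index
  rw [hK, T.card, hl, mul_assoc] at h
  exact Nat.eq_of_mul_eq_mul_left (hK ▸ Nat.card_pos) h

theorem l_prime (hNil : NilStmt.{u}) (T : OddH G a c β) (hO : NoNil G a) {l : ℕ} (hl : a = β * l)
    {y : G} {p s : ℕ} (hp : p.Prime) (hyo : orderOf y = p) (hb : Nat.card Ce[y] = a)
    (hs : s.Prime) (hsl : s ∣ l) : s = p := by
  by_contra hne
  have hsa : s ∣ a := hl ▸ hsl.mul_left β
  obtain ⟨z, hz, hzo, hi⟩ := H15.exists_central_of_not_dvd hs (T.card ▸ hsa.mul_right c)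
    (L := Ce[y]) (by rw [cs_big T hb]; exact not_dvd_c T hs hsa)
  have h1 := small_in hNil T hO hp hyo hb hz (H15.ne_one_of_ord hs hzo)
    (fun h => hne ((Nat.prime_dvd_prime_iff_eq hp hs).1 (hzo ▸ h)).symm)
  rw [inf_comm] at h1
  exact hi (index_small T hl h1 ▸ hsl.mul_right c)

theorem small_of (hNil : NilStmt.{u}) (T : OddH G a c β) (hO : NoNil G a) {l p : ℕ}
    (hl : a = β * l) (hp : p.Prime) (hpl : p ∣ l) {g : G} (hc : (orderOf g).Coprime c) {s : ℕ}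
    (hs : s.Prime) (hsg : s ∣ orderOf g) (hne : s ≠ p) : Nat.card Ce[g] = β := by
  have hg : g ≠ 1 := by
    rintro rfl
    rw [orderOf_one, Nat.dvd_one] at hsg
    exact hs.one_lt.ne' hsg
  refine (pi' T hg hc).resolve_left fun hb => hne ?_
  obtain ⟨k, hk⟩ := exists_pow_prime hs hsg
  have he := big_of_le T hg hb (H15.ne_one_of_ord hs hk) (C_le_C_pow g k)
  exact (l_prime hNil T hO hl hs hk (he ▸ hb) hp hpl).symm

theorem inverts (T : OddH G a c β) {K : Subgroup G} (hK : Nat.card K ∣ a) {t : G}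
    (ht : orderOf t = 2) (hn : t ∈ normalizer (K : Set G)) {k : G} (hk : k ∈ K) :
    t * k * t⁻¹ = k⁻¹ := by
  refine inv_of_fpf hn (by rw [← pow_two, ← ht, pow_orderOf_eq_one]) (fun w hw hc => ?_) hk
  by_contra h1
  have h2 := pi_dvd' T h1 (cop_of_mem T hK hw)
  have h3 : 2 ∣ a := (ht ▸ orderOf_dvd_natCard Ce[w] (mem_C.2 hc)).trans h2
  exact (Nat.not_even_iff_odd.2 T.odd) (even_iff_two_dvd.2 h3)

theorem inverts_C (T : OddH G a c β) {g t : G} (hK : Nat.card Ce[g] ∣ a)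
    (ht : orderOf t = 2) (hi : t * g * t⁻¹ = g⁻¹) {k : G} (hk : k ∈ Ce[g]) :
    t * k * t⁻¹ = k⁻¹ :=
  inverts T hK ht (mem_normalizer_C_of_conj (by rw [hi, C_inv])) hk

theorem not_inv_big (T : OddH G a c β) (hO : NoNil G a) {g t : G} (hg : g ≠ 1)
    (hb : Nat.card Ce[g] = a) (ht : orderOf t = 2) (hi : t * g * t⁻¹ = g⁻¹) : False := by
  refine hO g hg hb ?_
  have : IsMulCommutative Ce[g] := ⟨⟨fun x y => Subtype.ext (by
    have h1 := inverts_C T hb.dvd ht hi x.2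
    have h2 := inverts_C T hb.dvd ht hi y.2
    have h3 := inverts_C T hb.dvd ht hi (mul_mem x.2 y.2)
    have h4 : t * ((x : G) * y) * t⁻¹ = (t * x * t⁻¹) * (t * y * t⁻¹) := by group
    rw [h3, h1, h2, ← mul_inv_rev, inv_inj] at h4
    exact h4)⟩⟩
  exact H3.isNilpotent_of_isMulCommutative

theorem exists_H (hG : ¬ IsMulCommutative G) (hNil : NilStmt.{u}) (T : OddH G a c β)
    (hO : NoNil G a) {l p j : ℕ} (hl : a = β * l) (hp : p.Prime) (hj : l = p ^ j) {y : G}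
    (hyo : orderOf y = p) (hb : Nat.card Ce[y] = a) :
    ∃ (H : Subgroup G) (k : ℕ), H ≤ Ce[y] ∧ (∀ x ∈ H, ∀ z ∈ H, x * z = z * x) ∧
      ¬ p ∣ Nat.card H ∧ a = p ^ k * Nat.card H ∧ H ≠ ⊥ := by
  obtain ⟨H, hc, hH, k, hk⟩ := (S4034.result (G := Ce[y]) hp).1 fun x hx => by
    rw [ncard_carrier]
    by_cases h1 : x = 1
    · exact ⟨0, by rw [h1, cs_one, pow_zero]⟩
    · refine ⟨j, ?_⟩
      have h2 := small_in hNil T hO hp hyo hb x.2 (fun e => h1 (Subtype.ext e))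
        (by rw [Subgroup.orderOf_coe]; exact (Nat.Prime.coprime_iff_not_dvd hp).1 hx.symm)
      have h3 := cs_mul_card x
      rw [card_C_sub, h2, hb, hl, mul_comm] at h3
      rw [← hj]
      exact Nat.eq_of_mul_eq_mul_left (h2 ▸ Nat.card_pos) h3
  have h4 : a = p ^ k * Nat.card (H.map (Ce[y]).subtype) := by
    rw [H3.card_map_subtype, ← hk, index_mul_card, hb]
  refine ⟨H.map (Ce[y]).subtype, k, map_subtype_le _, ?_, by rwa [H3.card_map_subtype], h4, ?_⟩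
  · rintro _ ⟨x, hx, rfl⟩ _ ⟨z, hz, rfl⟩
    have := hc.is_comm.comm ⟨x, hx⟩ ⟨z, hz⟩
    exact congrArg (fun w : H => ((w : Ce[y]) : G)) this
  · intro e
    rw [e, card_bot, mul_one] at h4
    exact not_pow hG T hp k h4

theorem oddB_aux (hG : ¬ IsMulCommutative G) (hNil : NilStmt.{u}) (T : OddH G a c β)
    (hO : NoNil G a) : ∃ (p : ℕ) (P₁ H : Subgroup G), OddS G p P₁ H := by
  obtain ⟨y0, hy0, hb0⟩ := T.ey
  obtain ⟨i, p, hp, hyo⟩ := exists_pow_prime' hy0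
  set y := y0 ^ i with hy
  have : Fact p.Prime := ⟨hp⟩
  have hy1 : y ≠ 1 := H15.ne_one_of_ord hp hyo
  have hb : Nat.card Ce[y] = a := big_of_le T hy0 hb0 hy1 (C_le_C_pow y0 i) ▸ hb0
  clear_value y
  obtain ⟨l, hl⟩ := T.dvd
  have hl1 : l ≠ 1 := fun e => T.ne (by rw [hl, e, mul_one])
  have hl0 : l ≠ 0 := fun e => (a_pos T).ne' (by rw [hl, e, mul_zero])
  have hpl : p ∣ l := by
    obtain ⟨s, hs, hsl⟩ := Nat.exists_prime_and_dvd hl1
    exact l_prime hNil T hO hl hp hyo hb hs hsl ▸ hsl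
  obtain ⟨j, hj⟩ := (eq_pow_iff_forall hp hl0).2 fun s hs hsl =>
    l_prime hNil T hO hl hp hyo hb hs hsl
  have hpa : p ∣ a := hl ▸ hpl.mul_left β
  have hpc : ¬ p ∣ c := not_dvd_c T hp hpa
  obtain ⟨H, k, hHB, hHc, hpH, hak, hH0⟩ := exists_H hG hNil T hO hl hp hj hyo hb
  have hHa : Nat.card H ∣ a := hak ▸ dvd_mul_left _ _
  have hHi : H.index = p ^ k * c := by
    have h := H.card_mul_index
    rw [T.card, hak, mul_comm (p ^ k), mul_assoc] at h
    exact Nat.eq_of_mul_eq_mul_left Nat.card_pos h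
  have hHall : (Nat.card H).Coprime H.index := by
    rw [hHi]
    exact Nat.Coprime.mul_right (((Nat.Prime.coprime_iff_not_dvd hp).2 hpH).symm.pow_right k)
      (Nat.Coprime.coprime_dvd_left hHa T.cop)
  have hsm : ∀ h ∈ H, h ≠ 1 → ∀ g : G, (orderOf g).Coprime c → orderOf h ∣ orderOf g →
      Nat.card Ce[g] = β := by
    intro h hh h1 g hg hd
    obtain ⟨s, hs, hsh⟩ := Nat.exists_prime_and_dvd (n := orderOf h)
      (by rwa [Ne, orderOf_eq_one_iff])
    exact small_of hNil T hO hl hp hpl hg hs (hsh.trans hd)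
      fun e => hpH (e ▸ hsh.trans (orderOf_dvd_natCard H hh))
  have hsm' : ∀ h ∈ H, h ≠ 1 → Nat.card Ce[h] = β := fun h hh h1 =>
    hsm h hh h1 h (cop_of_mem T hHa hh) dvd_rfl
  obtain ⟨h0, hh0, h01⟩ := (H.bot_or_exists_ne_one).resolve_left hH0
  set W := Ce[h0] with hW
  have hWc : Nat.card W = β := hsm' h0 hh0 h01
  have hWa : Nat.card W ∣ a := hWc ▸ T.dvd
  have hHW : H ≤ W := fun x hx => mem_C.2 (hHc x hx h0 hh0)
  obtain ⟨P, hP⟩ := H8.exists_isSylowIn p W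
  have hPo : ∀ v ∈ P, ∃ k, orderOf v = p ^ k := fun v hv => by
    obtain ⟨k, hk⟩ := IsPGroup.iff_orderOf.1 hP.isPGroup ⟨v, hv⟩
    exact ⟨k, by rw [← hk, ← Subgroup.orderOf_coe]⟩
  have hPc : ∀ v ∈ P, W ≤ Ce[v] := by
    intro v hv
    have hvW := hP.le hv
    have hc : Commute v h0 := mem_C.1 hvW
    have hco : (orderOf v).Coprime (orderOf h0) := coprime_of_pow_of_not_dvd hp (hPo v hv)
      fun h => hpH (h.trans (orderOf_dvd_natCard H hh0))
    have h2 := hsm h0 hh0 h01 (v * h0) (cop_of_mem T hWa (mul_mem hvW (self_mem_C h0)))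
      (orderOf_dvd_of_mem_zpowers (mem_zpowers_mul_of_coprime' hc hco))
    rw [C_mul_of_coprime hc hco] at h2
    have := eq_of_le_of_card_ge (inf_le_right : Ce[v] ⊓ W ≤ W) (by rw [hWc]; exact h2.ge)
    exact this ▸ inf_le_left
  have hPH : P ⊔ H = W := by
    have hle : P ⊔ H ≤ W := sup_le hP.le hHW
    refine le_antisymm hle (relIndex_eq_one.1 ?_)
    have h1 : (P ⊔ H).relIndex W ∣ P.relIndex W := relIndex_dvd_of_le_left W le_sup_left
    have h2 : (P ⊔ H).relIndex W ∣ H.relIndex W := relIndex_dvd_of_le_left W le_sup_right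
    have h3 : H.relIndex W ∣ p ^ k := by
      have h4 : Nat.card H * H.relIndex W = Nat.card W := by
        have := H3.card_inf_mul_relIndex H W
        rwa [inf_of_le_left hHW] at this
      have h5 : Nat.card H * H.relIndex W ∣ Nat.card H * p ^ k := by
        rw [h4, mul_comm, ← hak]; exact hWa
      exact Nat.dvd_of_mul_dvd_mul_left Nat.card_pos h5
    have h6 : ((P ⊔ H).relIndex W).Coprime (p ^ k) :=
      ((Nat.Prime.coprime_iff_not_dvd hp).2 fun h => hP.not_dvd (h.trans h1)).symm.pow_right k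
    exact h6.eq_one_of_dvd (h2.trans h3)
  have hHc' : ∀ h ∈ H, W ≤ Ce[h] := by
    intro h hh
    rw [← hPH]
    exact sup_le (fun v hv => mem_C_comm.1 (hPc v hv (hHW hh))) fun x hx => mem_C.2 (hHc x hx h hh)
  have hWW : ∀ w ∈ W, W ≤ Ce[w] := by
    have : W ≤ centralizer (W : Set G) := by
      conv_lhs => rw [← hPH]
      exact sup_le (fun v hv => le_C_iff.1 (hPc v hv)) fun h hh => le_C_iff.1 (hHc' h hh)
    exact fun w hw => le_C_iff.2 (this hw)
  have hcent : ∀ h ∈ H, h ≠ 1 → Ce[h] = W := fun h hh h1 =>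
    (eq_of_le_of_card_ge (hHc' h hh) (by rw [hWc, hsm' h hh h1])).symm
  have hmem : ∀ w ∈ W, (∃ k, orderOf w = p ^ k) → w ∈ P := by
    rintro w hw ⟨k, hk⟩
    refine hP.le_of_le_normalizer' (Q := zpowers w)
      (IsPGroup.of_card ((Nat.card_zpowers w).trans hk)) (zpowers_le.2 hw)
      (zpowers_le.2 (centralizer_le_normalizer _ ?_)) (mem_zpowers w)
    exact le_C_iff.1 (hP.le.trans (hWW w hw))
  have hyW : y ∈ W := mem_C_comm.1 (hHB hh0)
  have hyP : y ∈ P := hmem y hyW ⟨1, by rw [hyo, pow_one]⟩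
  have hpi : ∀ g : G, (∃ k, orderOf g = p ^ k) → (orderOf g).Coprime c := fun g hg =>
    coprime_of_pow_of_not_dvd hp hg hpc
  have hHβ : Nat.card H ∣ β := hWc ▸ card_dvd_of_le hHW
  have hcover : ∀ g : G, (∃ k, orderOf g = p ^ k) → ∃ w : G, w * g * w⁻¹ ∈ P := by
    intro g hg
    by_cases hg1 : g = 1
    · exact ⟨1, by simp [hg1]⟩
    obtain ⟨s, hs, hsH⟩ := Nat.exists_prime_and_dvd (n := Nat.card H) (by rwa [Ne, card_eq_one])
    have : Fact s.Prime := ⟨hs⟩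
    have h1 : s ∣ Nat.card Ce[g] := by
      rcases pi' T hg1 (hpi g hg) with h | h
      · rw [h]; exact hsH.trans hHa
      · rw [h]; exact hsH.trans hHβ
    obtain ⟨v, hv, hvo⟩ := H15.exists_orderOf_prime_mem hs h1
    obtain ⟨S, hS⟩ := exists_sylow_le_of_not_dvd_index (p := s) (H := H) fun h =>
      hs.one_lt.ne' (Nat.eq_one_of_dvd_coprimes hHall hsH h)
    obtain ⟨w, hw⟩ := exists_conj_mem_sylow S (g := v) ⟨1, by rw [hvo, pow_one]⟩
    refine ⟨w, hmem _ ?_ (by rwa [orderOf_conj])⟩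
    rw [← hcent _ (hS hw) (H15.ne_one_of_ord hs ((orderOf_conj w v).trans hvo)), mem_C_conj,
      show w⁻¹ * (w * g * w⁻¹) * w = g by group]
    exact mem_C_comm.1 hv
  refine ⟨p, P, H, hp, ?_, hP.isPGroup, fun e => hy1 (by rwa [e, mem_bot] at hyP), hH0, hpH, hHall,
    fun h hh h1 => by rw [hcent h hh h1, hPH], ?_, hcover, ?_, ?_, ?_⟩
  · rintro rfl
    exact (Nat.not_even_iff_odd.2 T.odd) (even_iff_two_dvd.2 hpa)
  · intro x hx z hz
    rw [hPH] at hx hz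
    exact mem_C.1 (hWW z hz hx)
  · exact (index_small T hl hWc ▸ hpl.mul_right c).trans (index_dvd_of_le hP.le)
  · intro g hg1 hg
    rcases pi' T hg1 (hpi g hg) with h | h
    · exact ⟨⟨k, h.trans hak⟩, Or.inr (by rw [cs_big T h]; exact hpc)⟩
    · refine ⟨?_, Or.inl (by rw [h, hPH, hWc])⟩
      obtain ⟨m, hm⟩ := hHβ
      have h2 : Nat.card H * m ∣ Nat.card H * p ^ k := by
        rw [← hm, mul_comm, ← hak]; exact T.dvd
      obtain ⟨i, hi⟩ := eq_pow_of_dvd_pow hp (Nat.dvd_of_mul_dvd_mul_left Nat.card_pos h2)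
      exact ⟨i, by rw [h, hm, hi, mul_comm]⟩
  · intro X hX hXp
    by_contra hodd
    obtain ⟨t, ht, hto⟩ := H15.exists_orderOf_prime_mem Nat.prime_two
      (even_iff_two_dvd.1 (Nat.not_odd_iff_even.1 hodd))
    obtain ⟨n, hn⟩ := IsPGroup.iff_card.1 hXp
    have hXa : Nat.card X ∣ a := sub_dvd T (coprime_of_pow_of_not_dvd hp ⟨n, hn⟩ hpc)
    obtain ⟨v, hv, hv1⟩ := (X.bot_or_exists_ne_one).resolve_left hX
    have hvo : ∃ k, orderOf v = p ^ k := eq_pow_of_dvd_pow hp (hn ▸ orderOf_dvd_natCard X hv)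
    have hi := inverts T hXa hto ht hv
    obtain ⟨w, hw⟩ := hcover v hvo
    have h1 : w⁻¹ * y * w ∈ Ce[v] := mem_C_conj.1 (hPc _ hw hyW)
    have h2 := inverts_C T (pi_dvd' T hv1 (hpi v hvo)) hto hi h1
    refine not_inv_big T hO (H15.ne_one_of_ord hp ((orderOf_conj' w y).trans hyo)) ?_ hto h2
    rw [card_C_eq_of_cs_eq (cs_conj' w y), hb]

theorem oddB (hNil : NilStmt.{u}) (hO : OCCStmt.{u}) : OddBStmt.{u} :=
  fun G _ _ _ hG a c β T => oddB_aux hG hNil T (hO G hG a c β T)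

end Cfsg.Agent.H71.Rk
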