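import Cfsg.Agent.H7.T3Cx
import Cfsg.Agent.H62.T3Ba1
import Cfsg.Agent.H3.T3Ba3

/-! Formal properties of plane charts; planes over the same field are isomorphic. -/

set_option autoImplicit false

namespace Cfsg.Agent.H71.T3Pc

open Cfsg.Agent.H35 Cfsg.Agent.Lead.T3 Cfsg.Agent.Lead.T3.Bld Cfsg.Agent.H7.T3Cx
  Cfsg.Agent.H62.T3B

universe u

section Par

variable {F E : Type} [Field F] [Field E] {a b c : Fin 3 → F}

theorem par_refl (a : Fin 3 → F) : Par a a := ⟨1, one_ne_zero, (one_smul _ _).symm⟩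

theorem par_symm : Par a b → Par b a := fun ⟨s, h, e⟩ =>
  ⟨s⁻¹, inv_ne_zero h, by rw [e, inv_smul_smul₀ h]⟩

theorem par_trans : Par a b → Par b c → Par a c := fun ⟨s, h, e⟩ ⟨t, k, f⟩ =>
  ⟨t * s, mul_ne_zero k h, by rw [f, e, mul_smul]⟩

theorem par_congr {a' b' : Fin 3 → F} (h : Par a a') (k : Par b b') : Par a b ↔ Par a' b' :=
  ⟨fun e => par_trans (par_symm h) (par_trans e k), fun e => par_trans h (par_trans e (par_symm k))⟩

/-- a monomial semilinear map -/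
def sl (θ : F ≃+* E) (c : Fin 3 → E) (π : Equiv.Perm (Fin 3)) (a : Fin 3 → F) : Fin 3 → E :=
  fun k => c k * θ (a (π k))

variable {θ : F ≃+* E} {d : Fin 3 → E} {π : Equiv.Perm (Fin 3)}

theorem sl_smul (s : F) (a : Fin 3 → F) : sl θ d π (s • a) = θ s • sl θ d π a := by
  funext k; simp [sl, mul_left_comm]

theorem sl_inj (h : ∀ k, d k ≠ 0) (e : sl θ d π a = sl θ d π b) : a = b := funext fun k => by
  simpa [sl, h] using congrFun e (π.symm k)

theorem sl_zero : sl θ d π 0 = 0 := by funext k; simp [sl]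

theorem sl_ne (h : ∀ k, d k ≠ 0) : sl θ d π a ≠ 0 ↔ a ≠ 0 :=
  not_congr ⟨fun e => sl_inj h (e.trans sl_zero.symm), fun e => e ▸ sl_zero⟩

theorem sl_surj (h : ∀ k, d k ≠ 0) (b : Fin 3 → E) : ∃ a, sl θ d π a = b :=
  ⟨fun k => θ.symm ((d (π.symm k))⁻¹ * b (π.symm k)), funext fun k => by simp [sl, h]⟩

theorem par_sl (h : ∀ k, d k ≠ 0) : Par (sl θ d π a) (sl θ d π b) ↔ Par a b :=
  ⟨fun ⟨s, k, e⟩ => ⟨θ.symm s, by simpa using k, sl_inj h (by rw [sl_smul, e]; simp)⟩,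
    fun ⟨s, k, e⟩ => ⟨θ s, by simpa using k, by rw [e, sl_smul]⟩⟩

theorem par_sl' (h : ∀ k, d k ≠ 0) {b' : Fin 3 → E} (e : Par a b) (s : E) (hs : s ≠ 0)
    (k : b' = s • sl θ d π b) : Par (sl θ d π a) b' := par_trans ((par_sl h).2 e) ⟨s, hs, k⟩

end Par

variable {I W : Type} [Group W] {X : Cox I W} {C C' : Type u} {B : Bld X C} {σ : W → C} {i j : I}
  {F : Type} [Field F] {κ κ' : C → F} {p l : C → Fin 3 → F}

theorem ne_of_m (h : X.m i j = 3) : i ≠ j := fun e => by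
  rw [e, Cox.m, X.s_mul_s, orderOf_one] at h; omega

theorem braid (h : X.m i j = 3) : X.s j * X.s i * X.s j = X.s i * X.s j * X.s i := by
  have := wp_altw_m X i j
  rw [h] at this
  simpa [InvGen.altw, mul_assoc] using this.symm

theorem s_ne (i : I) : X.s i ≠ 1 := fun e => by simpa [e] using len_s X i

theorem left_mem (i j : I) : X.s i ∈ X.WJ {i, j} := s_mem X (by simp)

theorem right_mem (i j : I) : X.s j ∈ X.WJ {i, j} := s_mem X (by simp)

theorem apt_mem (hσ : B.Apt σ) {J : Set I} {w : W} (h : w ∈ X.WJ J) : σ w ∈ B.res J (σ 1) := by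
  change B.δ _ _ ∈ X.WJ J
  rwa [hσ, inv_one, one_mul]

theorem pan_mem {c x : C} {J : Set I} (hi : i ∈ J) (h : x ∈ B.pan c i) : x ∈ B.res J c :=
  show B.δ c x ∈ X.WJ J from (show B.δ c x = _ from h) ▸ s_mem X hi

/-- a chamber is determined by its flag -/
theorem flag_eq (hm : X.m i j = 3) (h : B.PCD σ i j F κ κ' p l) {x y : C}
    (hx : x ∈ B.res {i, j} (σ 1)) (hy : y ∈ B.res {i, j} (σ 1)) (e : Par (p x) (p y))
    (e' : Par (l x) (l y)) : x = y := by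
  rcases (mem_WJ_single X i _).1 ((h.ln x hx y hy).2 e') with k | k
  · exact (B.eq_one x y).1 k
  · exact absurd ((s_mem_iff X {j} i).1 (k ▸ (h.pt x hx y hy).2 e)) (ne_of_m hm)

theorem ln_pan (h : B.PCD σ i j F κ κ' p l) {x : C} (hx : x ∈ B.pan (σ 1) i) :
    Par (l x) ![0, 0, 1] := par_trans (par_symm ((h.ln _ (mem_res B _ _) x (pan_mem (by simp) hx)).1
      (pan_mem (J := {i}) rfl hx))) h.base.2

theorem pt_pan (h : B.PCD σ i j F κ κ' p l) {x : C} (hx : x ∈ B.pan (σ 1) j) :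
    Par (p x) ![1, 0, 0] := par_trans (par_symm ((h.pt _ (mem_res B _ _) x (pan_mem (by simp) hx)).1
      (pan_mem (J := {j}) rfl hx))) h.base.1

theorem swap (h : B.PC σ i j F κ κ') : B.PC σ j i F κ' κ := by
  obtain ⟨hm, p, l, h⟩ := h
  have hd : ∀ k, (![-1, 1, -1] : Fin 3 → F) k ≠ 0 := fun k => by fin_cases k <;> simp
  let T := sl (RingEquiv.refl F) ![-1, 1, -1] Fin.revPerm
  have e : ∀ a b, T a ⬝ᵥ T b = b ⬝ᵥ a := fun a b => by
    simp [T, sl, dotProduct, Fin.sum_univ_three, Fin.rev]; ring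
  refine ⟨(m_symm X i j).trans hm, fun x => T (l x), fun x => T (p x), ?_⟩
  constructor <;> try rw [Set.pair_comm j i]
  · exact fun x hx => ⟨(sl_ne hd).2 (h.ne x hx).2.1, (sl_ne hd).2 (h.ne x hx).1,
      (e _ _).trans (h.ne x hx).2.2⟩
  · exact fun x hx y hy => (h.ln x hx y hy).trans (par_sl hd).symm
  · exact fun x hx y hy => (h.pt x hx y hy).trans (par_sl hd).symm
  · intro a b ha hb k
    obtain ⟨a, rfl⟩ := sl_surj (θ := RingEquiv.refl F) (π := Fin.revPerm) hd a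
    obtain ⟨b, rfl⟩ := sl_surj (θ := RingEquiv.refl F) (π := Fin.revPerm) hd b
    obtain ⟨x, hx, k⟩ := h.sur b a ((sl_ne hd).1 hb) ((sl_ne hd).1 ha) ((e _ _).symm.trans k)
    exact ⟨x, hx, (par_sl hd).2 k.2, (par_sl hd).2 k.1⟩
  · exact ⟨par_sl' hd h.base.2 (-1) (by simp) (by funext k; fin_cases k <;> simp [sl, Fin.rev]),
      par_sl' hd h.base.1 (-1) (by simp) (by funext k; fin_cases k <;> simp [sl, Fin.rev])⟩
  · rw [braid hm]
    exact ⟨par_sl' hd h.opp.2 (-1) (by simp) (by funext k; fin_cases k <;> simp [sl, Fin.rev]),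
      par_sl' hd h.opp.1 (-1) (by simp) (by funext k; fin_cases k <;> simp [sl, Fin.rev])⟩
  · exact fun x hx => par_sl' hd (h.kj x hx) 1 one_ne_zero
      (by funext k; fin_cases k <;> simp [sl, Fin.rev])
  · exact fun x hx => par_sl' hd (h.ki x hx) 1 one_ne_zero
      (by funext k; fin_cases k <;> simp [sl, Fin.rev])

theorem par_aff {s t : F} (h : Par ![s, 1, 0] ![t, 1, 0]) : s = t := by
  obtain ⟨c, -, e⟩ := h
  have h1 := congrFun e 0
  have h2 := congrFun e 1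
  simp at h1 h2
  rw [h1, ← h2, one_mul]

theorem bij (h : B.PC σ i j F κ κ') : Set.BijOn κ (B.pan (σ 1) i) Set.univ := by
  obtain ⟨hm, p, l, h⟩ := h
  refine ⟨fun _ _ => trivial, fun x hx y hy e => flag_eq hm h (pan_mem (by simp) hx)
    (pan_mem (by simp) hy) (par_trans (h.ki x hx) (par_symm (e ▸ h.ki y hy)))
    (par_trans (ln_pan h hx) (par_symm (ln_pan h hy))), fun t _ => ?_⟩
  obtain ⟨x, hx, e, e'⟩ := h.sur ![t, 1, 0] ![0, 0, 1] (by simp) (by simp)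
    (by simp [dotProduct, Fin.sum_univ_three])
  rcases (mem_WJ_single X i _).1 ((h.ln _ (mem_res B _ _) x hx).2
    (par_trans h.base.2 (par_symm e'))) with k | k
  · obtain rfl := (B.eq_one _ _).1 k
    obtain ⟨c, -, k⟩ := par_trans (par_symm h.base.1) e
    simpa using congrFun k 1
  · exact ⟨x, k, par_aff (par_trans (par_symm (h.ki x k)) e)⟩

theorem base_zero (hσ : B.Apt σ) (h : B.PC σ i j F κ κ') : κ (σ (X.s i)) = 0 := by
  obtain ⟨-, p, l, h⟩ := h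
  have m1 := apt_mem hσ (left_mem (X := X) i j)
  have m2 := apt_mem hσ (mul_mem (left_mem (X := X) i j) (right_mem i j))
  have m3 := apt_mem hσ (mul_mem (mul_mem (left_mem (X := X) i j) (right_mem i j)) (left_mem i j))
  obtain ⟨a, -, e⟩ := par_trans ((h.pt _ m2 _ m1).1 (by
    rw [hσ, mul_inv_rev, inv_mul_cancel_right, InvGen.inv_s]; exact s_mem X rfl))
    (h.ki _ (by change B.δ _ _ = _; rw [hσ]; simp))
  obtain ⟨b, -, e'⟩ := par_trans ((h.ln _ m2 _ m3).1 (by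
    rw [hσ, inv_mul_cancel_left]; exact s_mem X rfl)) h.opp.2
  have k : (![1, 0, 0] : Fin 3 → F) ⬝ᵥ ![κ (σ (X.s i)), 1, 0] = 0 := by
    rw [e, e', smul_dotProduct, dotProduct_smul, (h.ne _ m2).2.2, smul_zero, smul_zero]
  simpa [dotProduct, Fin.sum_univ_three] using k

theorem semi (h : B.PC σ i j F κ κ') {E : Type} [Field E] (θ : F ≃+* E) {a b : E} {μ μ' : C → E}
    (ha : a ≠ 0) (hb : b ≠ 0) (h1 : ∀ x ∈ B.pan (σ 1) i, μ x = a * θ (κ x))
    (h2 : ∀ x ∈ B.pan (σ 1) j, μ' x = b * θ (κ' x)) : B.PC σ i j E μ μ' := by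
  obtain ⟨hm, p, l, h⟩ := h
  have hd : ∀ k, (![a, 1, b⁻¹] : Fin 3 → E) k ≠ 0 := fun k => by fin_cases k <;> simp [ha, hb]
  have hd' : ∀ k, (![a⁻¹, 1, b] : Fin 3 → E) k ≠ 0 := fun k => by fin_cases k <;> simp [ha, hb]
  have e : ∀ x y, sl θ ![a⁻¹, 1, b] 1 x ⬝ᵥ sl θ ![a, 1, b⁻¹] 1 y = θ (x ⬝ᵥ y) := fun x y => by
    simp [sl, dotProduct, Fin.sum_univ_three]; field_simp
  refine ⟨hm, fun x => sl θ ![a, 1, b⁻¹] 1 (p x), fun x => sl θ ![a⁻¹, 1, b] 1 (l x),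
    fun x hx => ⟨(sl_ne hd).2 (h.ne x hx).1, (sl_ne hd').2 (h.ne x hx).2.1, by
      rw [e, (h.ne x hx).2.2, map_zero]⟩, fun x hx y hy => (h.pt x hx y hy).trans (par_sl hd).symm,
    fun x hx y hy => (h.ln x hx y hy).trans (par_sl hd').symm, fun x y hx hy k => ?_,
    ⟨par_sl' hd h.base.1 a⁻¹ (inv_ne_zero ha) (by funext k; fin_cases k <;> simp [sl, ha]),
      par_sl' hd' h.base.2 b⁻¹ (inv_ne_zero hb) (by funext k; fin_cases k <;> simp [sl, hb])⟩,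
    ⟨par_sl' hd h.opp.1 b hb (by funext k; fin_cases k <;> simp [sl, hb]),
      par_sl' hd' h.opp.2 a ha (by funext k; fin_cases k <;> simp [sl, ha])⟩,
    fun x hx => par_sl' hd (h.ki x hx) 1 one_ne_zero
      (by funext k; fin_cases k <;> simp [sl, h1 x hx]),
    fun x hx => par_sl' hd' (h.kj x hx) 1 one_ne_zero
      (by funext k; fin_cases k <;> simp [sl, h2 x hx])⟩
  obtain ⟨x, rfl⟩ := sl_surj (θ := θ) (π := 1) hd x
  obtain ⟨y, rfl⟩ := sl_surj (θ := θ) (π := 1) hd' y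
  obtain ⟨z, hz, k⟩ := h.sur x y ((sl_ne hd).1 hx) ((sl_ne hd').1 hy) (by rwa [e, map_eq_zero] at k)
  exact ⟨z, hz, (par_sl hd).2 k.1, (par_sl hd').2 k.2⟩

theorem pc1Stmt : Pc1Stmt.{u} := fun _ _ _ _ _ _ _ _ hσ h =>
  ⟨swap h, ⟨bij h, base_zero hσ h⟩, fun _ _ θ _ _ _ _ => semi h θ⟩

theorem pc2Stmt : Pc2Stmt.{u} := by
  intro I W _ _ X C C' _ _ B B' σ σ' i j F _ κ κ' μ μ' f hσ hσ' ⟨hm, p, l, h⟩ ⟨_, p', l', h'⟩ fi fj
  have ex : ∀ x, ∃ y, x ∈ B.res {i, j} (σ 1) →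
      y ∈ B'.res {i, j} (σ' 1) ∧ Par (p' y) (p x) ∧ Par (l' y) (l x) := fun x => by
    by_cases hx : x ∈ B.res {i, j} (σ 1)
    · obtain ⟨y, k⟩ := h'.sur _ _ (h.ne x hx).1 (h.ne x hx).2.1 (h.ne x hx).2.2
      exact ⟨y, fun _ => k⟩
    · exact ⟨σ' 1, fun k => absurd k hx⟩
  choose φ hφ using ex
  have key : ∀ x ∈ B.res {i, j} (σ 1), ∀ y ∈ B'.res {i, j} (σ' 1), Par (p x) (p' y) →
      Par (l x) (l' y) → φ x = y := fun x hx y hy e e' =>
    flag_eq hm h' (hφ x hx).1 hy (par_trans (hφ x hx).2.1 e) (par_trans (hφ x hx).2.2 e')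
  have one : ∀ x ∈ B.res {i, j} (σ 1), ∀ y ∈ B.res {i, j} (σ 1), ∀ k ∈ ({i, j} : Set I),
      B'.δ (φ x) (φ y) ∈ X.WJ {k} ↔ B.δ x y ∈ X.WJ {k} := fun x hx y hy k hk => by
    rcases hk with rfl | rfl
    · rw [h.ln x hx y hy, h'.ln _ (hφ x hx).1 _ (hφ y hy).1, par_congr (hφ x hx).2.2 (hφ y hy).2.2]
    · rw [h.pt x hx y hy, h'.pt _ (hφ x hx).1 _ (hφ y hy).1, par_congr (hφ x hx).2.1 (hφ y hy).2.1]
  have adj : ∀ x ∈ B.res {i, j} (σ 1), ∀ y ∈ B.res {i, j} (σ 1), ∀ k ∈ ({i, j} : Set I),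
      B'.δ (φ x) (φ y) = X.s k ↔ B.δ x y = X.s k := fun x hx y hy k hk => by
    have e := one x hx y hy k hk
    have e' : B'.δ (φ x) (φ y) = 1 ↔ B.δ x y = 1 := by
      rw [B.eq_one, B'.eq_one]
      exact ⟨fun a => flag_eq hm h hx hy (par_trans (par_symm (hφ x hx).2.1) (a ▸ (hφ y hy).2.1))
        (par_trans (par_symm (hφ x hx).2.2) (a ▸ (hφ y hy).2.2)), congrArg φ⟩
    rw [mem_WJ_single, mem_WJ_single] at e
    exact ⟨fun a => (e.1 (.inr a)).resolve_left fun b => s_ne k (a.symm.trans (e'.2 b)),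
      fun a => (e.2 (.inr a)).resolve_left fun b => s_ne k (a.symm.trans (e'.1 b))⟩
  have iso := (H3.T3Ba3.ba3Stmt cxStmt ba1Stmt B B').1 {i, j} (σ 1) φ fun x hx k hk y hy =>
    (adj x hx y (H3.T3Ba3.adj_mem B hx hk hy) k hk).2 hy
  have w0 : X.wJ {i, j} = X.s i * X.s j * X.s i := by
    rw [wJ_pair, hm]; simp [InvGen.altw, mul_assoc]
  have e1 : φ (σ 1) = σ' 1 := key _ (mem_res B _ _) _ (mem_res B' _ _)
    (par_trans h.base.1 (par_symm h'.base.1)) (par_trans h.base.2 (par_symm h'.base.2))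
  have e2 : φ (σ (X.wJ {i, j})) = σ' (X.wJ {i, j}) :=
    key _ (apt_mem hσ (wJ_mem X _)) _ (apt_mem hσ' (wJ_mem X _))
      (w0 ▸ par_trans h.opp.1 (par_symm h'.opp.1)) (w0 ▸ par_trans h.opp.2 (par_symm h'.opp.2))
  refine ⟨φ, iso.2 fun x hx k hk z hz => ?_, fun w hw => ?_, fun k hk x hx => ?_⟩
  · have hz' := H3.T3Ba3.adj_mem B' (hφ x hx).1 hk hz
    obtain ⟨y, hy, a, b⟩ := h.sur _ _ (h'.ne z hz').1 (h'.ne z hz').2.1 (h'.ne z hz').2.2
    obtain rfl := key y hy z hz' a b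
    exact ⟨y, (adj x hx y hy k hk).1 hz, rfl⟩
  · have a : B'.δ (σ' 1) (φ (σ w)) = (1 : W)⁻¹ * w := by
      rw [← e1, iso.1 _ (mem_res B _ _) _ (apt_mem hσ hw), hσ]
    have b : B'.δ (φ (σ w)) (σ' (X.wJ {i, j})) = w⁻¹ * X.wJ {i, j} := by
      rw [← e2, iso.1 _ (apt_mem hσ hw) _ (apt_mem hσ (wJ_mem X _)), hσ]
    refine between_unique B' (a.trans (hσ' _ _).symm) (b.trans (hσ' _ _).symm) ?_
    have := len_mul_wJ X (inv_mem hw)
    rw [a, b, hσ', inv_one, one_mul, one_mul, ← this, InvGen.len_inv, add_comm]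
  · rcases hk with rfl | rfl
    · exact key x (pan_mem (by simp) hx) _ (pan_mem (by simp) (fi x hx).1)
        (par_trans (h.ki x hx) (par_symm ((fi x hx).2 ▸ h'.ki _ (fi x hx).1)))
        (par_trans (ln_pan h hx) (par_symm (ln_pan h' (fi x hx).1)))
    · exact key x (pan_mem (by simp) hx) _ (pan_mem (by simp) (fj x hx).1)
        (par_trans (pt_pan h hx) (par_symm (pt_pan h' (fj x hx).1)))
        (par_trans (h.kj x hx) (par_symm ((fj x hx).2 ▸ h'.kj _ (fj x hx).1)))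

end Cfsg.Agent.H71.T3Pc
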